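import Cfsg.Agent.Lib.Clifford.Basic
import Cfsg.Agent.Lib.BlockLocal.BlockCover
import Cfsg.Agent.Lib.BlockLocal.NormalInduce
import Cfsg.Agent.Lib.BrauerPairs.BridgeConj
import Cfsg.Agent.Lib.BrauerPairs.Lift
import Cfsg.Agent.Lib.BrauerPairs.Trace
import Cfsg.Agent.Lib.BrauerPairs.InducedBridge
import Cfsg.Agent.Lib.BrauerPairs.BridgeDefect
import Cfsg.Agent.Lib.Blocks.Defect
import Cfsg.Agent.Lib.Frobenius.Induce

/-!
# The Fong–Reynolds correspondence

`N` is normal in `G`, `b` is a block of `N` and `T` its stabiliser.  Induction is a bijection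
between the blocks of `T` over `b` and the blocks of `G` over `b`, exact on characters and on
block idempotent coefficients.
-/

set_option autoImplicit false
set_option linter.style.haveILetI false
set_option linter.unusedSectionVars false

open scoped ComplexConjugate

noncomputable section

namespace CfsgLib.CharDegreesTheory

open Cfsg CfsgLib.Blocks

variable {G : Type*} [Group G] [Fintype G] {N : Subgroup G} [hN : N.Normal] [Fintype N]

/-- The inertia group of a function on a normal subgroup. -/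
def inertiaOf (N : Subgroup G) [N.Normal] (θ : N → ℂ) : Subgroup G where
  carrier := {g | Clifford.conjChar N θ g = θ}
  one_mem' := Clifford.conjChar_one N θ
  mul_mem' := by
    intro a b ha hb
    simp only [Set.mem_ofPred_eq] at ha hb ⊢
    rw [← Clifford.conjChar_conjChar, ha, hb]
  inv_mem' := by
    intro a ha
    simp only [Set.mem_ofPred_eq] at ha ⊢
    conv_lhs => rw [← ha]
    rw [Clifford.conjChar_conjChar, mul_inv_cancel, Clifford.conjChar_one]

theorem conjIrr_inv_eq_conjChar (g : G) (θ : IrrCharacter N) :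
    (BlockLocal.conjIrr N g⁻¹ θ : N → ℂ) = Clifford.conjChar N (θ : N → ℂ) g := by
  funext n
  rw [BlockLocal.conjIrr_apply, inv_inv, Clifford.conjChar_eq_comp]

variable {M : Ideal AlgInt} [hMp : M.IsPrime]

/-- An element moving one member of a block into the block moves all of them into it. -/
theorem conjIrr_mem_of_mem {b : Set (IrrCharacter N)} (hb : IsPBlock M b) {g : G}
    {θ η : IrrCharacter N} (hθ : θ ∈ b) (hθg : BlockLocal.conjIrr N g θ ∈ b) (hη : η ∈ b) :
    BlockLocal.conjIrr N g η ∈ b := by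
  have h := BlockLocal.sameBlock_conjIrr (M := M) N g (sameBlock_of_mem hb hθ hη)
  exact mem_of_sameBlock hb hθg h

variable {T : Subgroup G} [Fintype T]

/-- A character of `T` lies over `b`. -/
abbrev OverBlock (hNT : N ≤ T) (b : Set (IrrCharacter N)) (ψ : IrrCharacter T) : Prop :=
  ∃ θ ∈ b, classInner (fun n : N => (ψ : T → ℂ) ⟨(n : G), hNT n.2⟩) (θ : N → ℂ) ≠ 0

theorem classInner_subgroupOf (hNT : N ≤ T) [Fintype (N.subgroupOf T)] (φ : T → ℂ) (η : N → ℂ) :
    classInner (fun x : N.subgroupOf T => φ x)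
        (fun x => η (Subgroup.subgroupOfEquivOfLe hNT x)) =
      classInner (fun n : N => φ ⟨(n : G), hNT n.2⟩) η :=
  Clifford.classInner_comp_mulEquiv (Subgroup.subgroupOfEquivOfLe hNT)
    (fun n : N => φ ⟨(n : G), hNT n.2⟩) η

/-- Multiplicities in a restriction from `T` are constant on `T`-conjugates. -/
theorem classInner_res_conj_of_mem (hNT : N ≤ T) (ψ : IrrCharacter T) {θ : N → ℂ} {g : G}
    (hg : g ∈ T) :
    classInner (fun n : N => (ψ : T → ℂ) ⟨(n : G), hNT n.2⟩) (Clifford.conjChar N θ g) =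
      classInner (fun n : N => (ψ : T → ℂ) ⟨(n : G), hNT n.2⟩) θ := by
  have := Fintype.ofFinite (N.subgroupOf T)
  rw [← classInner_subgroupOf hNT, ← classInner_subgroupOf hNT]
  have h := Clifford.classInner_conjChar (N.subgroupOf T)
    (CharTheory.IsIrrCharacter.isClassFunction ψ.2)
    (fun x => θ (Subgroup.subgroupOfEquivOfLe hNT x)) ⟨g, hg⟩
  refine Eq.trans ?_ h
  refine congrArg _ (funext fun x => ?_)
  simp only [Clifford.conjChar_apply]
  exact congrArg θ (Subtype.ext rfl)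

variable {b : Set (IrrCharacter N)}

/-- The degree of a character of `T` over `θ`. -/
theorem apply_one_eq_of_le (hNT : N ≤ T) (θ : IrrCharacter N)
    (ψ : IrrCharacter T)
    (h : classInner (fun n : N => (ψ : T → ℂ) ⟨(n : G), hNT n.2⟩) (θ : N → ℂ) ≠ 0) :
    (ψ : T → ℂ) 1 = classInner (fun n : N => (ψ : T → ℂ) ⟨(n : G), hNT n.2⟩) (θ : N → ℂ) *
      ((inertiaOf N (θ : N → ℂ)).relIndex T : ℂ) * (θ : N → ℂ) 1 := by
  have := Fintype.ofFinite (N.subgroupOf T)
  set σ := Subgroup.subgroupOfEquivOfLe hNT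
  have h1 := Clifford.apply_one_eq (N.subgroupOf T) ψ.2
    (CharTheory.isIrrCharacter_comp_mulEquiv θ.2 σ) (by rwa [classInner_subgroupOf hNT])
  rw [classInner_subgroupOf hNT, Clifford.card_conjOrbit (N.subgroupOf T) _
    ((inertiaOf N (θ : N → ℂ)).subgroupOf T) (fun t => ?_)] at h1
  · simp only [map_one] at h1
    rw [h1]
    rfl
  · rw [Subgroup.mem_subgroupOf]
    constructor
    · intro ht
      funext x
      exact (congrArg (θ : N → ℂ) (Subtype.ext rfl)).trans (congrFun ht (σ x))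
    · intro ht
      show Clifford.conjChar N (θ : N → ℂ) t = θ
      funext n
      have := congrFun ht (σ.symm n)
      simp only [Clifford.conjChar_apply, MulEquiv.apply_symm_apply] at this
      exact (congrArg (θ : N → ℂ) (Subtype.ext rfl)).trans this

/-- A character of `T` over `b` induces to an irreducible character, and is the only constituent
over `b` of its restriction. -/
theorem exists_induced_over (hb : IsPBlock M b)
    (hT : ∀ g : G, g ∈ T ↔ ∀ θ ∈ b, BlockLocal.conjIrr N g θ ∈ b) (hNT : N ≤ T)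
    (ψ : IrrCharacter T) (hψ : OverBlock hNT b ψ) :
    ∃ χ : IrrCharacter G, (χ : G → ℂ) = indFun T (ψ : T → ℂ) ∧
      (∃ θ ∈ b, classInner (fun n : N => (χ : G → ℂ) n) (θ : N → ℂ) ≠ 0) ∧
      ∀ η : IrrCharacter T, classInner (fun t : T => (χ : G → ℂ) t) (η : T → ℂ) ≠ 0 →
        OverBlock hNT b η → η = ψ := by
  classical
  obtain ⟨θ, hθ, h1⟩ := hψ
  letI : Fintype (IrrCharacter G) := Fintype.ofFinite _
  have hmemT : ∀ g : G, ∀ η ∈ b, BlockLocal.conjIrr N g η ∈ b → g ∈ T := fun g η hη hg =>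
    (hT g).2 fun ξ hξ => conjIrr_mem_of_mem hb hη hg hξ
  set I := inertiaOf N (θ : N → ℂ) with hI
  have hIT : I ≤ T := fun g hg => by
    have h : g⁻¹ ∈ T := hmemT g⁻¹ θ hθ (by
      rw [show BlockLocal.conjIrr N g⁻¹ θ = θ from
        Subtype.ext ((conjIrr_inv_eq_conjChar g θ).trans hg)]
      exact hθ)
    simpa using inv_mem h
  obtain ⟨m, hm⟩ := CharTheory.IsCharacter.exists_sum
    (Frobenius.isCharacter_indFun T _ (CharTheory.IsIrrCharacter.isCharacter ψ.2))
  obtain ⟨χ, hχm⟩ : ∃ χ : IrrCharacter G, m χ ≠ 0 := by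
    by_contra h0
    push Not at h0
    have := congrFun hm 1
    simp only [h0, Nat.cast_zero, zero_smul, Finset.sum_const_zero, Pi.zero_apply,
      Frobenius.indFun_one] at this
    exact mul_ne_zero (Nat.cast_ne_zero.2 Subgroup.index_ne_zero_of_finite)
      (CharTheory.apply_one_ne_zero_of_isIrr ψ.2) this
  have hψχ : classInner (fun t : T => (χ : G → ℂ) t) (ψ : T → ℂ) ≠ 0 := fun h0 => by
    have e : classInner (indFun T (ψ : T → ℂ)) (χ : G → ℂ) = (m χ : ℂ) := by
      rw [hm]; exact CharTheory.classInner_sum_irr _ χ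
    rw [Frobenius.classInner_indFun T _ _ (CharTheory.IsIrrCharacter.isClassFunction χ.2),
      CharTheory.classInner_conj_symm, h0, map_zero] at e
    exact hχm (by exact_mod_cast e.symm)
  obtain ⟨a, e, ha, he, hle⟩ := Clifford.classInner_res_le hNT
    (CharTheory.IsIrrCharacter.isCharacter χ.2) θ.2 {ψ}
    (fun φ hφ => by rw [Finset.mem_singleton.1 hφ]; exact hψχ)
  rw [Finset.sum_singleton] at hle
  have he0 : e ψ ≠ 0 := fun h0 => h1 (by rw [he ψ, h0, Nat.cast_zero])
  have ha0 : classInner (fun n : N => (χ : G → ℂ) n) (θ : N → ℂ) ≠ 0 := by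
    rw [ha]; exact_mod_cast fun h0 : a = 0 => he0 (by omega)
  have hψ1 := apply_one_eq_of_le hNT θ ψ h1
  rw [he ψ] at hψ1
  have hχ1 := Clifford.apply_one_eq N χ.2 θ.2 ha0
  rw [ha, Clifford.card_conjOrbit N (θ : N → ℂ) I (fun g => Iff.rfl),
    ← Subgroup.relIndex_mul_index hIT] at hχ1
  choose d hdpos hd using fun φ : IrrCharacter G => CharTheory.exists_degree_of_isIrr φ.2
  obtain ⟨t, ht0, ht⟩ := CharTheory.exists_degree_of_isIrr θ.2
  set r := I.relIndex T with hr
  have hdχ : d χ = a * (r * T.index) * t := by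
    rw [hd, ht] at hχ1; exact_mod_cast hχ1
  have htot : T.index * (e ψ * r * t) = ∑ φ, m φ * d φ := by
    have h := congrFun hm 1
    rw [Frobenius.indFun_one, hψ1, ht] at h
    simp only [Finset.sum_apply, Pi.smul_apply, smul_eq_mul, hd] at h
    exact_mod_cast h
  rw [← Finset.add_sum_erase _ _ (Finset.mem_univ χ), hdχ] at htot
  have hpos : 0 < T.index * r * t :=
    Nat.mul_pos (Nat.mul_pos (Nat.pos_of_ne_zero Subgroup.index_ne_zero_of_finite)
      (Nat.pos_of_ne_zero Subgroup.index_ne_zero_of_finite)) ht0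
  set R := ∑ φ ∈ Finset.univ.erase χ, m φ * d φ with hR
  have h5 : T.index * r * t * e ψ = T.index * r * t * (m χ * a) + R := by
    calc T.index * r * t * e ψ = T.index * (e ψ * r * t) := by ring
      _ = m χ * (a * (r * T.index) * t) + R := htot
      _ = _ := by ring
  have h6 : T.index * r * t * a ≤ T.index * r * t * (m χ * a) :=
    Nat.mul_le_mul_left _ (Nat.le_mul_of_pos_left _ (Nat.pos_of_ne_zero hχm))
  have h7 : T.index * r * t * e ψ ≤ T.index * r * t * a := Nat.mul_le_mul_left _ hle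
  have hRzero : R = 0 := by omega
  have hea : a = e ψ := Nat.eq_of_mul_eq_mul_left hpos (by omega)
  have hm1 : m χ = 1 := by
    have h8 : T.index * r * t * (m χ * a) = T.index * r * t * (1 * a) := by
      rw [one_mul]; omega
    exact Nat.eq_of_mul_eq_mul_right (Nat.pos_of_ne_zero fun h0 : a = 0 => he0 (by omega))
      (Nat.eq_of_mul_eq_mul_left hpos h8)
  have hind : indFun T (ψ : T → ℂ) = (χ : G → ℂ) := by
    rw [hm, Finset.sum_eq_single χ (fun φ _ hne => ?_) (fun h => absurd (Finset.mem_univ χ) h),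
      hm1, Nat.cast_one, one_smul]
    have := Finset.sum_eq_zero_iff.1 hRzero φ (Finset.mem_erase.2 ⟨hne, Finset.mem_univ φ⟩)
    rcases Nat.mul_eq_zero.1 this with h | h
    · rw [h, Nat.cast_zero, zero_smul]
    · exact absurd h (hdpos φ).ne'
  refine ⟨χ, hind.symm, ⟨θ, hθ, ha0⟩, fun η hη hηb => ?_⟩
  by_contra hne
  obtain ⟨θ', hθ', hηθ'⟩ := hηb
  obtain ⟨a', e', ha', he', hle'⟩ := Clifford.classInner_res_le hNT
    (CharTheory.IsIrrCharacter.isCharacter χ.2) θ'.2 {η}
    (fun φ hφ => by rw [Finset.mem_singleton.1 hφ]; exact hη)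
  rw [Finset.sum_singleton] at hle'
  have ha0' : classInner (fun n : N => (χ : G → ℂ) n) (θ' : N → ℂ) ≠ 0 := by
    rw [ha']
    have : e' η ≠ 0 := fun h0 => hηθ' (by rw [he' η, h0, Nat.cast_zero])
    exact_mod_cast fun h0 : a' = 0 => this (by omega)
  obtain ⟨g, hg⟩ := Clifford.exists_conj_of_constituents N χ.2 θ.2 θ'.2 ha0 ha0'
  have hgT : g ∈ T := by
    have h : g⁻¹ ∈ T := hmemT g⁻¹ θ hθ (by
      rw [show BlockLocal.conjIrr N g⁻¹ θ = θ' from
        Subtype.ext ((conjIrr_inv_eq_conjChar g θ).trans hg.symm)]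
      exact hθ')
    simpa using inv_mem h
  rw [hg, classInner_res_conj_of_mem hNT η hgT] at hηθ'
  obtain ⟨a₂, e₂, ha₂, he₂, hle₂⟩ := Clifford.classInner_res_le hNT
    (CharTheory.IsIrrCharacter.isCharacter χ.2) θ.2 {ψ, η} (fun φ hφ => by
      rcases Finset.mem_insert.1 hφ with rfl | hφ
      · exact hψχ
      · rw [Finset.mem_singleton.1 hφ]; exact hη)
  rw [Finset.sum_pair (Ne.symm hne)] at hle₂
  have haa : a₂ = a := by exact_mod_cast ha₂.symm.trans ha
  have hee : e₂ ψ = e ψ := by exact_mod_cast (he₂ ψ).symm.trans (he ψ)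
  exact hηθ' (by rw [he₂ η, show e₂ η = 0 by omega, Nat.cast_zero])

/-- All members of a block of `T` over `b` lie over `b`. -/
theorem overBlock_of_mem (hb : IsPBlock M b) (hNT : N ≤ T)
    {B' : Set (IrrCharacter T)} (hB' : IsPBlock M B') {ψ₀ ψ : IrrCharacter T} (h₀ : ψ₀ ∈ B')
    (hψ₀ : OverBlock hNT b ψ₀) (hψ : ψ ∈ B') : OverBlock hNT b ψ := by
  classical
  have := Fintype.ofFinite (N.subgroupOf T)
  have := Fintype.ofFinite (IrrCharacter (N.subgroupOf T))
  set σ := Subgroup.subgroupOfEquivOfLe hNT with hσ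
  have hb₀ := BrauerPairs.isPBlock_image_compIrr σ hb
  obtain ⟨θ, hθ, h⟩ := hψ₀
  obtain ⟨ξ, hξ⟩ := BlockLocal.exists_constituent (N.subgroupOf T) ψ
  obtain ⟨t, η, ⟨η₁, hη₁, rfl⟩, rfl⟩ := (BlockLocal.mem_orbitSet (N.subgroupOf T)).1
    (BlockLocal.mem_orbitSet_of_constituent (N.subgroupOf T) hb₀
      (sameBlock_of_mem hB' h₀ hψ) ⟨θ, hθ, rfl⟩
      (by rw [← classInner_subgroupOf hNT] at h; exact h) hξ)
  rw [BlockLocal.classInner_res_conjIrr] at hξ
  refine ⟨η₁, hη₁, ?_⟩
  rw [← classInner_subgroupOf hNT]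
  exact hξ

/-- The induced central character is the central character of an induced character. -/
theorem inducedCentralChar_eq_centralChar (ψ : IrrCharacter T) (g : G) :
    inducedCentralChar T (ψ : T → ℂ) g = centralChar (indFun T (ψ : T → ℂ)) g := by
  classical
  have hc : IsClassFunction G (indFun T (ψ : T → ℂ)) :=
    CharTheory.IsCharacter.isClassFunction
      (Frobenius.isCharacter_indFun T _ (CharTheory.IsIrrCharacter.isCharacter ψ.2))
  rw [← BlockLocal.sum_conj_extend_eq_inducedCentralChar, ← BlockLocal.sum_conj_eq_centralChar hc,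
    ← Finset.sum_div, Frobenius.indFun_one]
  set a : G → ℂ := fun x => if IsConj g x then 1 else 0 with ha
  have hac : IsClassFunction G a := fun x c => by simp only [a, isConj_conj_iff]
  have h := Frobenius.classInner_indFun T (ψ : T → ℂ) a hac
  simp only [classInner] at h
  have hL : ∑ x, indFun T (ψ : T → ℂ) x * conj (a x) =
      ∑ x ∈ Finset.univ.filter (IsConj g), indFun T (ψ : T → ℂ) x := by
    rw [Finset.sum_filter]
    refine Finset.sum_congr rfl fun x _ => ?_
    simp only [a]; split_ifs <;> simp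
  have hR : ∑ x ∈ Finset.univ.filter (IsConj g),
      extendByZero T (fun k => (ψ : T → ℂ) k / (ψ : T → ℂ) 1) x =
      (∑ k : T, (ψ : T → ℂ) k * conj (a k)) / (ψ : T → ℂ) 1 := by
    rw [← Frobenius.sum_extendByZero_mul T (ψ : T → ℂ) (fun x => conj (a x)), Finset.sum_div,
      Finset.sum_filter]
    refine Finset.sum_congr rfl fun x _ => ?_
    by_cases hx : x ∈ T
    · rw [Frobenius.extendByZero_of_mem _ _ hx, Frobenius.extendByZero_of_mem _ _ hx]
      simp only [a]; split_ifs <;> simp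
    · rw [Frobenius.extendByZero_of_not_mem _ _ hx, Frobenius.extendByZero_of_not_mem _ _ hx]
      simp
  rw [hR, ← hL]
  rw [inv_mul_eq_iff_eq_mul₀ (by exact_mod_cast Nat.card_pos.ne')] at h
  have hidx : (T.index : ℂ) * (Nat.card T : ℂ) = (Nat.card G : ℂ) := by
    exact_mod_cast T.index_mul_card
  rw [h, ← hidx]
  have h1 := CharTheory.apply_one_ne_zero_of_isIrr ψ.2
  have h2 : (T.index : ℂ) ≠ 0 := Nat.cast_ne_zero.2 Subgroup.index_ne_zero_of_finite
  have h3 : (Nat.card T : ℂ) ≠ 0 := by exact_mod_cast Nat.card_pos.ne'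
  field_simp

/-- A class function induced, as a sum over cosets. -/
theorem indFun_eq_sum_coset [Fintype (G ⧸ T)] {β : T → ℂ} (hβ : IsClassFunction T β) (g : G) :
    indFun T β g = ∑ q : G ⧸ T, extendByZero T β (q.out⁻¹ * g * q.out) := by
  classical
  rw [indFun, ← Finset.sum_fiberwise (g := fun x : G => (QuotientGroup.mk x : G ⧸ T)),
    Finset.mul_sum]
  refine Finset.sum_congr rfl fun q _ => ?_
  have hconst : ∀ x ∈ Finset.univ.filter (fun x : G => (QuotientGroup.mk x : G ⧸ T) = q),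
      extendByZero T β (x⁻¹ * g * x) = extendByZero T β (q.out⁻¹ * g * q.out) := by
    intro x hx
    have hm : q.out⁻¹ * x ∈ T := QuotientGroup.eq.1
      ((QuotientGroup.out_eq' q).trans (Finset.mem_filter.1 hx).2.symm)
    have := Frobenius.extendByZero_conj_mem T β hβ (q.out⁻¹ * g * q.out) (inv_mem hm)
    rw [← this]
    congr 1
    group
  rw [Finset.sum_congr rfl hconst, Finset.sum_const, nsmul_eq_mul]
  have hcard : (Finset.univ.filter (fun x : G => (QuotientGroup.mk x : G ⧸ T) = q)).card =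
      Nat.card T := by
    rw [Nat.card_eq_fintype_card, ← Finset.card_univ]
    refine Finset.card_bij' (fun x hx => (⟨q.out⁻¹ * x, QuotientGroup.eq.1
        ((QuotientGroup.out_eq' q).trans (Finset.mem_filter.1 hx).2.symm)⟩ : T))
      (fun t _ => q.out * (t : G)) (fun _ _ => Finset.mem_univ _) (fun t _ => ?_)
      (fun x _ => by simp) (fun t _ => Subtype.ext (by simp))
    refine Finset.mem_filter.2 ⟨Finset.mem_univ _, ?_⟩
    rw [QuotientGroup.mk_mul_of_mem _ t.2, QuotientGroup.out_eq']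
  rw [hcard, ← mul_assoc, inv_mul_cancel₀ (by exact_mod_cast Nat.card_pos.ne'), one_mul]

/-- Induced block coefficients are local. -/
theorem memLocalRing_indFun_blockCoeff {B' : Set (IrrCharacter T)} (hB' : IsPBlock M B') (g : G) :
    MemLocalRing M (indFun T (blockCoeff B') g) := by
  classical
  have := Fintype.ofFinite (G ⧸ T)
  rw [indFun_eq_sum_coset (fun x c => blockCoeff_conj B' c x)]
  refine memLocalRing_sum fun q _ => ?_
  by_cases h : q.out⁻¹ * g * q.out ∈ T
  · rw [Frobenius.extendByZero_of_mem _ _ h]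
    exact memLocalRing_blockCoeff hB' _
  · rw [Frobenius.extendByZero_of_not_mem _ _ h]
    exact memLocalRing_of_memLocalIdeal memLocalIdeal_zero

/-- Induced central characters of congruent characters are congruent. -/
theorem memLocalIdeal_inducedCentralChar_sub_of_sameBlock {ψ φ : IrrCharacter T}
    (h : SameBlock M (ψ : T → ℂ) (φ : T → ℂ)) (g : G) :
    MemLocalIdeal M (inducedCentralChar T (ψ : T → ℂ) g - inducedCentralChar T (φ : T → ℂ) g) := by
  classical
  let a : G → ℂ := fun x => if IsConj g x then 1 else 0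
  have hsum : ∀ ξ : IrrCharacter T, inducedCentralChar T (ξ : T → ℂ) g =
      (∑ t : T, a t * (ξ : T → ℂ) t) / (ξ : T → ℂ) 1 := fun ξ => by
    rw [inducedCentralChar, finsum_mem_eq_finite_toFinset_sum _ (Set.toFinite _),
      Finset.sum_div, ← Finset.sum_filter_add_sum_filter_not Finset.univ
        (fun t : T => IsConj g (t : G))]
    rw [Finset.sum_eq_zero (s := Finset.univ.filter fun t : T => ¬ IsConj g (t : G))
      (fun t ht => by rw [show a t = 0 from if_neg (Finset.mem_filter.1 ht).2, zero_mul, zero_div]),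
      add_zero]
    refine Finset.sum_congr (Finset.ext fun t => by simp) fun t ht => ?_
    rw [show a t = 1 from if_pos (Finset.mem_filter.1 ht).2, one_mul]
  rw [hsum, hsum]
  refine BlockLocal.memLocalIdeal_sum_sub_of_sameBlock (a := fun t : T => a t)
    (CharTheory.IsIrrCharacter.isClassFunction ψ.2)
    (CharTheory.IsIrrCharacter.isClassFunction φ.2) h (fun x c => ?_) (fun x => ?_)
  · simp only [a, Subgroup.coe_mul, Subgroup.coe_inv, isConj_conj_iff]
  · simp only [a]
    split_ifs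
    · exact (locRing M).one_mem
    · exact (locRing M).zero_mem

/-- An induced character lies in the induced block. -/
theorem induced_mem {B' : Set (IrrCharacter T)} {B : Set (IrrCharacter G)}
    (hind : IsInducedBlock M T B' B) {ψ : IrrCharacter T} (hψ : ψ ∈ B') {χ : IrrCharacter G}
    (hχ : (χ : G → ℂ) = indFun T (ψ : T → ℂ)) : χ ∈ B := by
  obtain ⟨χ₀, hχ₀⟩ := isPBlock_nonempty hind.2.1
  refine mem_of_sameBlock hind.2.1 hχ₀ fun g => ?_
  have h := hind.2.2 ψ hψ χ₀ hχ₀ g
  rw [inducedCentralChar_eq_centralChar, ← hχ] at h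
  exact memLocalIdeal_sub_comm.1 h

/-- Blocks of `T` over `b` inducing the same block are equal. -/
theorem eq_of_isInducedBlock (hb : IsPBlock M b)
    (hT : ∀ g : G, g ∈ T ↔ ∀ θ ∈ b, BlockLocal.conjIrr N g θ ∈ b) (hNT : N ≤ T)
    {B₁ B₂ : Set (IrrCharacter T)} {ψ₁ ψ₂ : IrrCharacter T} (h₁ : ψ₁ ∈ B₁)
    (ho₁ : OverBlock hNT b ψ₁) (h₂ : ψ₂ ∈ B₂) (ho₂ : OverBlock hNT b ψ₂)
    {B : Set (IrrCharacter G)} (hi₁ : IsInducedBlock M T B₁ B) (hi₂ : IsInducedBlock M T B₂ B) :
    B₁ = B₂ := by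
  classical
  have := Fintype.ofFinite (IrrCharacter T)
  obtain ⟨χ₁, hχ₁, -, hu₁⟩ := exists_induced_over hb hT hNT ψ₁ ho₁
  obtain ⟨χ₂, hχ₂, -, hu₂⟩ := exists_induced_over hb hT hNT ψ₂ ho₂
  set a : G → ℂ := indFun T (blockCoeff B₁) with ha
  have hval : ∀ (ψ : IrrCharacter T) (χ : IrrCharacter G), (χ : G → ℂ) = indFun T (ψ : T → ℂ) →
      (∀ η : IrrCharacter T, classInner (fun t : T => (χ : G → ℂ) t) (η : T → ℂ) ≠ 0 →
        OverBlock hNT b η → η = ψ) →
      (∑ x, a x * (χ : G → ℂ) x) / (χ : G → ℂ) 1 = if ψ ∈ B₁ then 1 else 0 := by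
    intro ψ χ hχ hu
    have hconjcl : IsClassFunction G fun x => conj ((χ : G → ℂ) x) := fun x c => by
      simp only [CharTheory.IsIrrCharacter.isClassFunction χ.2 x c]
    have hF := Frobenius.classInner_indFun T (blockCoeff B₁) (fun x => conj ((χ : G → ℂ) x))
      hconjcl
    simp only [classInner, Complex.conj_conj] at hF
    rw [inv_mul_eq_iff_eq_mul₀ (by exact_mod_cast Nat.card_pos.ne')] at hF
    rw [ha, hF]
    obtain ⟨m, hm⟩ := CharTheory.IsCharacter.exists_sum
      (Coherence.isCharacter_comp (CharTheory.IsIrrCharacter.isCharacter χ.2) T.subtype)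
    have hmres : ∀ t : T, (χ : G → ℂ) t = ∑ η, (m η : ℂ) * (η : T → ℂ) t := fun t => by
      have := congrFun hm t
      simpa [Finset.sum_apply] using this
    have hcoef : ∀ η : IrrCharacter T,
        classInner (fun t : T => (χ : G → ℂ) t) (η : T → ℂ) = (m η : ℂ) := fun η => by
      rw [show (fun t : T => (χ : G → ℂ) t) = ∑ η, (m η : ℂ) • (η : T → ℂ) from hm]
      exact CharTheory.classInner_sum_irr _ η
    have hB₁ : ∀ η ∈ B₁, η ≠ ψ → m η = 0 := fun η hη hne => by
      by_contra h0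
      exact hne (hu η (by rw [hcoef]; exact_mod_cast h0)
        (overBlock_of_mem hb hNT hi₁.1 h₁ ho₁ hη))
    have hmψ : (m ψ : ℂ) = 1 := by
      rw [← hcoef, CharTheory.classInner_conj_symm,
        ← Frobenius.classInner_indFun T _ _ (CharTheory.IsIrrCharacter.isClassFunction χ.2),
        ← hχ, CharTheory.classInner_self_of_isIrr χ.2, map_one]
    have hsum : ∑ t : T, blockCoeff B₁ t * (χ : G → ℂ) t =
        if ψ ∈ B₁ then (ψ : T → ℂ) 1 else 0 := by
      simp only [hmres, Finset.mul_sum]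
      rw [Finset.sum_comm]
      have hη : ∀ η : IrrCharacter T, ∑ t : T, blockCoeff B₁ t * ((m η : ℂ) * (η : T → ℂ) t) =
          (m η : ℂ) * if η ∈ B₁ then (η : T → ℂ) 1 else 0 := fun η => by
        have h := omega_blockIdem B₁ η
        rw [omega_eq_sum, div_eq_iff (CharTheory.apply_one_ne_zero_of_isIrr η.2), ite_mul,
          one_mul, zero_mul] at h
        rw [← h, Finset.mul_sum]
        exact Finset.sum_congr rfl fun t _ => by rw [coeff_blockIdem]; ring
      rw [Finset.sum_congr rfl fun η _ => hη η, Finset.sum_eq_single ψ]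
      · rw [hmψ, one_mul]
      · intro η _ hne
        by_cases hη1 : η ∈ B₁
        · rw [hB₁ η hη1 hne, Nat.cast_zero, zero_mul]
        · rw [if_neg hη1, mul_zero]
      · simp
    rw [hsum, hχ, Frobenius.indFun_one]
    have hidx : (T.index : ℂ) * (Nat.card T : ℂ) = (Nat.card G : ℂ) := by
      exact_mod_cast T.index_mul_card
    rw [← hidx]
    have h2 : (T.index : ℂ) ≠ 0 := Nat.cast_ne_zero.2 Subgroup.index_ne_zero_of_finite
    have h3 : (Nat.card T : ℂ) ≠ 0 := by exact_mod_cast Nat.card_pos.ne'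
    have h4 := CharTheory.apply_one_ne_zero_of_isIrr ψ.2
    split_ifs
    · field_simp
    · simp
  have hcong := BlockLocal.memLocalIdeal_sum_sub_of_sameBlock
    (CharTheory.IsIrrCharacter.isClassFunction χ₁.2)
    (CharTheory.IsIrrCharacter.isClassFunction χ₂.2)
    (sameBlock_of_mem hi₁.2.1 (induced_mem hi₁ h₁ hχ₁) (induced_mem hi₂ h₂ hχ₂))
    (a := a) (Frobenius.indFun_isClassFunction T _) (memLocalRing_indFun_blockCoeff hi₁.1)
  rw [hval ψ₁ χ₁ hχ₁ hu₁, hval ψ₂ χ₂ hχ₂ hu₂, if_pos h₁] at hcong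
  by_contra hne
  rw [if_neg (fun h => hne (isPBlock_eq_of_mem hi₁.1 hi₂.1 h h₂)), sub_zero] at hcong
  exact not_memLocalIdeal_one hcong

/-- Every character of `G` over `b` is induced from a character of `T` over `b`. -/
theorem exists_indFun_eq (hb : IsPBlock M b)
    (hT : ∀ g : G, g ∈ T ↔ ∀ θ ∈ b, BlockLocal.conjIrr N g θ ∈ b) (hNT : N ≤ T)
    (χ : IrrCharacter G) {η : IrrCharacter N} (hη : η ∈ b)
    (hξ : classInner (fun n : N => (χ : G → ℂ) n) (η : N → ℂ) ≠ 0) :
    ∃ φ : IrrCharacter T, OverBlock hNT b φ ∧ (χ : G → ℂ) = indFun T (φ : T → ℂ) := by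
  classical
  have := Fintype.ofFinite (IrrCharacter T)
  obtain ⟨m, hm⟩ := CharTheory.IsCharacter.exists_sum
    (Coherence.isCharacter_comp (CharTheory.IsIrrCharacter.isCharacter χ.2) T.subtype)
  have hcoef : ∀ φ : IrrCharacter T,
      classInner (fun t : T => (χ : G → ℂ) t) (φ : T → ℂ) = (m φ : ℂ) := fun φ => by
    rw [show (fun t : T => (χ : G → ℂ) t) = ∑ φ, (m φ : ℂ) • (φ : T → ℂ) from hm]
    exact CharTheory.classInner_sum_irr _ φ
  obtain ⟨φ, hφm, hφη⟩ : ∃ φ : IrrCharacter T, m φ ≠ 0 ∧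
      classInner (fun n : N => (φ : T → ℂ) ⟨(n : G), hNT n.2⟩) (η : N → ℂ) ≠ 0 := by
    by_contra h0
    push Not at h0
    refine hξ ?_
    have h : (fun n : N => (χ : G → ℂ) n)
        = ∑ φ : IrrCharacter T, (m φ : ℂ) • fun n : N => (φ : T → ℂ) ⟨(n : G), hNT n.2⟩ := by
      funext n
      have := congrFun hm ⟨(n : G), hNT n.2⟩
      simpa [Finset.sum_apply] using this
    simp only [h, CharTheory.classInner_sum_left, CharTheory.classInner_smul_left]
    refine Finset.sum_eq_zero fun φ _ => ?_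
    by_cases hz : m φ = 0
    · simp [hz]
    · rw [h0 φ hz, mul_zero]
  have hφo : OverBlock hNT b φ := ⟨η, hη, hφη⟩
  obtain ⟨χ', hχ', -, -⟩ := exists_induced_over hb hT hNT φ hφo
  refine ⟨φ, hφo, ?_⟩
  by_contra hne
  have h := CharTheory.classInner_eq_zero_of_ne χ'.2 χ.2 fun h => hne (h.symm.trans hχ')
  rw [hχ', Frobenius.classInner_indFun T _ _ (CharTheory.IsIrrCharacter.isClassFunction χ.2),
    CharTheory.classInner_conj_symm, hcoef] at h
  exact hφm (by simpa using h)

/-- The Fong–Reynolds correspondence on characters. -/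
theorem exists_induced_block (hb : IsPBlock M b)
    (hT : ∀ g : G, g ∈ T ↔ ∀ θ ∈ b, BlockLocal.conjIrr N g θ ∈ b) (hNT : N ≤ T)
    {B' : Set (IrrCharacter T)} (hB' : IsPBlock M B') (hcov : ∃ ψ ∈ B', OverBlock hNT b ψ) :
    ∃ B : Set (IrrCharacter G), IsInducedBlock M T B' B ∧
      (∃ χ ∈ B, ∃ θ ∈ b, classInner (fun n : N => (χ : G → ℂ) n) (θ : N → ℂ) ≠ 0) ∧
      ∀ χ : IrrCharacter G, χ ∈ B ↔ ∃ ψ ∈ B', (χ : G → ℂ) = indFun T (ψ : T → ℂ) := by
  classical
  have := Fintype.ofFinite (IrrCharacter N)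
  have := Fintype.ofFinite (IrrCharacter T)
  obtain ⟨ψ₀, h₀, ho₀⟩ := hcov
  obtain ⟨χ₀, hχ₀, hc₀, -⟩ := exists_induced_over hb hT hNT ψ₀ ho₀
  set B := blockOf M (χ₀ : G → ℂ) with hB
  have hBb : IsPBlock M B := isPBlock_blockOf χ₀
  have hclass : IsClassFunction G (χ₀ : G → ℂ) := CharTheory.IsIrrCharacter.isClassFunction χ₀.2
  have hind : IsInducedBlock M T B' B := by
    refine ⟨hB', hBb, fun ψ hψ χ hχ g => ?_⟩
    have hs : MemLocalIdeal M (centralChar (χ₀ : G → ℂ) g - centralChar (χ : G → ℂ) g) :=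
      sameBlock_of_mem hBb (mem_blockOf_self χ₀) hχ g
    have h1 := memLocalIdeal_inducedCentralChar_sub_of_sameBlock (sameBlock_of_mem hB' hψ h₀) g
    rw [inducedCentralChar_eq_centralChar ψ₀, ← hχ₀] at h1
    have := memLocalIdeal_add h1 hs
    rwa [sub_add_sub_cancel] at this
  refine ⟨B, hind, ⟨χ₀, mem_blockOf_self χ₀, hc₀⟩, fun χ => ⟨fun hχ => ?_, ?_⟩⟩
  · obtain ⟨θ, hθ, hθχ⟩ := hc₀
    obtain ⟨ξ, hξ⟩ := BlockLocal.exists_constituent N χ
    obtain ⟨g, η, hη, rfl⟩ := (BlockLocal.mem_orbitSet N).1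
      (BlockLocal.mem_orbitSet_of_constituent N hb
        (sameBlock_of_mem hBb (mem_blockOf_self χ₀) hχ) hθ hθχ hξ)
    rw [BlockLocal.classInner_res_conjIrr] at hξ
    obtain ⟨φ, hφo, hχ'⟩ := exists_indFun_eq hb hT hNT χ hη hξ
    refine ⟨φ, ?_, hχ'⟩
    have hi' : IsInducedBlock M T (blockOf M (φ : T → ℂ)) B := by
      refine ⟨isPBlock_blockOf φ, hBb, fun ψ hψ χ hχ₂ g => ?_⟩
      have e1 := sameBlock_of_mem (M := M) (isPBlock_blockOf φ) (mem_blockOf_self φ) hψ
      have h1 := memLocalIdeal_inducedCentralChar_sub_of_sameBlock e1 g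
      rw [inducedCentralChar_eq_centralChar φ, ← hχ'] at h1
      have h2 := sameBlock_of_mem hBb hχ hχ₂ g
      have := memLocalIdeal_add (memLocalIdeal_sub_comm.1 h1) h2
      rwa [sub_add_sub_cancel] at this
    rw [← eq_of_isInducedBlock hb hT hNT (mem_blockOf_self φ) hφo h₀ ho₀ hi' hind]
    exact mem_blockOf_self φ
  · rintro ⟨ψ, hψ, hχ⟩
    exact induced_mem hind hψ hχ

/-- Block coefficients of the induced block are induced. -/
theorem blockCoeff_eq_indFun (hb : IsPBlock M b)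
    (hT : ∀ g : G, g ∈ T ↔ ∀ θ ∈ b, BlockLocal.conjIrr N g θ ∈ b) (hNT : N ≤ T)
    {B' : Set (IrrCharacter T)} (hB' : IsPBlock M B') (hcov : ∃ ψ ∈ B', OverBlock hNT b ψ)
    {B : Set (IrrCharacter G)}
    (hmem : ∀ χ : IrrCharacter G, χ ∈ B ↔ ∃ ψ ∈ B', (χ : G → ℂ) = indFun T (ψ : T → ℂ)) :
    blockCoeff B = indFun T (blockCoeff B') := by
  classical
  obtain ⟨ψ₀, h₀, ho₀⟩ := hcov
  have hex : ∀ ψ ∈ B', ∃ χ : IrrCharacter G, (χ : G → ℂ) = indFun T (ψ : T → ℂ) ∧
      ∀ η : IrrCharacter T, classInner (fun t : T => (χ : G → ℂ) t) (η : T → ℂ) ≠ 0 →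
        OverBlock hNT b η → η = ψ := fun ψ hψ => by
    obtain ⟨χ, hχ, -, hu⟩ :=
      exists_induced_over hb hT hNT ψ (overBlock_of_mem hb hNT hB' h₀ ho₀ hψ)
    exact ⟨χ, hχ, hu⟩
  choose F hF hFu using hex
  funext g
  have e : ∀ (s : Set (IrrCharacter T)) (t : T), blockCoeff s t =
      (Nat.card T : ℂ)⁻¹ * ∑ ψ ∈ s.toFinite.toFinset, (ψ : T → ℂ) 1 * conj ((ψ : T → ℂ) t) :=
    fun s t => by rw [blockCoeff, finsum_mem_eq_finite_toFinset_sum _ s.toFinite]
  rw [blockCoeff, finsum_mem_eq_finite_toFinset_sum _ B.toFinite]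
  rw [show blockCoeff B' = ∑ ψ ∈ B'.toFinite.toFinset,
      ((Nat.card T : ℂ)⁻¹ * (ψ : T → ℂ) 1) • fun t => conj ((ψ : T → ℂ) t) by
    funext t
    rw [e, Finset.mul_sum, Finset.sum_apply]
    exact Finset.sum_congr rfl fun ψ _ => by simp [mul_assoc],
    Frobenius.indFun_sum, Finset.sum_apply, Finset.mul_sum]
  refine (Finset.sum_bij (fun ψ hψ => F ψ ((Set.Finite.mem_toFinset _).1 hψ))
    (fun ψ hψ => ?_) (fun ψ hψ ψ' hψ' h => ?_) (fun χ hχ => ?_) (fun ψ hψ => ?_)).symm
  · exact (Set.Finite.mem_toFinset _).2 ((hmem _).2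
      ⟨ψ, (Set.Finite.mem_toFinset _).1 hψ, hF ψ _⟩)
  · have hψ1 := (Set.Finite.mem_toFinset _).1 hψ
    have hψ2 := (Set.Finite.mem_toFinset _).1 hψ'
    refine (hFu ψ hψ1 ψ' ?_ (overBlock_of_mem hb hNT hB' h₀ ho₀ hψ2)).symm
    rw [h, CharTheory.classInner_conj_symm, ← Frobenius.classInner_indFun T _ _
      (CharTheory.IsIrrCharacter.isClassFunction (F ψ' hψ2).2), ← hF,
      CharTheory.classInner_self_of_isIrr (F ψ' hψ2).2, map_one]
    · exact one_ne_zero
    · exact hψ2
  · obtain ⟨ψ, hψ, hχψ⟩ := (hmem χ).1 ((Set.Finite.mem_toFinset _).1 hχ)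
    exact ⟨ψ, (Set.Finite.mem_toFinset _).2 hψ, Subtype.ext ((hF ψ hψ).trans hχψ.symm)⟩
  · have hconj : ∀ x, indFun T (fun t => conj ((ψ : T → ℂ) t)) x =
        conj (indFun T (ψ : T → ℂ) x) := by
      intro x
      simp only [indFun, map_mul, map_inv₀, map_sum, Complex.conj_natCast]
      congr 1
      refine Finset.sum_congr rfl fun y _ => ?_
      by_cases hy : y⁻¹ * x * y ∈ T
      · rw [Frobenius.extendByZero_of_mem _ _ hy, Frobenius.extendByZero_of_mem _ _ hy]
      · rw [Frobenius.extendByZero_of_not_mem _ _ hy, Frobenius.extendByZero_of_not_mem _ _ hy,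
          map_zero]
    rw [Frobenius.indFun_smul, Pi.smul_apply, smul_eq_mul, hconj, hF, Frobenius.indFun_one,
      ← T.index_mul_card, Nat.cast_mul]
    have h2 : (T.index : ℂ) ≠ 0 := Nat.cast_ne_zero.2 Subgroup.index_ne_zero_of_finite
    field_simp


open MonoidAlgebra CfsgLib.BrauerPairs in
/-- Defect groups are preserved by the correspondence. -/
theorem isDefectGroup_map_of_induced {p : ℕ} (hM : IsPModular p M) (hb : IsPBlock M b)
    (hT : ∀ g : G, g ∈ T ↔ ∀ θ ∈ b, BlockLocal.conjIrr N g θ ∈ b) (hNT : N ≤ T)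
    {B' : Set (IrrCharacter T)} (hB' : IsPBlock M B') (hcov : ∃ ψ ∈ B', OverBlock hNT b ψ)
    {B : Set (IrrCharacter G)} (hB : IsPBlock M B) (hcoef : blockCoeff B = indFun T (blockCoeff B'))
    {D : Subgroup T} (hD : IsDefectGroup p M B' D) : IsDefectGroup p M B (D.map T.subtype) := by
  classical
  have := fact_of_isPModular hM
  have := charP_res hM
  set k := Res M
  set eb := subIdem M N b with heb
  set f := subIdem M T B' with hf
  have hebN : IsBlockIdem N eb := isBlockIdem_subIdem hb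
  have hfT : IsBlockIdem T f := isBlockIdem_subIdem hB'
  have hNg : ∀ x : G, N = cj x N := fun x => (cj_of_mem_normalizer (by
    rw [Subgroup.normalizer_eq_top]; exact Subgroup.mem_top x)).symm
  have himg : ∀ g : G, ∀ η : IrrCharacter N,
      compIrr (cjEquiv g (hNg g)) η = BlockLocal.conjIrr N g η := fun g η => by
    refine Subtype.ext (funext fun n => ?_)
    rw [compIrr_apply, BlockLocal.conjIrr_apply]
    refine congrArg _ (Subtype.ext ?_)
    rw [coe_cjEquiv, MulAut.conjNormal_apply, inv_inv]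
  have hfix : ∀ g : G, g ∈ T ↔ conjA g eb = eb := by
    intro g
    rw [heb, ← subIdem_image (hNg g)]
    constructor
    · intro hg
      congr 1
      obtain ⟨θ, hθ⟩ := isPBlock_nonempty hb
      refine isPBlock_eq_of_mem (isPBlock_image_compIrr _ hb) hb ⟨θ, hθ, rfl⟩ ?_
      rw [himg]
      exact (hT g).1 hg θ hθ
    · intro hg
      refine (hT g).2 fun θ hθ => ?_
      rw [← himg]
      have hmem : compIrr (cjEquiv g (hNg g)) θ ∈ compIrr (cjEquiv g (hNg g)) '' b := ⟨θ, hθ, rfl⟩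
      rwa [subIdem_injective (isPBlock_image_compIrr _ hb) hb hg] at hmem
  have hebT : eb ∈ ctr k T := mem_ctr.2
    ⟨supp_mono hNT (mem_ctr.1 hebN.mem).1, fun t ht => (hfix t).1 ht⟩
  have hfe : f * eb = f := by
    rcases hfT.2.2.2 eb hebT hebN.mul_self with h | h
    · exfalso
      obtain ⟨ψ, hψ, hψb⟩ := hcov
      obtain ⟨θ, hθ, hθψ⟩ := hψb
      exact (covers_sub_iff hNT (fun x _ => by
        rw [Subgroup.normalizer_eq_top]; exact Subgroup.mem_top x) hB' hb).1
        ⟨ψ, hψ, θ, hθ, hθψ⟩ h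
    · exact h
  -- the idempotent of `B` is the trace of `f`
  have htr : relTr T ⊤ f = redElem M (blockCoeff B) := by
    have := Fintype.ofFinite (G ⧸ T)
    rw [relTr_eq_sum (mem_ctr.1 hfT.mem).2
      (fun q : G ⧸ T => (⟨q.out, trivial⟩ : (⊤ : Subgroup G)))]
    · ext g
      rw [coeff_finsetSum_apply, coeff_redElem, hcoef,
        indFun_eq_sum_coset (fun x c => blockCoeff_conj B' c x),
        redC_sum _ _ (fun q _ => by
          by_cases h : q.out⁻¹ * g * q.out ∈ T
          · rw [Frobenius.extendByZero_of_mem _ _ h]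
            exact memLocalRing_blockCoeff hB' _
          · rw [Frobenius.extendByZero_of_not_mem _ _ h]
            exact memLocalRing_of_memLocalIdeal memLocalIdeal_zero)]
      refine Finset.sum_congr rfl fun q _ => ?_
      rw [coeff_conjA, hf, coeff_redElem, subgroupBlockCoeff]
      congr 1
      by_cases h : q.out⁻¹ * g * q.out ∈ T
      · rw [dif_pos h, Frobenius.extendByZero_of_mem _ _ h]
      · rw [dif_neg h, Frobenius.extendByZero_of_not_mem _ _ h]
    constructor
    · intro q q' h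
      rw [QuotientGroup.eq, Subgroup.mem_subgroupOf] at h
      rw [← QuotientGroup.out_eq' q, ← QuotientGroup.out_eq' q', QuotientGroup.eq]
      exact h
    · intro z
      obtain ⟨⟨x, -⟩, rfl⟩ := QuotientGroup.mk_surjective z
      refine ⟨QuotientGroup.mk x, ?_⟩
      rw [QuotientGroup.eq, Subgroup.mem_subgroupOf]
      exact QuotientGroup.eq.1 (QuotientGroup.out_eq' (QuotientGroup.mk x : G ⧸ T))
  have hprod : redElem M (blockCoeff B) * eb = f := by
    have := Fintype.ofFinite (↥(⊤ : Subgroup G) ⧸ T.subgroupOf ⊤)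
    rw [← htr, relTr_apply, Finset.sum_mul]
    have hq₀ : ((QuotientGroup.mk (1 : (⊤ : Subgroup G)) :
        ↥(⊤ : Subgroup G) ⧸ T.subgroupOf ⊤).out : G) ∈ T := by
      have h := QuotientGroup.eq.1 (QuotientGroup.out_eq'
        (QuotientGroup.mk (1 : (⊤ : Subgroup G)) : ↥(⊤ : Subgroup G) ⧸ T.subgroupOf ⊤)).symm
      rw [Subgroup.mem_subgroupOf] at h
      simpa using h
    rw [Finset.sum_eq_single (QuotientGroup.mk (1 : (⊤ : Subgroup G)))]
    · rw [(mem_ctr.1 hfT.mem).2 _ hq₀, hfe]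
    · intro q _ hq
      set x : G := ((q.out : (⊤ : Subgroup G)) : G) with hx
      have hxT : x ∉ T := fun h => hq (by
        rw [← QuotientGroup.out_eq' q, QuotientGroup.eq, Subgroup.mem_subgroupOf]
        simpa [x] using inv_mem h)
      have hblk : IsBlockIdem N (conjA x eb) := hebN.conj (by
        rw [Subgroup.normalizer_eq_top]; exact Subgroup.mem_top x)
      rw [← hfe, map_mul, mul_assoc, hblk.mul_eq_zero_of_ne hebN (fun h => hxT ((hfix x).2 h)),
        mul_zero]
    · simp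
  have hD' := (isDefectGroup_sub_iff hM hB').1 hD
  obtain ⟨hDT, hDp, hbr, a, -, haD, hrel⟩ := hD'
  refine (isDefectGroup_iff hM hB).2 ⟨le_top, hDp, fun h0 => hbr ?_, a,
    fun g hg => absurd (Subgroup.mem_top g) hg, haD, ?_⟩
  · rw [← hf, ← hprod, trunc_centralizer_mul hDp
      ((isBlockIdem_redElem_blockCoeff hB).fixed_of_le le_top)
      (fun t ht => (hfix t).1 (hDT ht)), h0, zero_mul]
  · rw [relTr_trans hDT le_top haD, hrel, ← hf, htr]

end CfsgLib.CharDegreesTheory
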