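import Mathlib
import Cfsg.Prelude.Def_Blocks

/-!
Degree and faithfulness of `Cfsg.IsCharacter`.
-/

set_option autoImplicit false

namespace CfsgLib.CharDegreesTheory

open Cfsg

/-- A faithful character of degree `n` comes from an injective representation on `ℂⁿ`. -/
theorem exists_injective_rep {G : Type*} [Group G] {χ : G → ℂ} (hχ : Cfsg.IsCharacter G χ)
    (hfaith : ∀ g : G, χ g = χ 1 → g = 1) :
    ∃ ρ : Representation ℂ G (Fin (Cfsg.charDegree χ) → ℂ),
      Function.Injective ρ ∧ ρ.character = χ := by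
  obtain ⟨m, ρ, rfl⟩ := hχ
  have hdeg : Cfsg.charDegree ρ.character = m := by simp [Cfsg.charDegree]
  rw [hdeg]
  refine ⟨ρ, fun g h hgh => ?_, rfl⟩
  have : ρ (h⁻¹ * g) = 1 := by
    rw [map_mul, hgh, ← map_mul, inv_mul_cancel, map_one]
  exact (inv_mul_eq_one.mp (hfaith _ (by simp [Representation.character, this]))).symm

end CfsgLib.CharDegreesTheory
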