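import Mathlib
import Cfsg.Agent.Lib.RealChar.Extension
import Cfsg.Agent.Lib.CharTheory.Degree

/-!
An invariant irreducible character of a normal Hall subgroup extends.
-/

set_option autoImplicit false
set_option linter.style.haveILetI false
set_option linter.unusedSectionVars false

namespace CfsgLib.CharDegreesTheory

open Cfsg CfsgLib.RealChar

theorem exists_extension_of_coprime {G : Type*} [Group G] [Finite G] (N : Subgroup G) [N.Normal]
    (hcop : (Nat.card N).Coprime N.index) (θ : N → ℂ) (hθ : IsIrrCharacter N θ)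
    (hinv : ∀ (g : G) (n : N), θ (MulAut.conjNormal g n) = θ n) :
    ∃ χ : G → ℂ, IsIrrCharacter G χ ∧ ∀ n : N, χ n = θ n := by
  classical
  obtain ⟨d', hd0, hdN, hd1⟩ := CfsgLib.CharTheory.IsIrrCharacter.exists_degree_dvd hθ
  obtain ⟨d, ρ, hρ, rfl⟩ := hθ
  have hd : d ∣ Nat.card N := by
    have h1 : d = d' := by exact_mod_cast (show (d : ℂ) = d' by simpa using hd1)
    rwa [h1]
  obtain ⟨ψ, hψN, hψs⟩ := exists_hom_pow_index hinv N le_rfl ρ fun n => rfl
  let D : interGroup N ρ →* ℂˣ :=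
    (Units.map (LinearMap.det : Module.End ℂ (Fin d → ℂ) →* ℂ)).comp (interSnd N ρ)
  let D' : interGroup N ρ →* ℂˣ := (powMonoidHom (Nat.card N)).comp D
  have hD'N : ∀ n, D' (interIncl N ρ n) = 1 := fun n => by
    show D (interIncl N ρ n) ^ Nat.card N = 1
    rw [← map_pow, ← map_pow, pow_card_eq_one', map_one, map_one]
  have hD's : ∀ z, D' (interScalar N ρ z) = z ^ (d * Nat.card N) := fun z => by
    show D (interScalar N ρ z) ^ Nat.card N = _
    rw [pow_mul]
    congr 1
    refine Units.ext ?_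
    show LinearMap.det (algebraMap ℂ (Module.End ℂ (Fin d → ℂ)) (z : ℂ)) = _
    rw [Algebra.algebraMap_eq_smul_one, LinearMap.det_smul]
    simp
  have hg : Int.gcd (N.index : ℤ) ((d * Nat.card N : ℕ) : ℤ) = 1 := by
    rw [Int.gcd_natCast_natCast]
    exact (Nat.Coprime.mul_right (Nat.Coprime.coprime_dvd_left hd hcop).symm hcop.symm)
  have hb := Int.gcd_eq_gcd_ab (N.index : ℤ) ((d * Nat.card N : ℕ) : ℤ)
  rw [hg, Nat.cast_one] at hb
  set a := Int.gcdA (N.index : ℤ) ((d * Nat.card N : ℕ) : ℤ)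
  set b := Int.gcdB (N.index : ℤ) ((d * Nat.card N : ℕ) : ℤ)
  let Φ : interGroup N ρ →* ℂˣ := (zpowGroupHom a).comp ψ * (zpowGroupHom b).comp D'
  obtain ⟨σ, hσ⟩ := exists_extension_of_hom hinv Φ
    (fun n => by simp [Φ, hψN, hD'N]) fun z => by
      show ψ (interScalar N ρ z) ^ a * D' (interScalar N ρ z) ^ b = z
      rw [hψs, hD's, ← zpow_natCast, ← zpow_natCast, ← zpow_mul, ← zpow_mul, ← zpow_add, ← hb,
        zpow_one]
  exact ⟨σ.character, isIrrCharacter_of_extension ρ σ hσ⟩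

end CfsgLib.CharDegreesTheory
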