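import Mathlib
import Cfsg.Prelude.Def_Characters
import Cfsg.Agent.Lib.CharTheory.Decomp

/-!
Transport of irreducible characters along isomorphisms, and multiplicities along homomorphisms.
-/

set_option autoImplicit false
set_option linter.style.haveILetI false

namespace CfsgLib.CharDegreesTheory

open Cfsg

universe u

theorem isCharacter_comp_hom {G H : Type*} [Group G] [Group H] {χ : H → ℂ}
    (hχ : IsCharacter H χ) (f : G →* H) : IsCharacter G (fun g => χ (f g)) := by
  obtain ⟨n, ρ, rfl⟩ := hχ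
  exact ⟨n, ρ.comp f, rfl⟩

theorem isIrrCharacter_comp_equiv {G H : Type*} [Group G] [Group H] [Finite G] {χ : H → ℂ}
    (hχ : IsIrrCharacter H χ) (e : G ≃* H) : IsIrrCharacter G (fun g => χ (e g)) := by
  haveI := Fintype.ofFinite G
  haveI : Finite H := Finite.of_equiv G e.toEquiv
  haveI := Fintype.ofFinite H
  refine (CfsgLib.CharTheory.isIrrCharacter_iff_norm_one
    (isCharacter_comp_hom (CfsgLib.CharTheory.IsIrrCharacter.isCharacter hχ) e.toMonoidHom)).mpr ?_
  have h := CfsgLib.CharTheory.classInner_self_of_isIrr hχ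
  simp only [classInner] at h ⊢
  rw [Nat.card_congr e.toEquiv]
  rw [← h]
  congr 1
  exact e.toEquiv.sum_comp (fun x => χ x * (starRingEnd ℂ) (χ x))

/-- An irreducible character transported along an isomorphism. -/
def irrComp {G H : Type*} [Group G] [Group H] [Finite G] (e : G ≃* H) (χ : IrrCharacter H) :
    IrrCharacter G :=
  ⟨fun g => (χ : H → ℂ) (e g), isIrrCharacter_comp_equiv χ.2 e⟩

@[simp]
theorem irrComp_apply {G H : Type*} [Group G] [Group H] [Finite G] (e : G ≃* H)
    (χ : IrrCharacter H) (g : G) :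
    (irrComp e χ : G → ℂ) g = (χ : H → ℂ) (e g) := rfl

/-- The action on irreducible characters of a group acting by automorphisms. -/
@[reducible]
def irrAction {S G : Type*} [Group S] [Group G] [Finite G] (φ : S →* MulAut G) :
    MulAction S (IrrCharacter G) where
  smul s χ := irrComp (φ s⁻¹) χ
  one_smul χ := Subtype.ext (funext fun g => by
    show (χ : G → ℂ) (φ (1 : S)⁻¹ g) = _
    simp)
  mul_smul s t χ := Subtype.ext (funext fun g => by
    show (χ : G → ℂ) (φ (s * t)⁻¹ g) = (χ : G → ℂ) (φ t⁻¹ (φ s⁻¹ g))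
    simp [map_mul])

theorem irrAction_smul_apply {S G : Type*} [Group S] [Group G] [Finite G] (φ : S →* MulAut G)
    (s : S) (χ : IrrCharacter G) (g : G) :
    letI := irrAction φ
    ((s • χ : IrrCharacter G) : G → ℂ) g = (χ : G → ℂ) (φ s⁻¹ g) := rfl

/-- `χ` is fixed by the automorphisms given by `φ`. -/
def IsInvariant {S G : Type*} [Group S] [Group G] (φ : S →* MulAut G) (χ : G → ℂ) : Prop :=
  ∀ (s : S) (g : G), χ (φ s g) = χ g

theorem mem_fixedPoints_irrAction {S G : Type*} [Group S] [Group G] [Finite G]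
    (φ : S →* MulAut G) (χ : IrrCharacter G) :
    (letI := irrAction φ; χ ∈ MulAction.fixedPoints S (IrrCharacter G)) ↔
      IsInvariant φ (χ : G → ℂ) := by
  refine ⟨fun h s g => ?_, fun h s => Subtype.ext (funext fun g => h s⁻¹ g)⟩
  have := congrFun (congrArg Subtype.val (h s⁻¹)) g
  simpa [irrAction_smul_apply] using this

/-- The multiplicity of `β` in the pullback of `χ` along `ι`, as a natural number. -/
noncomputable def mult {C G : Type*} [Group C] [Group G] [Finite C] (ι : C →* G) (χ : G → ℂ)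
    (β : C → ℂ) : ℕ :=
  letI := Fintype.ofFinite C
  ⌊(classInner (fun c => χ (ι c)) β).re⌋₊

theorem classInner_eq_mult {C G : Type*} [Group C] [Group G] [Fintype C] (ι : C →* G)
    {χ : G → ℂ} (hχ : IsCharacter G χ) (β : IrrCharacter C) :
    classInner (fun c => χ (ι c)) (β : C → ℂ) = (mult ι χ (β : C → ℂ) : ℂ) := by
  obtain ⟨k, hk⟩ := CfsgLib.CharTheory.IsCharacter.exists_classInner_eq_nat
    (isCharacter_comp_hom hχ ι) β
  rw [mult, Subsingleton.elim (Fintype.ofFinite C) ‹_›, hk]
  simp

theorem res_eq_sum_mult {C G : Type*} [Group C] [Group G] [Finite C] [Fintype (IrrCharacter C)]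
    (ι : C →* G) {χ : G → ℂ} (hχ : IsCharacter G χ) :
    (fun c => χ (ι c)) = ∑ β : IrrCharacter C, (mult ι χ (β : C → ℂ) : ℂ) • (β : C → ℂ) := by
  haveI := Fintype.ofFinite C
  obtain ⟨m, hm⟩ := CfsgLib.CharTheory.IsCharacter.exists_sum (isCharacter_comp_hom hχ ι)
  have : ∀ β, (m β : ℂ) = mult ι χ (β : C → ℂ) := fun β => by
    rw [← classInner_eq_mult ι hχ β, hm, CfsgLib.CharTheory.classInner_sum_irr]
  simp only [← this]
  exact hm

/-- Multiplicities are unchanged by compatible isomorphisms. -/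
theorem mult_comp_equiv {C C' G G' : Type*} [Group C] [Group C'] [Group G] [Group G'] [Finite C]
    [Finite C'] (ι : C →* G) (ι' : C' →* G') (e : G ≃* G') (f : C ≃* C')
    (h : ∀ c, ι' (f c) = e (ι c)) (χ : G' → ℂ) (β : C' → ℂ) :
    mult ι (fun g => χ (e g)) (fun c => β (f c)) = mult ι' χ β := by
  letI := Fintype.ofFinite C
  letI := Fintype.ofFinite C'
  simp only [mult, classInner]
  rw [Nat.card_congr f.toEquiv]
  congr 3
  simp only [← h]
  exact f.toEquiv.sum_comp (fun x => χ (ι' x) * (starRingEnd ℂ) (β x))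

end CfsgLib.CharDegreesTheory
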