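import Mathlib
import Cfsg.Prelude.Def_Blocks
import Cfsg.Agent.Lib.CharTheory.Inflation
import Cfsg.Agent.Lib.CharTheory.Orthogonality
import Cfsg.Agent.Lib.Clifford.Basic
import Cfsg.Agent.Lib.CharDegreesTheory.IrrComp
import Cfsg.Agent.Lib.CharDegreesTheory.CoprimeExtension

/-!
Characters over an extendible character of a normal subgroup, and the count of characters of
degree prime to the index of a normal Hall subgroup.
-/

set_option autoImplicit false
set_option linter.style.haveILetI false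
set_option linter.unusedSectionVars false

namespace CfsgLib.CharDegreesTheory

open Cfsg
open scoped ComplexConjugate

/-- The products of an extension with the irreducible characters of the quotient are irreducible,
distinct, and exhaust the characters over the extended character. -/
theorem exists_gallagher {G : Type*} [Group G] [Finite G] (K : Subgroup G) [K.Normal]
    [Fintype K] (θ : IrrCharacter K) {χ₀ : G → ℂ} (hχ₀ : IsCharacter G χ₀)
    (hext : ∀ k : K, χ₀ k = (θ : K → ℂ) k) :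
    ∃ e : IrrCharacter (G ⧸ K) → IrrCharacter G,
      (∀ β g, (e β : G → ℂ) g = χ₀ g * (β : G ⧸ K → ℂ) (g : G ⧸ K)) ∧ Function.Injective e ∧
      ∀ χ : IrrCharacter G, classInner (fun k : K => (χ : G → ℂ) k) (θ : K → ℂ) ≠ 0 →
        ∃ β, e β = χ := by
  classical
  haveI := Fintype.ofFinite G
  haveI := Fintype.ofFinite (G ⧸ K)
  haveI := Fintype.ofFinite (IrrCharacter G)
  haveI := Fintype.ofFinite (IrrCharacter (G ⧸ K))
  let P : IrrCharacter (G ⧸ K) → G → ℂ :=
    fun β g => χ₀ g * (β : G ⧸ K → ℂ) (QuotientGroup.mk' K g)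
  have hP : ∀ β, IsCharacter G (P β) := fun β => CfsgLib.CharTheory.isCharacter_mul hχ₀
    (isCharacter_comp_hom (CfsgLib.CharTheory.IsIrrCharacter.isCharacter β.2) (QuotientGroup.mk' K))
  choose a ha using fun β => CfsgLib.CharTheory.IsCharacter.exists_sum (hP β)
  choose d hd0 hd using fun β : IrrCharacter (G ⧸ K) =>
    CfsgLib.CharTheory.exists_degree_of_isIrr β.2
  let b : IrrCharacter G → ℕ := fun χ => ∑ β, d β * a β χ
  let F : G → ℂ := fun g => if g ∈ K then (K.index : ℂ) * χ₀ g else 0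
  have hF : F = ∑ χ, (b χ : ℂ) • (χ : G → ℂ) := by
    have h1 : F = ∑ β, (d β : ℂ) • P β := by
      funext g
      have h2 := CfsgLib.CharTheory.sum_degree_mul (G := G ⧸ K) (g : G ⧸ K)
      simp only [hd] at h2
      simp only [F, Finset.sum_apply, Pi.smul_apply, P, smul_eq_mul, QuotientGroup.mk'_apply]
      rw [Finset.sum_congr rfl fun β _ => mul_left_comm (d β : ℂ) (χ₀ g) _, ← Finset.mul_sum, h2]
      simp only [QuotientGroup.eq_one_iff, Subgroup.index_eq_card]
      split_ifs <;> ring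
    rw [h1]
    funext g
    simp only [Finset.sum_apply, Pi.smul_apply, smul_eq_mul, b]
    push_cast
    simp only [Finset.sum_mul]
    rw [Finset.sum_comm]
    refine Finset.sum_congr rfl fun β _ => ?_
    rw [ha β]
    simp [Finset.sum_apply, Finset.mul_sum, mul_assoc]
  have hFinner : ∀ f : G → ℂ, classInner F f = classInner (θ : K → ℂ) fun k : K => f k := by
    intro f
    simp only [classInner, F, ite_mul, zero_mul]
    rw [← Finset.sum_filter, Finset.sum_subtype (p := fun g => g ∈ K) _ (fun x => by simp),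
      ← K.card_mul_index, Nat.cast_mul, mul_inv, Finset.mul_sum, Finset.mul_sum]
    refine Finset.sum_congr rfl fun k _ => ?_
    have hi : (K.index : ℂ) ≠ 0 := Nat.cast_ne_zero.mpr Subgroup.index_ne_zero_of_finite
    rw [hext]
    field_simp
  have hnorm : ∑ χ, b χ ^ 2 = ∑ β, d β ^ 2 := by
    have h1 : classInner F F = (K.index : ℂ) := by
      rw [hFinner, show (fun k : K => F k) = (K.index : ℂ) • (θ : K → ℂ) from funext fun k => by
        simp [F, hext], CfsgLib.CharTheory.classInner_conj_symm,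
        CfsgLib.CharTheory.classInner_smul_left, CfsgLib.CharTheory.classInner_self_of_isIrr θ.2]
      simp
    rw [hF, CfsgLib.CharTheory.classInner_sum_left] at h1
    simp only [CfsgLib.CharTheory.classInner_smul_left] at h1
    rw [Finset.sum_congr rfl (g := fun χ => ((b χ ^ 2 : ℕ) : ℂ)) fun χ _ => by
      rw [CfsgLib.CharTheory.classInner_conj_symm, CfsgLib.CharTheory.classInner_sum_irr]
      simp [sq], ← Nat.cast_sum] at h1
    have h2 := CfsgLib.CharTheory.sum_degree_sq (G := G ⧸ K)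
    rw [← Subgroup.index_eq_card, ← h1] at h2
    simp only [hd, ← Nat.cast_pow, ← Nat.cast_sum, Nat.cast_inj] at h2
    exact h2.symm
  have hone : ∀ β, 1 ≤ ∑ χ, a β χ ^ 2 := by
    intro β
    by_contra h
    simp only [not_le, Nat.lt_one_iff, Finset.sum_eq_zero_iff, Finset.mem_univ, true_implies,
      pow_eq_zero_iff, ne_eq, OfNat.ofNat_ne_zero, not_false_iff] at h
    have h1 : P β 1 = 0 := by rw [ha β]; simp [h, Finset.sum_apply]
    simp only [P, map_one, hd, mul_eq_zero, Nat.cast_eq_zero,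
      (hd0 β).ne', or_false] at h1
    exact CfsgLib.CharTheory.apply_one_ne_zero_of_isIrr θ.2 ((hext 1).symm.trans (by simpa using h1))
  have hle : ∀ χ, ∑ β, (d β * a β χ) ^ 2 ≤ b χ ^ 2 := fun χ =>
    Finset.sum_sq_le_sq_sum_of_nonneg fun β _ => Nat.zero_le _
  have htot : ∑ β, d β ^ 2 * ∑ χ, a β χ ^ 2 = ∑ χ, ∑ β, (d β * a β χ) ^ 2 := by
    rw [Finset.sum_comm]
    simp [Finset.mul_sum, mul_pow]
  have hge : ∀ β ∈ Finset.univ, d β ^ 2 ≤ d β ^ 2 * ∑ χ, a β χ ^ 2 :=
    fun β _ => Nat.le_mul_of_pos_right _ (hone β)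
  have hA : ∀ β, ∑ χ, a β χ ^ 2 = 1 := by
    intro β
    have h1 := (Finset.sum_eq_sum_iff_of_le hge).mp
      (le_antisymm (Finset.sum_le_sum hge) (by
        rw [htot, ← hnorm]; exact Finset.sum_le_sum fun χ _ => hle χ)) β (Finset.mem_univ _)
    have := hd0 β
    exact (Nat.eq_of_mul_eq_mul_left (by positivity) ((mul_one _).trans h1)).symm
  have hB : ∀ χ, ∑ β, (d β * a β χ) ^ 2 = b χ ^ 2 := fun χ =>
    (Finset.sum_eq_sum_iff_of_le fun χ _ => hle χ).mp
      (by rw [hnorm, ← htot]; simp [hA]) χ (Finset.mem_univ _)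
  have hB' : ∀ χ β β', a β χ ≠ 0 → a β' χ ≠ 0 → β = β' := by
    intro χ β β' h h'
    by_contra hne
    have hb : ∀ γ, d γ * a γ χ ≤ b χ := fun γ =>
      Finset.single_le_sum (f := fun γ => d γ * a γ χ) (fun _ _ => Nat.zero_le _)
        (Finset.mem_univ γ)
    have h1 : ∑ γ, (d γ * a γ χ) ^ 2 = ∑ γ, d γ * a γ χ * b χ := by
      rw [hB χ, sq, ← Finset.sum_mul]
    have h2 : ∀ γ, a γ χ ≠ 0 → d γ * a γ χ = b χ := fun γ hγ => by
      have h3 := (Finset.sum_eq_sum_iff_of_le fun γ _ => by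
        rw [sq]; exact Nat.mul_le_mul_left _ (hb γ)).mp h1 γ (Finset.mem_univ _)
      rw [sq] at h3
      exact Nat.eq_of_mul_eq_mul_left
        (Nat.mul_pos (hd0 γ) (Nat.pos_of_ne_zero hγ)) h3
    have h3 := Finset.add_le_sum (f := fun γ => d γ * a γ χ) (fun _ _ => Nat.zero_le _)
      (Finset.mem_univ β) (Finset.mem_univ β') hne
    simp only [h2 β h, h2 β' h'] at h3
    have : 0 < b χ := h2 β h ▸ Nat.mul_pos (hd0 β) (Nat.pos_of_ne_zero h)
    change b χ + b χ ≤ b χ at h3
    omega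
  have he : ∀ β, ∃ χ : IrrCharacter G, (χ : G → ℂ) = P β ∧ a β χ ≠ 0 := by
    intro β
    have hex : ∃ χ, a β χ ≠ 0 := by
      by_contra hno
      push Not at hno
      simpa [hno] using hA β
    obtain ⟨χ, hχ⟩ := hex
    have h4 := hA β
    rw [← Finset.add_sum_erase _ _ (Finset.mem_univ χ)] at h4
    have h5 : 1 ≤ a β χ ^ 2 := Nat.one_le_pow _ _ (Nat.pos_of_ne_zero hχ)
    have h6 : a β χ ^ 2 = 1 ∧ ∑ x ∈ Finset.univ.erase χ, a β x ^ 2 = 0 := by omega
    have h7 : a β χ = 1 := by simpa using h6.1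
    refine ⟨χ, ?_, hχ⟩
    rw [ha β, ← Finset.add_sum_erase _ _ (Finset.mem_univ χ), h7, Nat.cast_one, one_smul,
      Finset.sum_eq_zero (s := Finset.univ.erase χ) fun x hx => ?_, add_zero]
    have h8 := Finset.sum_eq_zero_iff.mp h6.2 x hx
    rw [(pow_eq_zero_iff two_ne_zero).mp h8, Nat.cast_zero, zero_smul]
  choose e he hea using he
  refine ⟨e, fun β g => congrFun (he β) g, fun β β' h => hB' _ β β' (hea β) (h ▸ hea β'),
    fun χ hχ => ?_⟩
  have h1 : (b χ : ℂ) = classInner F (χ : G → ℂ) := by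
    rw [hF, CfsgLib.CharTheory.classInner_sum_irr]
  rw [hFinner, CfsgLib.CharTheory.classInner_conj_symm] at h1
  have hb : b χ ≠ 0 := fun h => hχ (by simpa [h] using h1.symm)
  obtain ⟨β, -, hβ⟩ := Finset.exists_ne_zero_of_sum_ne_zero hb
  have ha' := right_ne_zero_of_mul hβ
  refine ⟨β, ?_⟩
  by_contra hne
  have h4 := hA β
  rw [← Finset.add_sum_erase _ _ (Finset.mem_univ (e β)),
    ← Finset.add_sum_erase _ _ (Finset.mem_erase.mpr ⟨Ne.symm hne, Finset.mem_univ χ⟩)] at h4
  have := Nat.one_le_pow 2 _ (Nat.pos_of_ne_zero ha')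
  have := Nat.one_le_pow 2 _ (Nat.pos_of_ne_zero (hea β))
  omega

theorem charDegree_eq {G : Type*} [Group G] {χ : G → ℂ} {n : ℕ} (h : χ 1 = n) :
    charDegree χ = n := by
  simp [charDegree, h]

/-- The irreducible characters of degree prime to the index of a normal Hall subgroup. -/
theorem card_coprime_degree {G : Type*} [Group G] [Finite G] (K : Subgroup G) [K.Normal]
    (hcop : (Nat.card K).Coprime K.index) :
    Nat.card {χ : IrrCharacter G // (charDegree (χ : G → ℂ)).Coprime K.index} =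
      Nat.card {θ : IrrCharacter K //
          ∀ (g : G) (n : K), (θ : K → ℂ) (MulAut.conjNormal g n) = (θ : K → ℂ) n} *
        Nat.card {β : IrrCharacter (G ⧸ K) // (β : G ⧸ K → ℂ) 1 = 1} := by
  classical
  haveI := Fintype.ofFinite G
  haveI := Fintype.ofFinite K
  have hext : ∀ θ : {θ : IrrCharacter K //
      ∀ (g : G) (n : K), (θ : K → ℂ) (MulAut.conjNormal g n) = (θ : K → ℂ) n},
      ∃ χ : G → ℂ, IsIrrCharacter G χ ∧ ∀ n : K, χ n = (θ.1 : K → ℂ) n :=
    fun θ => exists_extension_of_coprime K hcop _ θ.1.2 θ.2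
  choose x hxi hx using hext
  choose e he heinj hesurj using fun θ => exists_gallagher K θ.1
    (CfsgLib.CharTheory.IsIrrCharacter.isCharacter (hxi θ)) (hx θ)
  choose d _ hdK hd using fun θ : IrrCharacter K =>
    CfsgLib.CharTheory.IsIrrCharacter.exists_degree_dvd θ.2
  have hres : ∀ θ (β : IrrCharacter (G ⧸ K)), (β : G ⧸ K → ℂ) 1 = 1 → ∀ k : K,
      (e θ β : G → ℂ) k = (θ.1 : K → ℂ) k := fun θ β hβ k => by
    rw [he, hx, (QuotientGroup.eq_one_iff (k : G)).mpr k.2, hβ, mul_one]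
  rw [← Nat.card_prod]
  symm
  refine Nat.card_eq_of_bijective
    (fun q => ⟨e q.1 q.2.1, ?_⟩) ⟨fun q q' h => ?_, fun χ => ?_⟩
  · rw [charDegree_eq (n := d q.1.1) ((hres _ _ q.2.2 1).trans (hd _))]
    exact Nat.Coprime.coprime_dvd_left (hdK _) hcop
  · obtain ⟨θ, β⟩ := q
    obtain ⟨θ', β'⟩ := q'
    have h0 : e θ β.1 = e θ' β'.1 := congrArg Subtype.val h
    obtain rfl : θ = θ' := Subtype.ext (Subtype.ext (funext fun k =>
      (hres θ β.1 β.2 k).symm.trans ((by rw [h0] : (e θ β.1 : G → ℂ) k = _).trans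
        (hres θ' β'.1 β'.2 k))))
    exact Prod.ext rfl (Subtype.ext (heinj θ h0))
  · obtain ⟨χ, hχ⟩ := χ
    haveI := Fintype.ofFinite (IrrCharacter K)
    obtain ⟨η, hη⟩ : ∃ η : IrrCharacter K,
        classInner (fun k : K => (χ : G → ℂ) k) (η : K → ℂ) ≠ 0 := by
      by_contra hno
      push Not at hno
      have h1 := congrFun (CfsgLib.CharTheory.eq_sum_classInner (f := fun k : K => (χ : G → ℂ) k)
        fun a b => CfsgLib.CharTheory.IsIrrCharacter.isClassFunction χ.2 (a : G) (b : G)) 1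
      simp [Finset.sum_apply, hno, CfsgLib.CharTheory.apply_one_ne_zero_of_isIrr χ.2] at h1
    let T : Subgroup G :=
      { carrier := {g | CfsgLib.Clifford.conjChar K (η : K → ℂ) g = η}
        one_mem' := CfsgLib.Clifford.conjChar_one _ _
        mul_mem' := fun {g h} hg hh => by
          show CfsgLib.Clifford.conjChar K (η : K → ℂ) (g * h) = η
          rw [← CfsgLib.Clifford.conjChar_conjChar, hg, hh]
        inv_mem' := fun {g} hg => by
          show CfsgLib.Clifford.conjChar K (η : K → ℂ) g⁻¹ = η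
          conv_lhs => rw [← hg]
          rw [CfsgLib.Clifford.conjChar_conjChar, mul_inv_cancel, CfsgLib.Clifford.conjChar_one] }
    have hKT : K ≤ T := fun k hk => funext fun n => by
      rw [CfsgLib.Clifford.conjChar_apply]
      exact (congrArg (η : K → ℂ) (Subtype.ext rfl)).trans
        (CfsgLib.CharTheory.IsIrrCharacter.isClassFunction η.2 n ⟨k, hk⟩)
    obtain ⟨n, -, hn⟩ := CfsgLib.CharTheory.exists_degree_of_isIrr χ.2
    rw [charDegree_eq hn] at hχ
    have hdeg := CfsgLib.Clifford.apply_one_eq K χ.2 η.2 hη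
    rw [show classInner (fun k : K => (χ : G → ℂ) k) (η : K → ℂ) = _ from
      classInner_eq_mult K.subtype (CfsgLib.CharTheory.IsIrrCharacter.isCharacter χ.2) η,
      CfsgLib.Clifford.card_conjOrbit K (η : K → ℂ) T (fun g => Iff.rfl), hn, hd η,
      ← Nat.cast_mul, ← Nat.cast_mul, Nat.cast_inj] at hdeg
    have hT : T.index = 1 := Nat.eq_one_of_dvd_coprimes hχ
      ⟨mult K.subtype (χ : G → ℂ) (η : K → ℂ) * d η, by rw [hdeg]; ring⟩
      (Subgroup.index_dvd_of_le hKT)
    have hinv : ∀ (g : G) (k : K), (η : K → ℂ) (MulAut.conjNormal g k) = (η : K → ℂ) k :=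
      fun g k => by
        have hg : g ∈ T := by rw [Subgroup.index_eq_one.mp hT]; trivial
        rw [← congrFun (CfsgLib.Clifford.conjChar_eq_comp K (η : K → ℂ) g) k]
        exact congrFun hg k
    obtain ⟨β, hβ⟩ := hesurj ⟨η, hinv⟩ χ hη
    obtain ⟨m, -, hmK, hm⟩ := CfsgLib.CharTheory.IsIrrCharacter.exists_degree_dvd β.2
    have hm1 : m = 1 := by
      refine Nat.eq_one_of_dvd_coprimes hχ ⟨d η, ?_⟩ (by rw [Subgroup.index_eq_card]; exact hmK)
      have h1 := he ⟨η, hinv⟩ β 1
      have h2 : x ⟨η, hinv⟩ 1 = d η := (hx ⟨η, hinv⟩ 1).trans (hd η)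
      rw [hβ, hn, h2, QuotientGroup.mk_one, hm, ← Nat.cast_mul, Nat.cast_inj] at h1
      rw [h1, mul_comm]
    exact ⟨(⟨η, hinv⟩, ⟨β, by rw [hm, hm1, Nat.cast_one]⟩), Subtype.ext hβ⟩

end CfsgLib.CharDegreesTheory
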