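import Mathlib
import Cfsg.Agent.Lib.BlockLocal.BlockCover
import Cfsg.Agent.Lib.BrauerPairs.Covering
import Cfsg.Agent.Lib.BrauerPairs.BridgeDefect
import Cfsg.Agent.Lib.BrauerPairs.BridgeConj

/-!
Defect groups of a block and of a covered block of a normal subgroup.
-/

set_option autoImplicit false
set_option linter.style.haveILetI false
set_option linter.unusedSectionVars false

namespace CfsgLib.CharDegreesTheory

open Cfsg CfsgLib.BlockLocal CfsgLib.BrauerPairs

variable {G : Type*} [Group G] [Fintype G] {p : ℕ} [hp : Fact p.Prime] {M : Ideal AlgInt}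
  [M.IsPrime]

/-- A non-vanishing product of the idempotents means covering. -/
theorem exists_constituent_of_mul_ne_zero (N : Subgroup G) [hN : N.Normal] [Fintype N]
    {B : Set (IrrCharacter G)} (hB : IsPBlock M B) {b : Set (IrrCharacter N)} (hb : IsPBlock M b)
    (h : redElem M (blockCoeff B) * subIdem M N b ≠ 0) :
    ∃ χ ∈ B, ∃ θ ∈ b, classInner (fun n : N => (χ : G → ℂ) n) (θ : N → ℂ) ≠ 0 := by
  classical
  haveI := Fintype.ofFinite (IrrCharacter N)
  by_contra hcon
  push Not at hcon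
  refine h ?_
  let S := orbitSet N b
  have hS : ∀ g : G, ∀ η ∈ S, conjIrr N g η ∈ S := fun g η => conjIrr_mem_orbitSet N g
  have hSl : ∀ n : N, MemLocalRing M (blockCoeff (S : Set (IrrCharacter N)) n) := fun n => by
    rw [blockCoeff_eq_coeffSet]
    exact memLocalRing_coeffSet_of_closed S (orbitSet_closed N hb) n
  have hSG : ∀ x, MemLocalRing M (extendByZero N (coeffSet S) x) :=
    memLocalRing_extend_coeffSet N S (orbitSet_closed N hb)
  let z : Blocks.classAlg (Blocks.locRing M) G :=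
    ⟨Blocks.ofFun fun x => ⟨extendByZero N (coeffSet S) x, hSG x⟩,
      Blocks.isClassElem_ofFun fun c x =>
        Subtype.ext (isClassFunction_extend_coeffSet N S hS x c)⟩
  set h0 := Blocks.memLocalRing_blockCoeff (M := M) hB
  have hz : Blocks.idemLoc M B h0 * z = 0 := by
    refine Blocks.classAlgLoc_ext fun χ => ?_
    rw [map_mul, map_zero]
    by_cases hχ : χ ∈ B
    · obtain ⟨θ, hθ⟩ := exists_constituent N χ
      have hθS : θ ∉ S := fun hS' => by
        obtain ⟨g, η, hη, rfl⟩ := (mem_orbitSet N).1 hS'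
        rw [classInner_res_conjIrr] at hθ
        exact hθ (hcon χ hχ η hη)
      have : Blocks.omegaLoc M χ z = 0 := by
        apply Subtype.ext
        rw [Blocks.coe_omegaLoc, Blocks.omega_eq_sum]
        have h1 := sum_extend_coeffSet_div (G := G) N S hS hθ
        rw [if_neg hθS] at h1
        refine Eq.trans ?_ h1
        congr 1
      rw [this, mul_zero]
    · rw [Blocks.omegaLoc_idemLoc_of_notMem _ hχ, zero_mul]
  set hbl := Blocks.memLocalRing_blockCoeff (M := M) hb
  have hN' : Blocks.idemLoc M (S : Set (IrrCharacter N)) hSl * Blocks.idemLoc M b hbl =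
      Blocks.idemLoc M b hbl := by
    refine Blocks.classAlgLoc_ext fun θ => ?_
    rw [map_mul]
    by_cases hθ : θ ∈ b
    · rw [Blocks.omegaLoc_idemLoc_of_mem _ (Finset.mem_coe.2 (mem_orbitSet_self N hθ)), one_mul]
    · rw [Blocks.omegaLoc_idemLoc_of_notMem hbl hθ, mul_zero]
  have hz1 := congrArg (fun t : Blocks.classAlg (Blocks.locRing M) G =>
    (Blocks.classMap (Blocks.red M) t : MonoidAlgebra (Blocks.Res M) G)) hz
  simp only [map_mul, map_zero, Subalgebra.coe_mul, ZeroMemClass.coe_zero] at hz1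
  have eB : (Blocks.classMap (Blocks.red M) (Blocks.idemLoc M B h0) :
      MonoidAlgebra (Blocks.Res M) G) = redElem M (blockCoeff B) := (redElem_blockCoeff hB).symm
  have eZ : (Blocks.classMap (Blocks.red M) z : MonoidAlgebra (Blocks.Res M) G) =
      subIdem M N (S : Set (IrrCharacter N)) := by
    ext g
    rw [coeff_redElem]
    by_cases hg : g ∈ N
    · rw [subgroupBlockCoeff, dif_pos hg, blockCoeff_eq_coeffSet]
      have h1 : extendByZero N (coeffSet S) g = coeffSet S ⟨g, hg⟩ :=
        CfsgLib.Frobenius.extendByZero_of_mem _ _ hg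
      rw [← h1, redC_of_mem (hSG g)]
      simp [z, Blocks.coe_classMap]
    · rw [subgroupBlockCoeff, dif_neg hg, redC_zero]
      have h1 : extendByZero N (coeffSet S) g = 0 :=
        CfsgLib.Frobenius.extendByZero_of_not_mem _ _ hg
      have h2 : (⟨extendByZero N (coeffSet S) g, hSG g⟩ : Blocks.locRing M) = 0 := Subtype.ext h1
      simp [z, Blocks.coe_classMap, h2]
  rw [eB, eZ] at hz1
  have hN1 := congrArg (fun t : Blocks.classAlg (Blocks.locRing M) N =>
    mapG N.subtype (Blocks.classMap (Blocks.red M) t : MonoidAlgebra (Blocks.Res M) N)) hN'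
  simp only [map_mul, Subalgebra.coe_mul] at hN1
  have eS : ∀ (e : Set (IrrCharacter N)) (he : ∀ n, MemLocalRing M (blockCoeff e n)),
      mapG N.subtype (Blocks.classMap (Blocks.red M) (Blocks.idemLoc M e he) :
        MonoidAlgebra (Blocks.Res M) N) = subIdem M N e := by
    intro e he
    rw [subIdem, redElem_subgroupBlockCoeff]
    congr 1
    ext n
    rw [coeff_redElem, redC_of_mem (he n)]
    exact Blocks.coeff_idemRes (M := M) he n
  rw [eS, eS] at hN1
  rw [← hN1, ← mul_assoc, hz1, zero_mul]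

/-- A block has a defect group meeting a normal subgroup in a given defect group of a covered
block. -/
theorem exists_defectGroup_inf (hM : IsPModular p M) (N : Subgroup G) [hN : N.Normal] [Fintype N]
    {b : Set (IrrCharacter N)} (hb : IsPBlock M b) {Q : Subgroup G} (hQN : Q ≤ N)
    (hQ : IsDefectGroup p M b (Q.subgroupOf N)) {B : Set (IrrCharacter G)} (hB : IsPBlock M B)
    (hcov : ∃ χ ∈ B, ∃ θ ∈ b, classInner (fun n : N => (χ : G → ℂ) n) (θ : N → ℂ) ≠ 0) :
    ∃ P : Subgroup G, IsDefectGroup p M B P ∧ P ⊓ N = Q := by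
  classical
  haveI := Blocks.charP_res hM
  haveI := Fintype.ofFinite (IrrCharacter N)
  obtain ⟨P₀, hP₀⟩ := exists_isDefectGroup hM hB
  rw [isDefectGroup_iff hM hB] at hP₀
  have hnorm : (⊤ : Subgroup G) ≤ Subgroup.normalizer (N : Set G) := by
    rw [Subgroup.normalizer_eq_top]
  have hbB := isBlockIdem_redElem_blockCoeff (M := M) hB
  obtain ⟨c, hc, hbc, -, hcD, -, -⟩ := exists_covered le_top hnorm hbB hP₀
  obtain ⟨b', hb', rfl⟩ := exists_isPBlock_subIdem hc
  obtain ⟨χ, hχ, θ, hθ, hcon⟩ := exists_constituent_of_mul_ne_zero N hB hb' hbc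
  obtain ⟨χ₁, hχ₁, θ₁, hθ₁, hcon₁⟩ := hcov
  obtain ⟨g, η, hη, rfl⟩ := (mem_orbitSet N).1
    (mem_orbitSet_of_constituent N hb (Blocks.sameBlock_of_mem hB hχ₁ hχ) hθ₁ hcon₁ hcon)
  have hNg : ∀ x : G, N = cj x N := fun x =>
    (cj_of_mem_normalizer (hnorm (Subgroup.mem_top x))).symm
  have hb'eq : b' = compIrr (cjEquiv g (hNg g)) '' b := by
    refine Blocks.isPBlock_eq_of_mem hb' (isPBlock_image_compIrr _ hb) hθ
      ⟨η, hη, Subtype.ext (funext fun n => ?_)⟩
    rw [compIrr_apply, conjIrr_apply]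
    refine congrArg _ (Subtype.ext ?_)
    rw [coe_cjEquiv, MulAut.conjNormal_apply, inv_inv]
  rw [hb'eq, subIdem_image (hNg g)] at hcD
  have h1 := hcD.conj_cj g⁻¹
  rw [← hNg g⁻¹, ← conjA_mul, inv_mul_cancel, conjA_one] at h1
  have hQ' := (isDefectGroup_sub_iff hM hb).1 hQ
  rw [Subgroup.subgroupOf, Subgroup.map_comap_eq, Subgroup.range_subtype, inf_eq_right.2 hQN] at hQ'
  obtain ⟨n, hn, hQeq⟩ := h1.exists_conj hQ'
  refine ⟨cj (n * g⁻¹) P₀, ?_, ?_⟩
  · rw [isDefectGroup_iff hM hB]
    have htop : cj (n * g⁻¹) (⊤ : Subgroup G) = ⊤ := cj_of_mem (Subgroup.mem_top _)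
    have hfix : conjA (n * g⁻¹) (redElem M (blockCoeff B)) = redElem M (blockCoeff B) :=
      (mem_ctr.1 hbB.mem).2 (n * g⁻¹) (Subgroup.mem_top _)
    have h2 := hP₀.conj_cj (n * g⁻¹)
    rwa [htop, hfix] at h2
  · rw [hQeq]
    show _ = cj n (cj g⁻¹ (P₀ ⊓ N))
    rw [← cj_mul, cj_inf, ← hNg]

end CfsgLib.CharDegreesTheory
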