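import Mathlib
import Cfsg.Agent.Lib.CharTheory.Degree
import Cfsg.Agent.Lib.CharTheory.Orthogonality
import Cfsg.Agent.Lib.CharDegreesTheory.IntCong
import Cfsg.Agent.Lib.CharDegreesTheory.IrrComp

/-!
The Glauberman correspondence for a `p`-group acting coprimely, proved by congruences modulo `p`.
-/

set_option autoImplicit false
set_option linter.style.haveILetI false
set_option linter.unusedSectionVars false

namespace CfsgLib.CharDegreesTheory

open Cfsg

/-- The class sum of `c` acts on an irreducible character as the central character value. -/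
theorem sum_class_mul {G : Type*} [Group G] [Fintype G] (χ : IrrCharacter G) (c x : G)
    [DecidablePred (IsConj c)] :
    ∑ g with IsConj c g, (χ : G → ℂ) (g * x) =
      ((Subgroup.centralizer ({c} : Set G)).index : ℂ) * (χ : G → ℂ) c / (χ : G → ℂ) 1 *
        (χ : G → ℂ) x := by
  obtain ⟨n, ρ, hρ, hχ⟩ := χ.2
  obtain ⟨w, -, hw, hw2⟩ := CfsgLib.CharTheory.exists_classSum_eq_smul ρ c
  rw [← hχ, Representation.char_one, ← hw2, mul_div_cancel_right₀ _
    (by exact_mod_cast (CfsgLib.CharTheory.finrank_pos_of_isIrreducible ρ).ne')]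
  have h2 := congrArg (fun T : (Fin n → ℂ) →ₗ[ℂ] (Fin n → ℂ) =>
    LinearMap.trace ℂ (Fin n → ℂ) (T ∘ₗ ρ x)) hw
  simp only [LinearMap.smul_comp, LinearMap.id_comp, map_smul, smul_eq_mul] at h2
  simp only [← Module.End.mul_eq_comp, Finset.sum_mul, map_sum] at h2
  refine Eq.trans ?_ h2
  refine Finset.sum_congr (by ext g; simp) fun g _ => ?_
  rw [Representation.character, map_mul]

variable {S G C : Type*} [Group S] [Finite S] [Group G] [Finite G] [Group C] [Finite C]
  (φ : S →* MulAut G) (ι : C →* G) {p : ℕ} [hp : Fact p.Prime]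

/-- The hypotheses of the Glauberman correspondence for a `p`-group. -/
structure CoprimePSetup (p : ℕ) : Prop where
  isPGroup : IsPGroup p S
  not_dvd : ¬ p ∣ Nat.card G
  inj : Function.Injective ι
  fixed_iff : ∀ g : G, (∀ s : S, φ s g = g) ↔ g ∈ ι.range

variable {φ ι} (h : CoprimePSetup φ ι p)

include h

theorem CoprimePSetup.apply_eq (s : S) (c : C) : φ s (ι c) = ι c :=
  (h.fixed_iff (ι c)).mpr ⟨c, rfl⟩ s

omit [Finite S] hp in
theorem CoprimePSetup.not_dvd_card : ¬ p ∣ Nat.card C :=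
  fun hd => h.not_dvd (hd.trans (Subgroup.card_dvd_of_injective ι h.inj))

/-- An invariant integral function on `G` has the same sum as on the fixed points, modulo `p`. -/
theorem CoprimePSetup.intCong_sum [Fintype G] [Fintype C] (f : G → ℂ)
    (hf : ∀ g, IsIntegral ℤ (f g)) (hinv : ∀ s g, f (φ s g) = f g) :
    IntCong p (∑ g, f g) (∑ c, f (ι c)) := by
  classical
  letI : MulAction S G := MulAction.compHom G φ
  have h1 := intCong_sum_fixedPoints (X := G) h.isPGroup f hf hinv
  have h2 : (Finset.univ.filter fun g : G => g ∈ MulAction.fixedPoints S G)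
      = Finset.univ.image ι := by
    ext g
    simp only [Finset.mem_filter, Finset.mem_univ, true_and, Finset.mem_image,
      MulAction.mem_fixedPoints]
    exact h.fixed_iff g
  rw [h2, Finset.sum_image fun a _ b _ hab => h.inj hab] at h1
  exact h1

/-- Fixed elements conjugate in `G` are conjugate in the fixed subgroup. -/
theorem CoprimePSetup.isConj_iff_map {c d : C} : IsConj (ι c) (ι d) ↔ IsConj c d := by
  refine ⟨fun hconj => ?_, fun hcd => ι.map_isConj hcd⟩
  obtain ⟨x₀, hx₀⟩ := isConj_iff.mp hconj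
  let X := {x : G // x * ι c * x⁻¹ = ι d}
  have key : ∀ (s : S) (x : G), x * ι c * x⁻¹ = ι d → φ s x * ι c * (φ s x)⁻¹ = ι d := by
    intro s x hx
    rw [← h.apply_eq s c, ← map_inv, ← map_mul, ← map_mul, hx, h.apply_eq]
  letI : MulAction S X :=
    { smul := fun s x => ⟨φ s x.1, key s x.1 x.2⟩
      one_smul := fun x => Subtype.ext (by show φ 1 x.1 = x.1; simp)
      mul_smul := fun s t x => Subtype.ext (by
        show φ (s * t) x.1 = φ s (φ t x.1); simp) }
  let e : Subgroup.centralizer ({ι c} : Set G) ≃ X :=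
    { toFun := fun z => ⟨x₀ * z, by
        have hz := Subgroup.mem_centralizer_singleton_iff.mp z.2
        rw [mul_inv_rev, mul_assoc x₀, hz]
        simp only [← mul_assoc, mul_inv_cancel_right]
        exact hx₀⟩
      invFun := fun x => ⟨x₀⁻¹ * x.1, by
        rw [Subgroup.mem_centralizer_singleton_iff]
        have hx := x.2
        have h1 : x.1 * ι c = ι d * x.1 := mul_inv_eq_iff_eq_mul.mp hx
        have h2 : x₀ * ι c = ι d * x₀ := mul_inv_eq_iff_eq_mul.mp hx₀
        have h3 : x₀⁻¹ * ι d = ι c * x₀⁻¹ := by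
          rw [inv_mul_eq_iff_eq_mul, ← mul_assoc, h2, mul_inv_cancel_right]
        rw [mul_assoc, h1, ← mul_assoc, h3, mul_assoc]⟩
      left_inv := fun z => Subtype.ext (inv_mul_cancel_left x₀ z)
      right_inv := fun x => Subtype.ext (mul_inv_cancel_left x₀ x.1) }
  have hX : ¬ p ∣ Nat.card X := by
    rw [← Nat.card_congr e]
    exact fun hd => h.not_dvd (hd.trans (Subgroup.card_subgroup_dvd_card _))
  obtain ⟨x, hx⟩ := h.isPGroup.nonempty_fixed_point_of_prime_not_dvd_card X hX
  obtain ⟨y, hy⟩ := (h.fixed_iff x.1).mp fun s => congrArg Subtype.val (hx s)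
  refine isConj_iff.mpr ⟨y, h.inj ?_⟩
  rw [map_mul, map_mul, map_inv, hy]
  exact x.2

/-- Congruence form of orthogonality on the fixed points. -/
theorem CoprimePSetup.dvd_sum_mult [Fintype (IrrCharacter C)] {χ χ' : IrrCharacter G}
    (hχ : IsInvariant φ (χ : G → ℂ)) (hχ' : IsInvariant φ (χ' : G → ℂ)) [Decidable (χ = χ')] :
    Nat.card C * ∑ β : IrrCharacter C,
        mult ι (χ : G → ℂ) (β : C → ℂ) * mult ι (χ' : G → ℂ) (β : C → ℂ) ≡
      (if χ = χ' then Nat.card G else 0) [MOD p] := by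
  classical
  haveI := Fintype.ofFinite G
  haveI := Fintype.ofFinite C
  have hc := fun ψ : IrrCharacter G => CfsgLib.CharTheory.IsIrrCharacter.isCharacter ψ.2
  have h1 := h.intCong_sum (fun g => (χ : G → ℂ) g * (χ' : G → ℂ) g⁻¹)
    (fun g => (CfsgLib.CharTheory.IsCharacter.isIntegral (hc χ) g).mul
      (CfsgLib.CharTheory.IsCharacter.isIntegral (hc χ') _))
    (fun s g => by rw [hχ, ← map_inv, hχ'])
  have e1 : ∑ g, (χ : G → ℂ) g * (χ' : G → ℂ) g⁻¹ =
      ((if χ = χ' then Nat.card G else 0 : ℕ) : ℂ) := by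
    have h2 := CfsgLib.CharTheory.classInner_irrCharacter χ χ'
    rw [CfsgLib.CharTheory.classInner_eq_sum_inv (hc χ'),
      inv_mul_eq_iff_eq_mul₀ (Nat.cast_ne_zero.mpr Nat.card_pos.ne')] at h2
    rw [h2]
    split_ifs <;> simp
  have e2 : ∑ c, (χ : G → ℂ) (ι c) * (χ' : G → ℂ) (ι c)⁻¹ =
      ((Nat.card C * ∑ β : IrrCharacter C,
        mult ι (χ : G → ℂ) (β : C → ℂ) * mult ι (χ' : G → ℂ) (β : C → ℂ) : ℕ) : ℂ) := by
    have h3 : classInner (fun c => (χ : G → ℂ) (ι c)) (fun c => (χ' : G → ℂ) (ι c)) =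
        ((∑ β : IrrCharacter C,
          mult ι (χ : G → ℂ) (β : C → ℂ) * mult ι (χ' : G → ℂ) (β : C → ℂ) : ℕ) : ℂ) := by
      rw [res_eq_sum_mult ι (hc χ'), CfsgLib.CharTheory.classInner_sum_right]
      simp only [CfsgLib.CharTheory.classInner_smul_right, classInner_eq_mult ι (hc χ),
        Complex.conj_natCast]
      push_cast
      exact Finset.sum_congr rfl fun β _ => mul_comm _ _
    rw [CfsgLib.CharTheory.classInner_eq_sum_inv (isCharacter_comp_hom (hc χ') ι),
      inv_mul_eq_iff_eq_mul₀ (Nat.cast_ne_zero.mpr Nat.card_pos.ne')] at h3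
    simp only [map_inv] at h3
    rw [Nat.cast_mul, ← h3]
  rw [e1, e2] at h1
  exact h1.symm.modEq hp.out.ne_zero

/-- Two constituents of multiplicity prime to `p` have congruent central characters. -/
theorem CoprimePSetup.centralChar_cong [Fintype (IrrCharacter C)] {χ : IrrCharacter G}
    (hχ : IsInvariant φ (χ : G → ℂ)) (β : IrrCharacter C)
    (hm : ¬ p ∣ mult ι (χ : G → ℂ) (β : C → ℂ)) (c : C) :
    IntCong p (((Subgroup.centralizer ({c} : Set C)).index : ℂ) * (β : C → ℂ) c / (β : C → ℂ) 1)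
      (((Subgroup.centralizer ({ι c} : Set G)).index : ℂ) * (χ : G → ℂ) (ι c) / (χ : G → ℂ) 1) := by
  classical
  haveI := Fintype.ofFinite G
  haveI := Fintype.ofFinite C
  have hc := CfsgLib.CharTheory.IsIrrCharacter.isCharacter χ.2
  have hcβ := CfsgLib.CharTheory.IsIrrCharacter.isCharacter β.2
  set ω := ((Subgroup.centralizer ({ι c} : Set G)).index : ℂ) * (χ : G → ℂ) (ι c) / (χ : G → ℂ) 1
    with hω
  set w := ((Subgroup.centralizer ({c} : Set C)).index : ℂ) * (β : C → ℂ) c / (β : C → ℂ) 1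
    with hw
  have hωint : IsIntegral ℤ ω := CfsgLib.CharTheory.IsIrrCharacter.isIntegral_index_mul_div χ.2 _
  have hwint : IsIntegral ℤ w := CfsgLib.CharTheory.IsIrrCharacter.isIntegral_index_mul_div β.2 _
  have hpt : ∀ x : C, IntCong p (ω * (χ : G → ℂ) (ι x))
      (∑ d with IsConj c d, (χ : G → ℂ) (ι (d * x))) := by
    intro x
    rw [hω, ← sum_class_mul χ (ι c) (ι x), Finset.sum_filter, Finset.sum_filter]
    have h1 := h.intCong_sum (fun g => if IsConj (ι c) g then (χ : G → ℂ) (g * ι x) else 0)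
      (fun g => by
        split_ifs
        · exact CfsgLib.CharTheory.IsCharacter.isIntegral hc _
        · exact isIntegral_zero)
      (fun s g => by
        have e1 : IsConj (ι c) (φ s g) ↔ IsConj (ι c) g := by
          constructor <;> intro hg
          · obtain ⟨y, hy⟩ := isConj_iff.mp hg
            refine isConj_iff.mpr ⟨(φ s).symm y, (φ s).injective ?_⟩
            rw [map_mul, map_mul, map_inv, MulEquiv.apply_symm_apply, h.apply_eq, hy]
          · obtain ⟨y, hy⟩ := isConj_iff.mp hg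
            refine isConj_iff.mpr ⟨φ s y, ?_⟩
            rw [← hy, map_mul, map_mul, map_inv, h.apply_eq]
        simp only [e1]
        split_ifs
        · conv_lhs => rw [← h.apply_eq s x, ← map_mul, hχ]
        · rfl)
    simpa only [h.isConj_iff_map, map_mul] using h1
  have hsum := IntCong.sum (s := Finset.univ) (f := fun x : C => ω * (χ : G → ℂ) (ι x) * (β : C → ℂ) x⁻¹)
    (g := fun x : C => (∑ d with IsConj c d, (χ : G → ℂ) (ι (d * x))) * (β : C → ℂ) x⁻¹)
    fun x _ => (hpt x).mul_right (CfsgLib.CharTheory.IsCharacter.isIntegral hcβ _)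
  have e1 : ∑ x : C, ω * (χ : G → ℂ) (ι x) * (β : C → ℂ) x⁻¹ =
      ((Nat.card C * mult ι (χ : G → ℂ) (β : C → ℂ) : ℕ) : ℂ) * ω := by
    have h3 := classInner_eq_mult ι hc β
    rw [CfsgLib.CharTheory.classInner_eq_sum_inv hcβ,
      inv_mul_eq_iff_eq_mul₀ (Nat.cast_ne_zero.mpr Nat.card_pos.ne')] at h3
    rw [Nat.cast_mul, ← h3, Finset.sum_mul]
    exact Finset.sum_congr rfl fun x _ => by ring
  have hexp : ∀ x : C, ∑ d with IsConj c d, (χ : G → ℂ) (ι (d * x)) =
      ∑ γ : IrrCharacter C, (mult ι (χ : G → ℂ) (γ : C → ℂ) : ℂ) *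
        (((Subgroup.centralizer ({c} : Set C)).index : ℂ) * (γ : C → ℂ) c / (γ : C → ℂ) 1) *
          (γ : C → ℂ) x := by
    intro x
    have h3 := res_eq_sum_mult ι hc
    have h4 : ∀ y, (χ : G → ℂ) (ι y) =
        ∑ γ : IrrCharacter C, (mult ι (χ : G → ℂ) (γ : C → ℂ) : ℂ) * (γ : C → ℂ) y := fun y => by
      simpa [Finset.sum_apply] using congrFun h3 y
    simp only [h4]
    rw [Finset.sum_comm]
    refine Finset.sum_congr rfl fun γ _ => ?_
    rw [← Finset.mul_sum, sum_class_mul γ c x]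
    ring
  have e2 : ∑ x : C, (∑ d with IsConj c d, (χ : G → ℂ) (ι (d * x))) * (β : C → ℂ) x⁻¹ =
      ((Nat.card C * mult ι (χ : G → ℂ) (β : C → ℂ) : ℕ) : ℂ) * w := by
    simp only [hexp, Finset.sum_mul]
    rw [Finset.sum_comm]
    have horth : ∀ γ : IrrCharacter C, ∑ x : C, (γ : C → ℂ) x * (β : C → ℂ) x⁻¹ =
        if γ = β then (Nat.card C : ℂ) else 0 := by
      intro γ
      have h5 := CfsgLib.CharTheory.classInner_irrCharacter γ β
      rw [CfsgLib.CharTheory.classInner_eq_sum_inv hcβ,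
        inv_mul_eq_iff_eq_mul₀ (Nat.cast_ne_zero.mpr Nat.card_pos.ne')] at h5
      rw [h5]; split_ifs <;> simp
    simp only [mul_assoc, ← Finset.mul_sum, horth]
    simp only [mul_ite, mul_zero, Finset.sum_ite_eq', Finset.mem_univ, if_true]
    rw [hw]; push_cast; ring
  rw [e1, e2] at hsum
  refine (IntCong.cancel hp.out (m := Nat.card C * mult ι (χ : G → ℂ) (β : C → ℂ)) ?_ hωint hwint
    hsum).symm
  exact fun hd => (hp.out.dvd_mul.mp hd).elim h.not_dvd_card hm

/-- At most one constituent has multiplicity prime to `p`. -/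
theorem CoprimePSetup.unique {χ : IrrCharacter G} (hχ : IsInvariant φ (χ : G → ℂ))
    {β β' : IrrCharacter C} (hβ : ¬ p ∣ mult ι (χ : G → ℂ) (β : C → ℂ))
    (hβ' : ¬ p ∣ mult ι (χ : G → ℂ) (β' : C → ℂ)) : β = β' := by
  classical
  haveI := Fintype.ofFinite (IrrCharacter C)
  haveI := Fintype.ofFinite C
  by_contra hne
  have hcβ := CfsgLib.CharTheory.IsIrrCharacter.isCharacter β.2
  let w : IrrCharacter C → C → ℂ := fun γ c =>
    ((Subgroup.centralizer ({c} : Set C)).index : ℂ) * (γ : C → ℂ) c / (γ : C → ℂ) 1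
  have hs : IntCong p
      (∑ c : C, w β c * ((Nat.card (Subgroup.centralizer ({c} : Set C)) : ℂ) * (β : C → ℂ) c⁻¹))
      (∑ c : C, w β' c * ((Nat.card (Subgroup.centralizer ({c} : Set C)) : ℂ) * (β : C → ℂ) c⁻¹)) :=
    IntCong.sum fun c _ => ((h.centralChar_cong hχ β hβ c).trans
      (h.centralChar_cong hχ β' hβ' c).symm).mul_right
      ((isIntegral_natCast_complex _).mul (CfsgLib.CharTheory.IsCharacter.isIntegral hcβ _))
  have hev : ∀ γ : IrrCharacter C,
      ∑ c : C, w γ c * ((Nat.card (Subgroup.centralizer ({c} : Set C)) : ℂ) * (β : C → ℂ) c⁻¹) =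
        (Nat.card C : ℂ) / (γ : C → ℂ) 1 * if γ = β then (Nat.card C : ℂ) else 0 := by
    intro γ
    have h5 := CfsgLib.CharTheory.classInner_irrCharacter γ β
    rw [CfsgLib.CharTheory.classInner_eq_sum_inv hcβ,
      inv_mul_eq_iff_eq_mul₀ (Nat.cast_ne_zero.mpr Nat.card_pos.ne')] at h5
    rw [show (if γ = β then (Nat.card C : ℂ) else 0) =
      (Nat.card C : ℂ) * (if γ = β then (1 : ℂ) else 0) by split_ifs <;> simp, ← h5,
      Finset.mul_sum]
    refine Finset.sum_congr rfl fun c _ => ?_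
    rw [← (Subgroup.centralizer ({c} : Set C)).card_mul_index]
    simp only [w]
    push_cast
    ring
  rw [hev, hev, if_pos rfl, if_neg (Ne.symm hne), mul_zero] at hs
  obtain ⟨d, -, hd, hd1⟩ := CfsgLib.CharTheory.IsIrrCharacter.exists_degree_dvd β.2
  have h6 := hs.mul_right (isIntegral_natCast_complex d)
  have hd0 : (β : C → ℂ) 1 ≠ 0 := CfsgLib.CharTheory.apply_one_ne_zero_of_isIrr β.2
  rw [zero_mul, ← hd1, div_mul_eq_mul_div, div_mul_cancel₀ _ hd0, ← Nat.cast_mul] at h6
  exact (hp.out.dvd_mul.mp (h6.dvd hp.out.ne_zero)).elim h.not_dvd_card h.not_dvd_card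

/-- Some constituent has multiplicity prime to `p`. -/
theorem CoprimePSetup.exists_of_invariant {χ : IrrCharacter G} (hχ : IsInvariant φ (χ : G → ℂ)) :
    ∃ β : IrrCharacter C, ¬ p ∣ mult ι (χ : G → ℂ) (β : C → ℂ) := by
  classical
  haveI := Fintype.ofFinite (IrrCharacter C)
  by_contra hno
  push Not at hno
  have h1 := h.dvd_sum_mult hχ hχ
  rw [if_pos rfl] at h1
  exact h.not_dvd ((h1.dvd_iff dvd_rfl).mp
    (dvd_mul_of_dvd_right (Finset.dvd_sum fun β _ => dvd_mul_of_dvd_left (hno β) _) _))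

/-- Distinct invariant characters have distinct correspondents. -/
theorem CoprimePSetup.injective {χ χ' : IrrCharacter G} (hχ : IsInvariant φ (χ : G → ℂ))
    (hχ' : IsInvariant φ (χ' : G → ℂ)) {β : IrrCharacter C}
    (hβ : ¬ p ∣ mult ι (χ : G → ℂ) (β : C → ℂ)) (hβ' : ¬ p ∣ mult ι (χ' : G → ℂ) (β : C → ℂ)) :
    χ = χ' := by
  classical
  haveI := Fintype.ofFinite (IrrCharacter C)
  by_contra hne
  have h1 := h.dvd_sum_mult hχ hχ'
  rw [if_neg hne] at h1
  rw [← Finset.add_sum_erase _ _ (Finset.mem_univ β)] at h1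
  have h2 : p ∣ ∑ γ ∈ Finset.univ.erase β,
      mult ι (χ : G → ℂ) (γ : C → ℂ) * mult ι (χ' : G → ℂ) (γ : C → ℂ) := by
    refine Finset.dvd_sum fun γ hγ => dvd_mul_of_dvd_left ?_ _
    by_contra hd
    exact (Finset.mem_erase.mp hγ).1 (h.unique hχ hd hβ)
  rcases hp.out.dvd_mul.mp (Nat.modEq_zero_iff_dvd.mp h1) with hd | hd
  · exact h.not_dvd_card hd
  · exact (hp.out.dvd_mul.mp ((Nat.dvd_add_left h2).mp hd)).elim hβ hβ'

/-- The invariant constituents carry a degree sum prime to `p`; so every irreducible character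
of the fixed points has an invariant partner. -/
theorem CoprimePSetup.surjective (β : IrrCharacter C) :
    ∃ χ : IrrCharacter G, IsInvariant φ (χ : G → ℂ) ∧ ¬ p ∣ mult ι (χ : G → ℂ) (β : C → ℂ) := by
  classical
  haveI := Fintype.ofFinite G
  haveI := Fintype.ofFinite C
  haveI := Fintype.ofFinite (IrrCharacter G)
  letI := irrAction φ
  by_contra hno
  push Not at hno
  have hcomp : ∀ (s : S) (χ : IrrCharacter G),
      mult ι ((s • χ : IrrCharacter G) : G → ℂ) (β : C → ℂ) = mult ι (χ : G → ℂ) (β : C → ℂ) := by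
    intro s χ
    exact mult_comp_equiv ι ι (φ s⁻¹) (MulEquiv.refl C) (fun c => (h.apply_eq s⁻¹ c).symm)
      (χ : G → ℂ) (β : C → ℂ)
  let f : IrrCharacter G → ℂ := fun χ =>
    (χ : G → ℂ) 1 * (mult ι (χ : G → ℂ) (β : C → ℂ) : ℂ)
  have h1 := intCong_sum_fixedPoints (X := IrrCharacter G) h.isPGroup f
    (fun χ => (CfsgLib.CharTheory.IsCharacter.isIntegral
      (CfsgLib.CharTheory.IsIrrCharacter.isCharacter χ.2) _).mul (isIntegral_natCast_complex _))
    (fun s χ => by simp only [f, hcomp, irrAction_smul_apply, map_one])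
  obtain ⟨d, -, hd, hd1⟩ := CfsgLib.CharTheory.IsIrrCharacter.exists_degree_dvd β.2
  have e1 : ∑ χ, f χ = ((ι.range.index * d : ℕ) : ℂ) := by
    have h2 : classInner (fun c => ∑ χ : IrrCharacter G, (χ : G → ℂ) 1 * (χ : G → ℂ) (ι c))
        (β : C → ℂ) = ∑ χ, f χ := by
      rw [show (fun c => ∑ χ : IrrCharacter G, (χ : G → ℂ) 1 * (χ : G → ℂ) (ι c)) =
        ∑ χ : IrrCharacter G, ((χ : G → ℂ) 1) • (fun c => (χ : G → ℂ) (ι c)) by
          funext c; simp [Finset.sum_apply]]
      rw [CfsgLib.CharTheory.classInner_sum_left]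
      exact Finset.sum_congr rfl fun χ _ => by
        rw [CfsgLib.CharTheory.classInner_smul_left,
          classInner_eq_mult ι (CfsgLib.CharTheory.IsIrrCharacter.isCharacter χ.2)]
    rw [← h2]
    simp only [CfsgLib.CharTheory.sum_degree_mul, classInner]
    rw [Finset.sum_eq_single (1 : C) (fun c _ hc => by
      rw [if_neg (fun h1 => hc (h.inj (h1.trans (map_one ι).symm))), zero_mul])
      (fun hn => absurd (Finset.mem_univ _) hn)]
    rw [map_one, if_pos rfl, hd1, Complex.conj_natCast, ← ι.range.card_mul_index,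
      ← Nat.card_congr (MonoidHom.ofInjective h.inj).toEquiv]
    push_cast
    field_simp
  have h2 : IntCong p (∑ χ with χ ∈ MulAction.fixedPoints S (IrrCharacter G), f χ) 0 := by
    rw [← Finset.sum_const_zero (s := (Finset.univ.filter fun χ : IrrCharacter G =>
      χ ∈ MulAction.fixedPoints S (IrrCharacter G)))]
    refine IntCong.sum fun χ hχ => ?_
    obtain ⟨k, hk⟩ := hno χ ((mem_fixedPoints_irrAction φ χ).mp (Finset.mem_filter.mp hχ).2)
    refine ⟨(χ : G → ℂ) 1 * (k : ℂ), (CfsgLib.CharTheory.IsCharacter.isIntegral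
      (CfsgLib.CharTheory.IsIrrCharacter.isCharacter χ.2) _).mul (isIntegral_natCast_complex _), ?_⟩
    simp only [f, hk]
    push_cast
    ring
  rw [e1] at h1
  rcases hp.out.dvd_mul.mp ((h1.trans h2).dvd hp.out.ne_zero) with hdd | hdd
  · exact h.not_dvd (hdd.trans (Subgroup.index_dvd_card _))
  · exact h.not_dvd_card (hdd.trans hd)

end CfsgLib.CharDegreesTheory
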