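import Mathlib
import Cfsg.Agent.Lib.CharDegreesTheory.Glauberman

/-!
The Glauberman setup attached to subgroups `G`, `S` of an ambient group.
-/

set_option autoImplicit false
set_option linter.style.haveILetI false

namespace CfsgLib.CharDegreesTheory

open Cfsg

variable {Γ : Type*} [Group Γ]

/-- The automorphisms of `G` induced by a subgroup `S` normalizing it. -/
def conjRes (G S : Subgroup Γ) (hnorm : ∀ s ∈ S, ∀ g ∈ G, s * g * s⁻¹ ∈ G) : S →* MulAut G where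
  toFun s :=
    { toFun := fun g => ⟨s * g * (s : Γ)⁻¹, hnorm s s.2 g g.2⟩
      invFun := fun g => ⟨(s : Γ)⁻¹ * g * s, by
        simpa using hnorm ((s : Γ)⁻¹) (inv_mem s.2) g g.2⟩
      left_inv := fun g => Subtype.ext (by simp [mul_assoc])
      right_inv := fun g => Subtype.ext (by simp [mul_assoc])
      map_mul' := fun a b => Subtype.ext (by simp [mul_assoc]) }
  map_one' := MulEquiv.ext fun g => Subtype.ext (by simp)
  map_mul' s t := MulEquiv.ext fun g => Subtype.ext (by simp [mul_assoc])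

@[simp]
theorem coe_conjRes_apply (G S : Subgroup Γ) (hnorm : ∀ s ∈ S, ∀ g ∈ G, s * g * s⁻¹ ∈ G) (s : S)
    (g : G) : ((conjRes G S hnorm s g : G) : Γ) = s * g * (s : Γ)⁻¹ := rfl

/-- Invariance in the form used by the statements. -/
theorem isInvariant_conjRes_iff (G S : Subgroup Γ)
    (hnorm : ∀ s ∈ S, ∀ g ∈ G, s * g * s⁻¹ ∈ G) (χ : G → ℂ) :
    IsInvariant (conjRes G S hnorm) χ ↔
      ∀ s ∈ S, ∀ g g' : G, (g' : Γ) = s * g * s⁻¹ → χ g' = χ g := by
  refine ⟨fun h s hs g g' he => ?_, fun h s g => h s s.2 g _ rfl⟩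
  rw [← h ⟨s, hs⟩ g]
  exact congrArg χ (Subtype.ext he)

/-- The fixed points of `S` on `G` are `G ⊓ C(S)`. -/
theorem conjRes_fixed_iff (G S C : Subgroup Γ) (hnorm : ∀ s ∈ S, ∀ g ∈ G, s * g * s⁻¹ ∈ G)
    (hC : C = G ⊓ Subgroup.centralizer (S : Set Γ)) (hCG : C ≤ G) (g : G) :
    (∀ s : S, conjRes G S hnorm s g = g) ↔ g ∈ (Subgroup.inclusion hCG).range := by
  constructor
  · intro h
    refine ⟨⟨g, ?_⟩, Subtype.ext rfl⟩
    rw [hC]
    refine ⟨g.2, Subgroup.mem_centralizer_iff.mpr fun s hs => ?_⟩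
    exact mul_inv_eq_iff_eq_mul.mp (congrArg Subtype.val (h ⟨s, hs⟩))
  · rintro ⟨⟨c, hc⟩, rfl⟩ s
    refine Subtype.ext ?_
    rw [hC] at hc
    show (s : Γ) * c * (s : Γ)⁻¹ = c
    rw [Subgroup.mem_centralizer_iff.mp hc.2 s s.2, mul_inv_cancel_right]

/-- The Glauberman setup of a `p`-subgroup `S` normalizing `G` and fixing exactly `C`. -/
theorem coprimePSetup_conjRes [Finite Γ] (G S C : Subgroup Γ) {p : ℕ} [hp : Fact p.Prime]
    (hnorm : ∀ s ∈ S, ∀ g ∈ G, s * g * s⁻¹ ∈ G)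
    (hC : C = G ⊓ Subgroup.centralizer (S : Set Γ)) (hCG : C ≤ G) (hS : IsPGroup p S)
    (hp' : ¬ p ∣ Nat.card G) :
    CoprimePSetup (conjRes G S hnorm) (Subgroup.inclusion hCG) p :=
  ⟨hS, hp', Subgroup.inclusion_injective hCG, conjRes_fixed_iff G S C hnorm hC hCG⟩

/-- The multiplicity of the correspondent squares to `1` modulo `p`. -/
theorem CoprimePSetup.mult_sq_modEq {S G C : Type*} [Group S] [Finite S] [Group G] [Finite G]
    [Group C] [Finite C] {φ : S →* MulAut G} {ι : C →* G} {p : ℕ} [hp : Fact p.Prime]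
    (h : CoprimePSetup φ ι p) {χ : IrrCharacter G} (hχ : IsInvariant φ (χ : G → ℂ))
    {β : IrrCharacter C} (hβ : ¬ p ∣ mult ι (χ : G → ℂ) (β : C → ℂ)) :
    (mult ι (χ : G → ℂ) (β : C → ℂ) : ℤ) ≡ 1 [ZMOD p] ∨
      (mult ι (χ : G → ℂ) (β : C → ℂ) : ℤ) ≡ -1 [ZMOD p] := by
  classical
  haveI := Fintype.ofFinite (IrrCharacter C)
  haveI := Fintype.ofFinite G
  haveI := Fintype.ofFinite C
  set m := mult ι (χ : G → ℂ) (β : C → ℂ)
  have h1 := h.dvd_sum_mult hχ hχ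
  rw [if_pos rfl, ← Finset.add_sum_erase _ _ (Finset.mem_univ β)] at h1
  have h2 : p ∣ ∑ γ ∈ Finset.univ.erase β,
      mult ι (χ : G → ℂ) (γ : C → ℂ) * mult ι (χ : G → ℂ) (γ : C → ℂ) := by
    refine Finset.dvd_sum fun γ hγ => dvd_mul_of_dvd_left ?_ _
    by_contra hd
    exact (Finset.mem_erase.mp hγ).1 (h.unique hχ hd hβ)
  have h3 : Nat.card G ≡ Nat.card C [MOD p] := by
    have := h.intCong_sum (fun _ => (1 : ℂ)) (fun _ => isIntegral_one) (fun _ _ => rfl)
    simp only [Finset.sum_const, Finset.card_univ, nsmul_eq_mul, mul_one,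
      ← Nat.card_eq_fintype_card] at this
    exact this.modEq hp.out.ne_zero
  have h4 : (((Nat.card C : ℕ) : ZMod p)) * ((m : ZMod p) * m) = (Nat.card C : ℕ) := by
    have h5 := ((ZMod.natCast_eq_natCast_iff _ _ _).mpr (h1.trans h3))
    push_cast at h5
    rw [show (∑ γ ∈ Finset.univ.erase β, (mult ι (χ : G → ℂ) (γ : C → ℂ) : ZMod p) *
      (mult ι (χ : G → ℂ) (γ : C → ℂ) : ZMod p)) = 0 by
      rw [← (ZMod.natCast_eq_zero_iff _ p)] at h2
      simpa using h2, add_zero] at h5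
    exact h5
  have hC0 : ((Nat.card C : ℕ) : ZMod p) ≠ 0 := fun hh =>
    h.not_dvd_card ((ZMod.natCast_eq_zero_iff _ _).mp hh)
  have h6 : (m : ZMod p) * m = 1 := mul_left_cancel₀ hC0 (by rw [h4, mul_one])
  rcases mul_self_eq_one_iff.mp h6 with h7 | h7
  · left; rw [← ZMod.intCast_eq_intCast_iff]; push_cast; exact h7
  · right; rw [← ZMod.intCast_eq_intCast_iff]; push_cast; exact h7

end CfsgLib.CharDegreesTheory
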