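import Mathlib
import Cfsg.Agent.Lib.CharTheory.Convolution
import Cfsg.Agent.Lib.CharTheory.Decomp
import Cfsg.Agent.Lib.Clifford.DetChar
import Cfsg.Agent.Lib.CoprimeAction.Basic

/-!
# Projections onto the characters over an invariant character

Everything is phrased along a homomorphism `ι : K →* G`, so that no subgroup has to be transported.
-/

set_option autoImplicit false
set_option linter.style.haveILetI false
set_option linter.unusedSectionVars false

open scoped ComplexConjugate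
open Cfsg CfsgLib.CharTheory

namespace CfsgLib.CharDegreesTheory

noncomputable section

universe u v w

/-- Conjugation by elements of `G` on the image of `ι` lifts to automorphisms fixing `φ`. -/
def InvariantAlong {K : Type u} {G : Type v} [Group K] [Group G] (ι : K →* G) (φ : K → ℂ) : Prop :=
  ∀ g : G, ∃ e : K ≃* K, (∀ k, ι (e k) = g * ι k * g⁻¹) ∧ ∀ k, φ (e k) = φ k

/-- `φ` is a constituent of the restriction of `χ` along `ι`. -/
def OverAlong {K : Type u} {G : Type v} [Group K] [Fintype K] [Group G] (ι : K →* G) (φ : K → ℂ)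
    (χ : G → ℂ) : Prop :=
  classInner (fun k => χ (ι k)) φ ≠ 0

theorem invariantAlong_id {K : Type u} [Group K] {φ : K → ℂ} (hφ : IsClassFunction K φ) :
    InvariantAlong (MonoidHom.id K) φ :=
  fun g => ⟨MulAut.conj g, fun k => rfl, fun k => hφ k g⟩

theorem InvariantAlong.of_comp {K : Type u} {J : Type v} {G : Type w} [Group K] [Group J] [Group G]
    {κ : K →* J} {j : J →* G} (hj : Function.Injective j) {φ : K → ℂ}
    (h : InvariantAlong (j.comp κ) φ) : InvariantAlong κ φ := fun a => by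
  obtain ⟨e, h1, h2⟩ := h (j a)
  exact ⟨e, fun k => hj (by rw [map_mul, map_mul, map_inv]; exact h1 k), h2⟩

section Projection

variable {K : Type u} {G : Type v} [Group K] [Fintype K] [Group G] [Finite G] {ι : K →* G}
  {φ : K → ℂ}

/-- Projection of an irreducible character onto an invariant character. -/
theorem sum_mul_apply_eq (hφ : IsIrrCharacter K φ) (hinv : InvariantAlong ι φ) {χ : G → ℂ}
    (hχ : IsIrrCharacter G χ) (a : G) :
    ∑ k, φ k⁻¹ * χ (ι k * a) =
      classInner (fun k => χ (ι k)) φ * (Nat.card K : ℂ) / χ 1 * χ a := by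
  obtain ⟨n, ρ, hρ, rfl⟩ := hχ
  obtain ⟨c, hc⟩ := exists_smul_of_commute ρ (∑ k, φ k⁻¹ • ρ (ι k)) (fun g => by
    show (∑ k, φ k⁻¹ • ρ (ι k)) * ρ g = ρ g * ∑ k, φ k⁻¹ • ρ (ι k)
    obtain ⟨e, h1, h2⟩ := hinv g
    rw [Finset.sum_mul, Finset.mul_sum]
    refine (Fintype.sum_equiv e.toEquiv _ _ fun k => ?_).symm
    show ρ g * (φ k⁻¹ • ρ (ι k)) = (φ (e k)⁻¹ • ρ (ι (e k))) * ρ g
    rw [mul_smul_comm, smul_mul_assoc, ← map_inv, h2, ← map_mul, ← map_mul, h1,
      inv_mul_cancel_right])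
  have hn : (Module.finrank ℂ (Fin n → ℂ) : ℂ) ≠ 0 := by
    exact_mod_cast (finrank_pos_of_isIrreducible ρ).ne'
  have hsum : classInner (fun k => ρ.character (ι k)) φ * (Nat.card K : ℂ)
      = ∑ k, φ k⁻¹ * ρ.character (ι k) := by
    rw [classInner, mul_comm _ (Nat.card K : ℂ), ← mul_assoc,
      mul_inv_cancel₀ (Nat.cast_ne_zero.2 Nat.card_pos.ne'), one_mul]
    exact Finset.sum_congr rfl fun k _ => by rw [IsIrrCharacter.inv hφ, mul_comm]
  have htr : c * (Module.finrank ℂ (Fin n → ℂ) : ℂ) = ∑ k, φ k⁻¹ * ρ.character (ι k) := by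
    have := congrArg (LinearMap.trace ℂ (Fin n → ℂ)) hc
    rw [map_sum, map_smul, LinearMap.trace_id, smul_eq_mul] at this
    rw [← this]
    exact Finset.sum_congr rfl fun k _ => by rw [map_smul, smul_eq_mul]; rfl
  have h := congrArg (fun T : Module.End ℂ (Fin n → ℂ) => LinearMap.trace ℂ (Fin n → ℂ) (T * ρ a)) hc
  simp only [Finset.sum_mul, map_sum, smul_mul_assoc, map_smul, smul_eq_mul, ← map_mul] at h
  rw [show ∑ k, φ k⁻¹ * ρ.character (ι k * a) = _ from h, hsum, ← htr, ρ.char_one,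
    mul_div_cancel_right₀ _ hn]
  rfl

/-- The restriction of a character over an invariant `φ` is a multiple of `φ`. -/
theorem OverAlong.res_eq (hφ : IsIrrCharacter K φ) (hinv : InvariantAlong ι φ) {χ : G → ℂ}
    (hχ : IsIrrCharacter G χ) (h : OverAlong ι φ χ) (k : K) :
    χ (ι k) = χ 1 / φ 1 * φ k := by
  classical
  have := Fintype.ofFinite (IrrCharacter K)
  obtain ⟨m, hm⟩ := IsCharacter.exists_sum
    (CfsgLib.Coherence.isCharacter_comp (IsIrrCharacter.isCharacter hχ) ι)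
  have hm' : ∀ x, χ (ι x) = ∑ ξ : IrrCharacter K, (m ξ : ℂ) * (ξ : K → ℂ) x := fun x => by
    have := congrFun hm x
    simpa [Finset.sum_apply] using this
  have hmφ : classInner (fun x => χ (ι x)) φ = (m ⟨φ, hφ⟩ : ℂ) := by
    rw [show (fun x => χ (ι x)) = ∑ ξ : IrrCharacter K, (m ξ : ℂ) • (ξ : K → ℂ) from hm]
    exact classInner_sum_irr _ ⟨φ, hφ⟩
  have h1 := sum_mul_apply_eq hφ hinv hχ (ι k)
  have h2 : ∑ x, φ x⁻¹ * χ (ι x * ι k) =
      (m ⟨φ, hφ⟩ : ℂ) * (Nat.card K : ℂ) / φ 1 * φ k := by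
    have e : ∀ ξ : IrrCharacter K, ∑ x, φ x⁻¹ * (ξ : K → ℂ) (x * k) =
        if ξ = ⟨φ, hφ⟩ then (Nat.card K : ℂ) / φ 1 * φ k else 0 := fun ξ => by
      have h3 := sum_mul_apply_eq hφ (invariantAlong_id (IsIrrCharacter.isClassFunction hφ)) ξ.2 k
      simp only [MonoidHom.id_apply] at h3
      rw [h3]
      split_ifs with he
      · subst he
        rw [classInner_self_of_isIrr hφ, one_mul]
      · rw [classInner_eq_zero_of_ne ξ.2 hφ fun e => he (Subtype.ext e)]
        simp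
    simp only [← map_mul, hm', Finset.mul_sum]
    rw [Finset.sum_comm]
    simp only [mul_left_comm (φ _) (_ : ℂ), ← Finset.mul_sum, e, mul_ite, mul_zero,
      Finset.sum_ite_eq', Finset.mem_univ, if_true]
    ring
  rw [h2, hmφ] at h1
  have hm0 : (m ⟨φ, hφ⟩ : ℂ) * (Nat.card K : ℂ) ≠ 0 :=
    mul_ne_zero (hmφ ▸ h) (Nat.cast_ne_zero.2 Nat.card_pos.ne')
  have := apply_one_ne_zero_of_isIrr hχ
  have := apply_one_ne_zero_of_isIrr hφ
  field_simp at h1 ⊢
  refine mul_left_cancel₀ (left_ne_zero_of_mul hm0) ?_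
  linear_combination -h1

theorem OverAlong.mult_eq (hφ : IsIrrCharacter K φ) (hinv : InvariantAlong ι φ) {χ : G → ℂ}
    (hχ : IsIrrCharacter G χ) (h : OverAlong ι φ χ) :
    classInner (fun k => χ (ι k)) φ = χ 1 / φ 1 := by
  have hr : (fun k => χ (ι k)) = (χ 1 / φ 1) • φ := funext fun k => by
    rw [h.res_eq hφ hinv hχ, Pi.smul_apply, smul_eq_mul]
  rw [hr, classInner_smul_left, classInner_self_of_isIrr hφ, mul_one]

theorem OverAlong.exists_nat (hφ : IsIrrCharacter K φ) (hinv : InvariantAlong ι φ) {χ : G → ℂ}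
    (hχ : IsIrrCharacter G χ) (h : OverAlong ι φ χ) :
    ∃ m : ℕ, m ≠ 0 ∧ χ 1 = m * φ 1 ∧ ∀ k, χ (ι k) = m * φ k := by
  obtain ⟨m, hm⟩ := IsCharacter.exists_classInner_eq_nat
    (CfsgLib.Coherence.isCharacter_comp (IsIrrCharacter.isCharacter hχ) ι) ⟨φ, hφ⟩
  have h1 : (m : ℂ) = χ 1 / φ 1 := hm.symm.trans (h.mult_eq hφ hinv hχ)
  refine ⟨m, fun h0 => h (by rw [hm, h0, Nat.cast_zero]), ?_, fun k => ?_⟩
  · rw [h1, div_mul_cancel₀ _ (apply_one_ne_zero_of_isIrr hφ)]
  · rw [h.res_eq hφ hinv hχ, h1]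

theorem OverAlong.sum_mul_apply (hφ : IsIrrCharacter K φ) (hinv : InvariantAlong ι φ) {χ : G → ℂ}
    (hχ : IsIrrCharacter G χ) (h : OverAlong ι φ χ) (a : G) :
    ∑ k, φ k⁻¹ * χ (ι k * a) = (Nat.card K : ℂ) / φ 1 * χ a := by
  rw [sum_mul_apply_eq hφ hinv hχ, h.mult_eq hφ hinv hχ]
  have := apply_one_ne_zero_of_isIrr hχ
  field_simp

theorem sum_mul_apply_eq_zero (hφ : IsIrrCharacter K φ) (hinv : InvariantAlong ι φ) {χ : G → ℂ}
    (hχ : IsIrrCharacter G χ) (h : ¬ OverAlong ι φ χ) (a : G) :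
    ∑ k, φ k⁻¹ * χ (ι k * a) = 0 := by
  rw [sum_mul_apply_eq hφ hinv hχ, not_not.1 h]
  simp

theorem OverAlong.apply_mul_eq_sum (hφ : IsIrrCharacter K φ) (hinv : InvariantAlong ι φ)
    {χ : G → ℂ} (hχ : IsIrrCharacter G χ) (h : OverAlong ι φ χ) (k : K) (a : G) :
    χ (ι k * a) = φ 1 / (Nat.card K : ℂ) * ∑ w, φ (k * w⁻¹) * χ (ι w * a) := by
  have h1 := h.sum_mul_apply hφ hinv hχ (ι k * a)
  rw [← Equiv.sum_comp (Equiv.mulRight k⁻¹)] at h1
  simp only [Equiv.coe_mulRight, mul_inv_rev, inv_inv, ← mul_assoc, ← map_mul,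
    inv_mul_cancel_right] at h1
  rw [h1, ← mul_assoc, div_mul_div_comm, mul_comm (φ 1), div_self, one_mul]
  exact mul_ne_zero (Nat.cast_ne_zero.2 Nat.card_pos.ne') (apply_one_ne_zero_of_isIrr hφ)

/-- An element of `ℂ[K]` acts on the characters over `φ` as it acts on `φ`. -/
theorem OverAlong.transfer (hφ : IsIrrCharacter K φ) (hinv : InvariantAlong ι φ) {χ : G → ℂ}
    (hχ : IsIrrCharacter G χ) (h : OverAlong ι φ χ) (v : K → ℂ) (c : ℂ)
    (hv : ∀ x : K, ∑ k, v k * φ (k * x) = c * φ x) (a : G) :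
    ∑ k, v k * χ (ι k * a) = c * χ a := by
  have hφ0 := apply_one_ne_zero_of_isIrr hφ
  have hK : (Nat.card K : ℂ) ≠ 0 := Nat.cast_ne_zero.2 Nat.card_pos.ne'
  calc ∑ k, v k * χ (ι k * a)
      = φ 1 / (Nat.card K : ℂ) * ∑ w, (∑ k, v k * φ (k * w⁻¹)) * χ (ι w * a) := by
        rw [Finset.sum_congr rfl fun k _ => by rw [h.apply_mul_eq_sum hφ hinv hχ k a]]
        simp only [Finset.mul_sum, Finset.sum_mul]
        rw [Finset.sum_comm]
        exact Finset.sum_congr rfl fun w _ => Finset.sum_congr rfl fun k _ => by ring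
    _ = c * χ a := by
        simp only [hv, mul_assoc, ← Finset.mul_sum]
        rw [h.sum_mul_apply hφ hinv hχ]
        field_simp

/-- Being over an invariant character passes to constituents of restrictions. -/
theorem overAlong_constituent_iff {J : Type w} [Group J] [Fintype J] (hφ : IsIrrCharacter K φ)
    {κ : K →* J} {j : J →* G} (hκ : InvariantAlong κ φ) (hι : InvariantAlong ι φ)
    (hcomp : j.comp κ = ι) {χ : G → ℂ} (hχ : IsIrrCharacter G χ) {η : J → ℂ}
    (hη : IsIrrCharacter J η) (h : classInner (fun x => χ (j x)) η ≠ 0) :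
    OverAlong ι φ χ ↔ OverAlong κ φ η := by
  classical
  have := Fintype.ofFinite (IrrCharacter J)
  obtain ⟨m, hm⟩ := IsCharacter.exists_sum
    (CfsgLib.Coherence.isCharacter_comp (IsIrrCharacter.isCharacter hχ) j)
  have hm' : ∀ x, χ (j x) = ∑ ξ : IrrCharacter J, (m ξ : ℂ) * (ξ : J → ℂ) x := fun x => by
    have := congrFun hm x
    simpa [Finset.sum_apply] using this
  have hmη : (m ⟨η, hη⟩ : ℂ) ≠ 0 := by
    have e : classInner (fun x => χ (j x)) η = (m ⟨η, hη⟩ : ℂ) := by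
      rw [show (fun x => χ (j x)) = ∑ ξ : IrrCharacter J, (m ξ : ℂ) • (ξ : J → ℂ) from hm]
      exact classInner_sum_irr _ ⟨η, hη⟩
    exact e ▸ h
  set t : ℂ := (Nat.card K : ℂ) / φ 1 with ht
  have ht0 : t ≠ 0 :=
    div_ne_zero (Nat.cast_ne_zero.2 Nat.card_pos.ne') (apply_one_ne_zero_of_isIrr hφ)
  set δ : ℂ := if OverAlong ι φ χ then 1 else 0 with hδ
  set ε : IrrCharacter J → ℂ := fun ξ => if OverAlong κ φ (ξ : J → ℂ) then 1 else 0 with hε
  have hzero : ∑ ξ : IrrCharacter J, ((m ξ : ℂ) * (δ - ε ξ)) • (ξ : J → ℂ) = 0 := by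
    funext a
    have h1 : ∑ k, φ k⁻¹ * χ (ι k * j a) = t * δ * χ (j a) := by
      rw [hδ]
      split_ifs with hc
      · rw [hc.sum_mul_apply hφ hι hχ, mul_one]
      · rw [sum_mul_apply_eq_zero hφ hι hχ hc]; simp
    have h2 : ∀ ξ : IrrCharacter J,
        ∑ k, φ k⁻¹ * (ξ : J → ℂ) (κ k * a) = t * ε ξ * (ξ : J → ℂ) a := fun ξ => by
      rw [hε]
      dsimp only
      split_ifs with hc
      · rw [hc.sum_mul_apply hφ hκ ξ.2, mul_one]
      · rw [sum_mul_apply_eq_zero hφ hκ ξ.2 hc]; simp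
    simp only [← hcomp, MonoidHom.comp_apply, ← map_mul, hm', Finset.mul_sum] at h1
    rw [Finset.sum_comm] at h1
    simp only [mul_left_comm (φ _) (_ : ℂ), ← Finset.mul_sum, h2] at h1
    refine mul_left_cancel₀ ht0 ?_
    simp only [Finset.sum_apply, Pi.smul_apply, smul_eq_mul, Pi.zero_apply, mul_zero, Finset.mul_sum]
    calc ∑ ξ : IrrCharacter J, t * ((m ξ : ℂ) * (δ - ε ξ) * (ξ : J → ℂ) a)
        = (∑ ξ : IrrCharacter J, t * δ * ((m ξ : ℂ) * (ξ : J → ℂ) a))
          - ∑ ξ : IrrCharacter J, (m ξ : ℂ) * (t * ε ξ * (ξ : J → ℂ) a) := by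
          rw [← Finset.sum_sub_distrib]
          exact Finset.sum_congr rfl fun ξ _ => by ring
      _ = 0 := by rw [h1, Finset.mul_sum, sub_self]
  have h3 := Fintype.linearIndependent_iff.1 linearIndependent_irr _ hzero ⟨η, hη⟩
  have h4 : δ = ε ⟨η, hη⟩ := sub_eq_zero.1 ((mul_eq_zero.1 h3).resolve_left hmη)
  rw [hδ, hε] at h4
  constructor
  · intro hc
    by_contra hn
    simp [hc, hn] at h4
  · intro hc
    by_contra hn
    simp [hc, hn] at h4

end Projection

section Schur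

variable {K : Type u} {G : Type v} [Group K] [Fintype K] [Group G] [Finite G] {ι : K →* G}
  {φ : K → ℂ}

/-- Schur's relation for a character with irreducible restriction. -/
theorem sum_apply_conj_eq (hφ : IsIrrCharacter K φ) {χ : G → ℂ} (hχ : IsIrrCharacter G χ)
    (hres : ∀ k, χ (ι k) = φ k) (a b : G) :
    ∑ u, χ (a * ι u * b * (ι u)⁻¹) = (Nat.card K : ℂ) / χ 1 * χ a * χ b := by
  obtain ⟨n, ρ, hρ, rfl⟩ := hχ
  obtain ⟨m, τ₀, hτ₀, hτ₀φ⟩ := hφ
  let τ : Representation ℂ K (Fin n → ℂ) := ρ.comp ι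
  have hτ : τ.IsIrreducible := by
    obtain ⟨e⟩ := nonempty_equiv_of_character_eq τ₀ τ (by
      rw [hτ₀φ]; exact (funext hres).symm)
    exact isIrreducible_of_equiv e
  obtain ⟨c, hc⟩ := exists_smul_of_commute τ (∑ u, ρ (ι u * b * (ι u)⁻¹)) (fun g => by
    show (∑ u, ρ (ι u * b * (ι u)⁻¹)) * ρ (ι g) = ρ (ι g) * ∑ u, ρ (ι u * b * (ι u)⁻¹)
    rw [Finset.sum_mul, Finset.mul_sum]
    refine Fintype.sum_equiv (Equiv.mulLeft g⁻¹) _ _ fun x => ?_
    rw [← map_mul, ← map_mul]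
    congr 1
    simp [mul_assoc])
  have hn : (Module.finrank ℂ (Fin n → ℂ) : ℂ) ≠ 0 := by
    exact_mod_cast (finrank_pos_of_isIrreducible ρ).ne'
  have htr : c * (Module.finrank ℂ (Fin n → ℂ) : ℂ) = (Nat.card K : ℂ) * ρ.character b := by
    have := congrArg (LinearMap.trace ℂ (Fin n → ℂ)) hc
    rw [map_sum, map_smul, LinearMap.trace_id, smul_eq_mul] at this
    rw [← this]
    show ∑ u, ρ.character (ι u * b * (ι u)⁻¹) = _
    simp [Nat.card_eq_fintype_card]
  have h := congrArg (fun T : Module.End ℂ (Fin n → ℂ) => LinearMap.trace ℂ (Fin n → ℂ) (ρ a * T)) hc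
  simp only [Finset.mul_sum, map_sum, mul_smul_comm, map_smul, smul_eq_mul, ← map_mul,
    ← mul_assoc] at h
  rw [show ∑ u, ρ.character (a * ι u * b * (ι u)⁻¹) = _ from h, ρ.char_one, div_mul_eq_mul_div,
    div_mul_eq_mul_div, eq_div_iff hn, mul_right_comm (Nat.card K : ℂ) (ρ.character a), ← htr]
  rw [show LinearMap.trace ℂ (Fin n → ℂ) (ρ a * LinearMap.id) = ρ.character a from rfl]
  ring

/-- A character with invariant irreducible restriction is recovered from the restriction. -/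
theorem sum_apply_mul_apply_eq (hφ : IsIrrCharacter K φ) (hinv : InvariantAlong ι φ) {χ : G → ℂ}
    (hχ : IsIrrCharacter G χ) (hres : ∀ k, χ (ι k) = φ k) (j b : G) :
    ∑ k, χ (j * (ι k)⁻¹) * χ (ι k * b) = (Nat.card K : ℂ) / χ 1 * χ (j * b) := by
  have hχ1 := apply_one_ne_zero_of_isIrr hχ
  have hK : (Nat.card K : ℂ) ≠ 0 := Nat.cast_ne_zero.2 Nat.card_pos.ne'
  set t : ℂ := (Nat.card K : ℂ) / χ 1 with ht
  have ht0 : t ≠ 0 := div_ne_zero hK hχ1
  have hclass := IsIrrCharacter.isClassFunction hχ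
  have hover : OverAlong ι φ χ := by
    rw [OverAlong, show (fun k => χ (ι k)) = φ from funext hres, classInner_self_of_isIrr hφ]
    exact one_ne_zero
  have h1 : φ 1 = χ 1 := by rw [← hres, map_one]
  refine mul_left_cancel₀ ht0 ?_
  calc t * ∑ k, χ (j * (ι k)⁻¹) * χ (ι k * b)
      = ∑ k, ∑ u, χ (j * (ι k)⁻¹ * ι u * (ι k * b) * (ι u)⁻¹) := by
        rw [Finset.mul_sum]
        exact Finset.sum_congr rfl fun k _ => by
          rw [sum_apply_conj_eq hφ hχ hres, ← ht, mul_assoc]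
    _ = ∑ k, ∑ v, χ (j * ι v * b * ι k * (ι v)⁻¹ * (ι k)⁻¹) := by
        refine Finset.sum_congr rfl fun k _ => ?_
        refine (Fintype.sum_equiv (MulAut.conj k).toEquiv _ _ fun v => ?_).symm
        show _ = χ (j * (ι k)⁻¹ * ι (k * v * k⁻¹) * (ι k * b) * (ι (k * v * k⁻¹))⁻¹)
        rw [map_mul, map_mul, map_inv]
        congr 1
        group
    _ = ∑ v, t * (φ v⁻¹ * χ (ι v * (b * j))) := by
        rw [Finset.sum_comm]
        refine Finset.sum_congr rfl fun v _ => ?_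
        rw [sum_apply_conj_eq hφ hχ hres, ← ht, ← map_inv, hres, ← hclass (ι v * (b * j)) j]
        rw [show j * (ι v * (b * j)) * j⁻¹ = j * ι v * b by group]
        ring
    _ = t * (t * χ (j * b)) := by
        rw [← Finset.mul_sum, hover.sum_mul_apply hφ hinv hχ, h1, ← ht, ← hclass (b * j) j]
        rw [show j * (b * j) * j⁻¹ = j * b by group]

end Schur

section Regular

/-- `p`-regular elements of a coset of a normal `p`-subgroup are conjugate. -/
theorem exists_conj_eq_of_regular {Q : Type u} [Group Q] [Finite Q] {p : ℕ} [hp : Fact p.Prime]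
    (P : Subgroup Q) [P.Normal] (hP : IsPGroup p P) {x y : Q} (hx : ¬ p ∣ orderOf x)
    (hy : ¬ p ∣ orderOf y) (hxy : y * x⁻¹ ∈ P) : ∃ c ∈ P, c * x * c⁻¹ = y := by
  set A := P ⊔ Subgroup.zpowers x with hA
  have hxA : x ∈ A := Subgroup.mem_sup_right (Subgroup.mem_zpowers x)
  have hyA : y ∈ A := by
    simpa using A.mul_mem (Subgroup.mem_sup_left hxy) hxA
  set P' := P.subgroupOf A with hP'
  have hP'p : IsPGroup p P' := hP.comap_subtype
  have key : ∀ (z : Q) (hz : z ∈ A), ¬ p ∣ orderOf z → A ≤ P ⊔ Subgroup.zpowers z →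
      Subgroup.IsComplement' P' (Subgroup.zpowers (⟨z, hz⟩ : A)) := by
    intro z hz hzp hle
    refine Subgroup.isComplement'_of_disjoint_and_mul_eq_univ ?_ ?_
    · rw [Subgroup.disjoint_def]
      intro a ha ha'
      obtain ⟨k, hk⟩ := hP'p ⟨a, ha⟩
      have h1 : orderOf a ∣ p ^ k := orderOf_dvd_of_pow_eq_one (congrArg Subtype.val hk)
      have h2 : orderOf a ∣ orderOf z := by
        rw [← Subgroup.orderOf_mk z hz, ← Nat.card_zpowers (⟨z, hz⟩ : A)]
        exact Subgroup.orderOf_dvd_natCard _ ha'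
      exact orderOf_eq_one_iff.1 (Nat.eq_one_of_dvd_coprimes
        (Nat.Coprime.pow_left k (hp.out.coprime_iff_not_dvd.2 hzp)) h1 h2)
    · refine Set.eq_univ_of_forall fun a => ?_
      have ha : (a : Q) ∈ ((P ⊔ Subgroup.zpowers z : Subgroup Q) : Set Q) := hle a.2
      rw [Subgroup.normal_mul] at ha
      obtain ⟨q, hq, r, hr, hqr⟩ := Set.mem_mul.1 ha
      obtain ⟨i, rfl⟩ := Subgroup.mem_zpowers_iff.1 hr
      have hqA : q ∈ A := Subgroup.mem_sup_left hq
      exact Set.mem_mul.2 ⟨⟨q, hqA⟩, hq, (⟨z, hz⟩ : A) ^ i, Subgroup.zpow_mem_zpowers _ _,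
        Subtype.ext (by simpa using hqr)⟩
  have hcx := key x hxA hx le_rfl
  have hcy := key y hyA hy (sup_le le_sup_left ((Subgroup.zpowers_le).2 (by
    have : x = (y * x⁻¹)⁻¹ * y := by group
    rw [this]
    exact mul_mem (inv_mem (Subgroup.mem_sup_left hxy))
      (Subgroup.mem_sup_right (Subgroup.mem_zpowers y)))))
  have hcop : (Nat.card P').Coprime P'.index := by
    obtain ⟨k, hk⟩ := IsPGroup.iff_card.1 hP'p
    rw [hcx.symm.index_eq_card, Nat.card_zpowers, Subgroup.orderOf_mk, hk]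
    exact (hp.out.coprime_iff_not_dvd.2 hx).pow_left k
  have hsol : Group.IsSolvable P' := by
    have := hP'p.isNilpotent
    infer_instance
  obtain ⟨n, hn, he⟩ := CoprimeAction.isComplement'_conj hcop (Or.inl hsol) hcx hcy
  refine ⟨n, hn, ?_⟩
  have h1 : n * ⟨x, hxA⟩ * n⁻¹ ∈ Subgroup.zpowers (⟨y, hyA⟩ : A) := by
    rw [← he]
    exact Subgroup.smul_mem_pointwise_smul _ (MulAut.conj n) _ (Subgroup.mem_zpowers _)
  have h2 : (n * ⟨x, hxA⟩ * n⁻¹) * (⟨y, hyA⟩ : A)⁻¹ ∈ P' := by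
    rw [hP', Subgroup.mem_subgroupOf]
    show (n : Q) * x * (n : Q)⁻¹ * y⁻¹ ∈ P
    have hn' : (n : Q) ∈ P := hn
    have : (n : Q) * x * (n : Q)⁻¹ * y⁻¹ =
        (n : Q) * (x * (n : Q)⁻¹ * x⁻¹) * (y * x⁻¹)⁻¹ := by group
    rw [this]
    exact mul_mem (mul_mem hn' (Subgroup.Normal.conj_mem inferInstance _ (inv_mem hn') x))
      (inv_mem hxy)
  have h3 := Subgroup.disjoint_def.1 hcy.disjoint h2
    (mul_mem h1 (inv_mem (Subgroup.mem_zpowers _)))
  have h4 := congrArg Subtype.val (mul_inv_eq_one.1 h3)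
  simpa using h4

/-- `g` is `p`-singular modulo `K`. -/
def SingMod {G : Type u} [Group G] (p : ℕ) (K : Subgroup G) (g : G) : Prop :=
  ∀ n : ℕ, g ^ n ∈ K → p ∣ n

theorem singMod_iff {G : Type u} [Group G] (p : ℕ) (K : Subgroup G) [K.Normal] (g : G) :
    SingMod p K g ↔ p ∣ orderOf (g : G ⧸ K) := by
  have h : ∀ n : ℕ, g ^ n ∈ K ↔ orderOf (g : G ⧸ K) ∣ n := fun n => by
    rw [orderOf_dvd_iff_pow_eq_one, ← QuotientGroup.mk_pow, QuotientGroup.eq_one_iff]
  exact ⟨fun hs => hs _ ((h _).2 dvd_rfl), fun hd n hn => hd.trans ((h n).1 hn)⟩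

theorem SingMod.of_le {G : Type u} [Group G] {p : ℕ} {K J : Subgroup G} (h : K ≤ J) {g : G}
    (hs : SingMod p J g) : SingMod p K g := fun n hn => hs n (h hn)

/-- `p`-regular elements modulo `K` of a coset of a `p`-section above `K`. -/
theorem exists_conj_mod_of_regular {G : Type u} [Group G] [Finite G] {p : ℕ} [Fact p.Prime]
    {K J : Subgroup G} [K.Normal] [J.Normal] (hJK : IsPGroup p (J.map (QuotientGroup.mk' K)))
    {x y : G} (hx : ¬ SingMod p K x) (hy : ¬ SingMod p K y) (hxy : y * x⁻¹ ∈ J) :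
    ∃ c ∈ J, y * (c * x * c⁻¹)⁻¹ ∈ K := by
  rw [singMod_iff] at hx hy
  have : (J.map (QuotientGroup.mk' K)).Normal :=
    Subgroup.Normal.map inferInstance _ (QuotientGroup.mk'_surjective K)
  obtain ⟨c', ⟨c, hc, rfl⟩, he⟩ := exists_conj_eq_of_regular _ hJK hx hy
    ⟨y * x⁻¹, hxy, by simp⟩
  refine ⟨c, hc, (QuotientGroup.eq_one_iff _).1 ?_⟩
  rw [QuotientGroup.mk_mul, QuotientGroup.mk_inv, mul_inv_eq_one, ← he]
  simp

end Regular

section Det

/-- The determinant of a representation with character `r • φ`. -/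
theorem det_eq_pow_of_character_eq {K : Type u} [Group K] [Finite K] {n d r : ℕ}
    (σ : Representation ℂ K (Fin n → ℂ)) (ρ : Representation ℂ K (Fin d → ℂ))
    (h : ∀ k, σ.character k = r * ρ.character k) (k : K) :
    LinearMap.det (σ k) = LinearMap.det (ρ k) ^ r := by
  classical
  let τ : Representation ℂ K (Fin d × Fin r → ℂ) :=
    { toFun := fun k => Matrix.toLin' (Matrix.blockDiagonal fun _ : Fin r => LinearMap.toMatrix' (ρ k))
      map_one' := by
        rw [map_one, Module.End.one_eq_id, LinearMap.toMatrix'_id,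
          show (fun _ : Fin r => (1 : Matrix (Fin d) (Fin d) ℂ)) = 1 from rfl,
          Matrix.blockDiagonal_one, Matrix.toLin'_one]
        rfl
      map_mul' := fun a b => by
        rw [map_mul, LinearMap.toMatrix'_mul, Matrix.blockDiagonal_mul, Matrix.toLin'_mul]
        rfl }
  obtain ⟨e⟩ := nonempty_equiv_of_character_eq τ σ (funext fun x => by
    rw [h]
    show LinearMap.trace ℂ _ (Matrix.toLin' _) = _
    rw [Matrix.trace_toLin'_eq, Matrix.trace_blockDiagonal, Finset.sum_const, Finset.card_univ,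
      Fintype.card_fin, nsmul_eq_mul]
    congr 1
    exact (LinearMap.trace_eq_matrix_trace ℂ (Pi.basisFun ℂ (Fin d)) (ρ x)).symm)
  have e1 : σ k = e.toLinearEquiv.toLinearMap ∘ₗ τ k ∘ₗ e.toLinearEquiv.symm.toLinearMap := by
    refine LinearMap.ext fun v => ?_
    have := LinearMap.congr_fun (e.toIntertwiningMap.isIntertwining' k) (e.toLinearEquiv.symm v)
    simp only [LinearMap.comp_apply] at this ⊢
    refine Eq.trans ?_ this.symm
    exact congrArg (σ k) (e.toLinearEquiv.apply_symm_apply v).symm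
  rw [e1, LinearMap.det_conj]
  show LinearMap.det (Matrix.toLin' (Matrix.blockDiagonal fun _ : Fin r =>
    LinearMap.toMatrix' (ρ k))) = _
  rw [LinearMap.det_toLin', Matrix.det_blockDiagonal, Finset.prod_const, Finset.card_univ,
    Fintype.card_fin, LinearMap.det_toMatrix']

end Det

end

end CfsgLib.CharDegreesTheory
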