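import Mathlib
import Cfsg.Agent.Lib.CharDegreesTheory.ProjectionTools
import Cfsg.Agent.Lib.Clifford.Extension
import Cfsg.Agent.Lib.RealChar.DegreeRatio
import Cfsg.Agent.Lib.Blocks.Omega

/-!
# Characters that lift uniquely through `p`- and `p'`-sections

A character is good when its degree and determinantal order are prime to `p` and the image of the
group ring over the local ring is self-dual.
-/

set_option autoImplicit false
set_option linter.style.haveILetI false
set_option linter.unusedSectionVars false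

open scoped ComplexConjugate
open Cfsg CfsgLib.CharTheory

namespace CfsgLib.CharDegreesTheory

noncomputable section

universe u v w

/-- Degree and determinant prime to `p`, and a self-dual image of the local group ring. -/
structure IsGood (p : ℕ) (M : Ideal AlgInt) {K : Type u} [Group K] [Fintype K] (φ : K → ℂ) :
    Prop where
  irr : IsIrrCharacter K φ
  deg : ∃ d : ℕ, φ 1 = d ∧ ¬ p ∣ d
  det : ∃ μ : K →* ℂˣ, detChar φ = Clifford.linFun μ ∧ ¬ p ∣ orderOf μ
  dual : ∀ z : K → ℂ, (∀ a, MemLocalRing M (∑ h, z h * φ (h * a))) →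
    ∃ y : K → ℂ, (∀ h, MemLocalRing M (y h)) ∧
      ∀ a, ∑ h, y h * φ (h * a) = ∑ h, z h * φ (h * a)

theorem detChar_comp {A : Type u} {B : Type v} [Group A] [Finite A] [Group B] [Finite B]
    (f : A →* B) {χ : B → ℂ} (h : IsCharacter B χ) :
    detChar (fun a => χ (f a)) = fun a => detChar χ (f a) := by
  obtain ⟨n, ρ, rfl⟩ := h
  let σ : Representation ℂ A (Fin n → ℂ) := ρ.comp f
  rw [Clifford.detChar_eq σ (χ := fun a => ρ.character (f a)) rfl, Clifford.detChar_eq ρ rfl]
  rfl

theorem sum_inv_mul_apply {J : Type u} [Group J] [Fintype J] [DecidableEq (IrrCharacter J)]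
    (χ ψ : IrrCharacter J) (a : J) :
    ∑ x, (ψ : J → ℂ) x⁻¹ * (χ : J → ℂ) (x * a) =
      if ψ = χ then (Nat.card J : ℂ) / (χ : J → ℂ) 1 * (χ : J → ℂ) a else 0 := by
  have h := sum_mul_apply_eq ψ.2 (invariantAlong_id (IsIrrCharacter.isClassFunction ψ.2)) χ.2 a
  simp only [MonoidHom.id_apply] at h
  rw [h]
  split_ifs with he
  · subst he
    rw [classInner_self_of_isIrr ψ.2, one_mul]
  · rw [classInner_eq_zero_of_ne χ.2 ψ.2 fun e => he (Subtype.ext e).symm]
    simp

theorem sum_extend_mul {K : Type u} {J : Type v} [Fintype K] [Fintype J] {κ : K → J}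
    (hκ : Function.Injective κ) (y : K → ℂ) (F : J → ℂ) :
    ∑ x, Function.extend κ y 0 x * F x = ∑ k, y k * F (κ k) := by
  classical
  rw [← Finset.sum_subset (Finset.subset_univ (Finset.univ.image κ)) fun x _ hx => by
    rw [Function.extend_apply' _ _ _ fun ⟨k, hk⟩ => hx (Finset.mem_image.2 ⟨k, Finset.mem_univ k, hk⟩),
      Pi.zero_apply, zero_mul], Finset.sum_image fun a _ b _ h => hκ h]
  exact Finset.sum_congr rfl fun k _ => by rw [hκ.extend_apply]

section Base

variable {p : ℕ} [hp : Fact p.Prime] {M : Ideal AlgInt} [M.IsPrime]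

theorem isGood_one {K : Type u} [Group K] [Fintype K] [Subsingleton K] :
    IsGood p M (fun _ : K => (1 : ℂ)) where
  irr := isIrrCharacter_one
  deg := ⟨1, by simp, hp.out.not_dvd_one⟩
  det := by
    obtain ⟨l, hl⟩ := Clifford.exists_detChar_eq (IsIrrCharacter.isCharacter
      (isIrrCharacter_one (G := K)))
    refine ⟨l, hl, ?_⟩
    have : l = 1 := MonoidHom.ext fun k => by rw [Subsingleton.elim k 1, map_one, MonoidHom.one_apply]
    rw [this, orderOf_one]
    exact hp.out.not_dvd_one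
  dual := fun z hz => by
    refine ⟨fun h => z h, fun h => ?_, fun a => rfl⟩
    have := hz 1
    rwa [Fintype.sum_subsingleton _ h, mul_one] at this

end Base

section Lift

variable {K : Type u} {J : Type v} [Group K] [Fintype K] [Group J] [Fintype J] {p : ℕ}
  [hp : Fact p.Prime] {M : Ideal AlgInt} [M.IsPrime] {κ : K →* J} [hN : κ.range.Normal]
  {φ : K → ℂ}

/-- Prescribed local actions on the characters over a good `φ` are realised over the local ring,
when the index is prime to `p`. -/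
theorem exists_local_lift (hM : IsPModular p M) (hκ : Function.Injective κ) (hφ : IsGood p M φ)
    (hinv : InvariantAlong κ φ) (hidx : ¬ p ∣ κ.range.index) (z : IrrCharacter J → J → ℂ)
    (hz : ∀ χ : IrrCharacter J, OverAlong κ φ (χ : J → ℂ) →
      ∀ a, MemLocalRing M (∑ h, z χ h * (χ : J → ℂ) (h * a))) :
    ∃ y : J → ℂ, (∀ h, MemLocalRing M (y h)) ∧ ∀ χ : IrrCharacter J,
      OverAlong κ φ (χ : J → ℂ) →
        ∀ a, ∑ h, y h * (χ : J → ℂ) (h * a) = ∑ h, z χ h * (χ : J → ℂ) (h * a) := by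
  classical
  have := Fintype.ofFinite (IrrCharacter J)
  have := Fintype.ofFinite (J ⧸ κ.range)
  set S := Finset.univ.filter fun χ : IrrCharacter J => OverAlong κ φ (χ : J → ℂ) with hS
  set F : IrrCharacter J → J → ℂ := fun χ a => ∑ h, z χ h * (χ : J → ℂ) (h * a) with hF
  set w : J → ℂ := fun j => ∑ χ ∈ S, (χ : J → ℂ) 1 / (Nat.card J : ℂ) * F χ j⁻¹ with hw
  have hJ : (Nat.card J : ℂ) ≠ 0 := Nat.cast_ne_zero.2 Nat.card_pos.ne'
  have haction : ∀ χ ∈ S, ∀ a, ∑ j, w j * (χ : J → ℂ) (j * a) = F χ a := by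
    intro χ hχ a
    have hsum : ∀ ψ : IrrCharacter J, ∀ h : J, ∑ j, (ψ : J → ℂ) (h * j⁻¹) * (χ : J → ℂ) (j * a) =
        if ψ = χ then (Nat.card J : ℂ) / (χ : J → ℂ) 1 * (χ : J → ℂ) (h * a) else 0 := fun ψ h => by
      rw [← sum_inv_mul_apply χ ψ (h * a)]
      refine Fintype.sum_equiv (Equiv.mulRight h⁻¹) _ _ fun j => ?_
      simp [mul_assoc]
    simp only [hw, hF, Finset.mul_sum, Finset.sum_mul]
    rw [Finset.sum_comm, Finset.sum_congr rfl fun ψ _ => Finset.sum_comm]
    simp only [mul_assoc, ← Finset.mul_sum, hsum, mul_ite, mul_zero]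
    rw [Finset.sum_eq_single χ (fun ψ _ hne => by simp [hne]) fun h => absurd hχ h]
    simp only [if_true, ← mul_assoc, Finset.mul_sum]
    refine Finset.sum_congr rfl fun h _ => ?_
    have := apply_one_ne_zero_of_isIrr χ.2
    field_simp
  -- local values on each coset
  have hloc : ∀ r : J, ∀ x : K, MemLocalRing M (∑ k, w (κ k * r) * φ (k * x)) := by
    intro r x
    have hinner : ∀ χ ∈ S, ∀ h : J, ∑ k, (χ : J → ℂ) (h * (κ k * r)⁻¹) * φ (k * x) =
        (Nat.card K : ℂ) / φ 1 * (χ : J → ℂ) (h * (r⁻¹ * κ x)) := fun χ hχ h => by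
      rw [← (Finset.mem_filter.1 hχ).2.sum_mul_apply hφ.irr hinv χ.2 (h * (r⁻¹ * κ x))]
      refine Fintype.sum_equiv ((Equiv.mulRight x).trans (Equiv.inv K)) _ _ fun k => ?_
      simp only [Equiv.trans_apply, Equiv.coe_mulRight, Equiv.inv_apply, inv_inv, map_inv, map_mul,
        mul_inv_rev]
      rw [mul_comm]
      congr 1
      rw [← IsIrrCharacter.isClassFunction χ.2 ((κ x)⁻¹ * (κ k)⁻¹ * (h * (r⁻¹ * κ x))) (κ k * κ x)]
      group
    have heq : ∑ k, w (κ k * r) * φ (k * x) =
        ∑ χ ∈ S, (χ : J → ℂ) 1 * (Nat.card K : ℂ) / ((Nat.card J : ℂ) * φ 1) *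
          F χ (r⁻¹ * κ x) := by
      simp only [hw, hF, Finset.mul_sum, Finset.sum_mul]
      rw [Finset.sum_comm, Finset.sum_congr rfl fun ψ _ => Finset.sum_comm]
      refine Finset.sum_congr rfl fun χ hχ => ?_
      refine Finset.sum_congr rfl fun h _ => ?_
      simp only [mul_assoc, ← Finset.mul_sum, hinner χ hχ h]
      field_simp
    rw [heq]
    refine Blocks.memLocalRing_sum fun χ hχ => ?_
    have hover := (Finset.mem_filter.1 hχ).2
    refine Blocks.memLocalRing_mul ?_ (hz χ hover _)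
    obtain ⟨m, -, hm, -⟩ := hover.exists_nat hφ.irr hinv χ.2
    have hcard : (Nat.card J : ℂ) = (Nat.card K : ℂ) * (κ.range.index : ℂ) := by
      rw [← Nat.cast_mul, ← κ.range.card_mul_index,
        ← Nat.card_congr (MonoidHom.ofInjective hκ).toEquiv]
    rw [hm, hcard, show (m : ℂ) * φ 1 * (Nat.card K : ℂ) /
        ((Nat.card K : ℂ) * (κ.range.index : ℂ) * φ 1) = (m : ℂ) * (κ.range.index : ℂ)⁻¹ by
      have := apply_one_ne_zero_of_isIrr hφ.irr
      have : (Nat.card K : ℂ) ≠ 0 := Nat.cast_ne_zero.2 Nat.card_pos.ne'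
      field_simp]
    exact Blocks.memLocalRing_mul (Blocks.memLocalRing_natCast m)
      (Blocks.memLocalRing_inv_natCast hM hidx)
  -- the transversal
  let e₀ : (J ⧸ κ.range) × K → J := fun u => κ u.2 * u.1.out
  have he₀ : Function.Bijective e₀ := by
    have hmk : ∀ u : (J ⧸ κ.range) × K, ((e₀ u : J) : J ⧸ κ.range) = u.1 := fun u => by
      show ((κ u.2 * u.1.out : J) : J ⧸ κ.range) = u.1
      rw [QuotientGroup.mk_mul, (QuotientGroup.eq_one_iff _).2 (MonoidHom.mem_range.2 ⟨u.2, rfl⟩),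
        one_mul, QuotientGroup.out_eq']
    constructor
    · intro u v huv
      have h1 : u.1 = v.1 := by rw [← hmk u, ← hmk v, huv]
      have h2 : κ u.2 * u.1.out = κ v.2 * v.1.out := huv
      rw [h1] at h2
      exact Prod.ext h1 (hκ (mul_right_cancel h2))
    · intro j
      have h1 : j * ((j : J ⧸ κ.range).out)⁻¹ ∈ κ.range :=
        (QuotientGroup.eq_one_iff _).1 (by
          rw [QuotientGroup.mk_mul, QuotientGroup.mk_inv, QuotientGroup.out_eq', mul_inv_cancel])
      obtain ⟨k, hk⟩ := h1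
      exact ⟨((j : J ⧸ κ.range), k), by
        show κ k * _ = j
        rw [hk, inv_mul_cancel_right]⟩
  let e := Equiv.ofBijective e₀ he₀
  choose Y hYloc hY using fun q : J ⧸ κ.range =>
    hφ.dual (fun k => w (κ k * q.out)) (fun a => hloc q.out a)
  refine ⟨fun j => Y (e.symm j).1 (e.symm j).2, fun j => hYloc _ _, fun χ hχ a => ?_⟩
  rw [show (∑ h, z χ h * (χ : J → ℂ) (h * a)) = F χ a from rfl,
    ← haction χ (Finset.mem_filter.2 ⟨Finset.mem_univ _, hχ⟩) a, ← e.sum_comp, ← e.sum_comp]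
  simp only [Equiv.symm_apply_apply, Fintype.sum_prod_type]
  refine Finset.sum_congr rfl fun q _ => ?_
  rw [← sub_eq_zero, ← Finset.sum_sub_distrib]
  have h0 := hχ.transfer hφ.irr hinv χ.2 (fun k => Y q k - w (κ k * q.out)) 0
    (fun x => by simp [sub_mul, Finset.sum_sub_distrib, hY q x]) (q.out * a)
  rw [zero_mul] at h0
  rw [← h0]
  refine Finset.sum_congr rfl fun k _ => ?_
  show _ * (χ : J → ℂ) (κ k * q.out * a) - w (κ k * q.out) * (χ : J → ℂ) (κ k * q.out * a) = _
  rw [sub_mul, mul_assoc (κ k)]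

/-- Goodness passes up a section of order prime to `p`. -/
theorem isGood_of_pPrime (hM : IsPModular p M) (hκ : Function.Injective κ) (hφ : IsGood p M φ)
    (hinv : InvariantAlong κ φ) (hidx : ¬ p ∣ κ.range.index) (θ : IrrCharacter J)
    (hθ : OverAlong κ φ (θ : J → ℂ)) : IsGood p M (θ : J → ℂ) where
  irr := θ.2
  deg := by
    obtain ⟨d, hd, hdp⟩ := hφ.deg
    set eK := MonoidHom.ofInjective hκ
    have := Fintype.ofFinite κ.range
    obtain ⟨r, hr, hr1⟩ := RealChar.degree_div_dvd_index κ.range θ.2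
      (isIrrCharacter_comp_mulEquiv hφ.irr eK.symm) (by
        rw [← Clifford.classInner_comp_mulEquiv eK]
        simp only [MulEquiv.symm_apply_apply]
        exact hθ)
    refine ⟨r * d, ?_, fun h => ?_⟩
    · rw [hr1, map_one, hd, Nat.cast_mul]
    · rcases (Nat.Prime.dvd_mul hp.out).1 h with h | h
      · exact hidx (h.trans hr)
      · exact hdp h
  det := by
    obtain ⟨d, ρ, -, hρφ⟩ := hφ.irr
    obtain ⟨n, σ, -, hσθ⟩ := θ.2
    obtain ⟨lam, hlam, hlp⟩ := hφ.det
    obtain ⟨m, -, -, hm⟩ := hθ.exists_nat hφ.irr hinv θ.2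
    refine ⟨Clifford.detHom σ, Clifford.detChar_eq σ hσθ, fun h => ?_⟩
    have hlam' : ∀ k, (lam k : ℂ) = LinearMap.det (ρ k) := fun k => by
      rw [← Clifford.linFun_apply, ← hlam, Clifford.detChar_eq ρ hρφ, Clifford.linFun_apply,
        Clifford.detHom_apply]
    have hμ : ∀ k, Clifford.detHom σ (κ k) = lam k ^ m := fun k => Units.ext (by
      rw [Clifford.detHom_apply, Units.val_pow_eq_pow_val, hlam']
      exact det_eq_pow_of_character_eq (σ.comp κ) ρ (fun x => by
        rw [hρφ, ← hm x, ← hσθ]; rfl) k)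
    have hpow : Clifford.detHom σ ^ (κ.range.index * orderOf lam) = 1 := MonoidHom.ext fun j => by
      obtain ⟨k, hk⟩ := κ.range.pow_index_mem j
      rw [MonoidHom.pow_apply, pow_mul, ← map_pow, ← hk, hμ, ← pow_mul, mul_comm, pow_mul,
        ← MonoidHom.pow_apply lam, pow_orderOf_eq_one, MonoidHom.one_apply, one_pow,
        MonoidHom.one_apply]
    rcases (Nat.Prime.dvd_mul hp.out).1 (h.trans (orderOf_dvd_of_pow_eq_one hpow)) with h | h
    · exact hidx h
    · exact hlp h
  dual := fun z hz => by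
    classical
    obtain ⟨y, hy, hact⟩ := exists_local_lift hM hκ hφ hinv hidx
      (fun χ => if χ = θ then z else 0) fun χ _ a => by
        split_ifs with h
        · subst h; exact hz a
        · simpa using Blocks.memLocalRing_natCast (M := M) 0
    exact ⟨y, hy, fun a => by simpa using hact θ hθ a⟩

/-- Over a `p`-section a good invariant character has a good invariant extension. -/
theorem exists_good_extension {G : Type w} [Group G] [Finite G] (hM : IsPModular p M)
    (hκ : Function.Injective κ) {j : J →* G} (hj : Function.Injective j) [hjn : j.range.Normal]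
    (hφ : IsGood p M φ) (hinv : InvariantAlong (j.comp κ) φ) {s : ℕ}
    (hidx : κ.range.index = p ^ s) :
    ∃ θ : IrrCharacter J, IsGood p M (θ : J → ℂ) ∧ InvariantAlong j (θ : J → ℂ) ∧
      ∀ k, (θ : J → ℂ) (κ k) = φ k := by
  classical
  have hinvJ : InvariantAlong κ φ := hinv.of_comp hj
  obtain ⟨d, hd, hdp⟩ := hφ.deg
  obtain ⟨lam, hlam, hlp⟩ := hφ.det
  set eK := MonoidHom.ofInjective hκ with heK
  have heK' : ∀ k, ((eK k : κ.range) : J) = κ k := fun k => rfl
  set φN : κ.range → ℂ := fun n => φ (eK.symm n) with hφN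
  have hφNi : IsIrrCharacter κ.range φN := isIrrCharacter_comp_mulEquiv hφ.irr eK.symm
  set lamN : κ.range →* ℂˣ := lam.comp eK.symm.toMonoidHom with hlamN
  have hdet : detChar φN = Clifford.linFun lamN := by
    rw [hφN]
    refine (detChar_comp eK.symm.toMonoidHom (IsIrrCharacter.isCharacter hφ.irr)).trans ?_
    rw [hlam]
    rfl
  have hsym : ∀ (g : J) (e : K ≃* K), (∀ k, κ (e k) = g * κ k * g⁻¹) → ∀ k : K,
      (⟨g * (eK k : κ.range) * g⁻¹, hN.conj_mem _ (eK k).2 g⟩ : κ.range) = eK (e k) :=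
    fun g e he k => Subtype.ext (he k).symm
  have hdinv : ∀ e : K ≃* K, (∀ k, φ (e k) = φ k) → ∀ k, lam (e k) = lam k := fun e he k => by
    refine Units.ext ?_
    rw [← Clifford.linFun_apply, ← Clifford.linFun_apply, ← hlam]
    rw [show detChar φ (e k) = detChar (fun x => φ (e x)) k from
      (congrFun (detChar_comp e.toMonoidHom (IsIrrCharacter.isCharacter hφ.irr)) k).symm,
      show (fun x => φ (e x)) = φ from funext he]
  have hφinv : ∀ (g : J) (n : κ.range),
      φN ⟨g * n * g⁻¹, hN.conj_mem (n : J) n.2 g⟩ = φN n := by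
    intro g n
    obtain ⟨k, rfl⟩ := eK.surjective n
    obtain ⟨e, he1, he2⟩ := hinvJ g
    rw [hsym g e he1 k]
    simp [hφN, he2]
  have hlinv : ∀ (g : J) (n : κ.range),
      lamN ⟨g * n * g⁻¹, hN.conj_mem (n : J) n.2 g⟩ = lamN n := by
    intro g n
    obtain ⟨k, rfl⟩ := eK.surjective n
    obtain ⟨e, he1, he2⟩ := hinvJ g
    rw [hsym g e he1 k]
    simp [hlamN, hdinv e he2]
  have hlamNo : orderOf lamN ∣ orderOf lam := orderOf_dvd_of_pow_eq_one (MonoidHom.ext fun n => by
    rw [MonoidHom.pow_apply, hlamN, MonoidHom.comp_apply, ← MonoidHom.pow_apply,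
      pow_orderOf_eq_one]
    rfl)
  have hcop : Nat.Coprime κ.range.index (orderOf lamN) := by
    rw [hidx]
    exact (hp.out.coprime_iff_not_dvd.2 fun h => hlp (h.trans hlamNo)).pow_left s
  have hcopd : Nat.Coprime κ.range.index d := by
    rw [hidx]; exact (hp.out.coprime_iff_not_dvd.2 hdp).pow_left s
  obtain ⟨μ, ⟨hμN, hμo⟩, hμu⟩ := Clifford.exists_unique_extension_linear hlinv hcop
  have hμdet : ∀ n : κ.range, (μ n : ℂ) = detChar φN n := fun n => by rw [hμN, hdet]; rfl
  have hd' : φN 1 = d := by rw [hφN]; simp only [map_one, hd]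
  obtain ⟨η, hη, hηN⟩ := Clifford.exists_extension_of_det hφNi hφinv hd' hcopd μ hμdet
  obtain ⟨θ, ⟨hθi, hθN, hθdet⟩, hθu⟩ :=
    Clifford.existsUnique_extension_det hφNi hd' hcopd hη hηN μ hμdet
  have hθK : ∀ k, θ (κ k) = φ k := fun k => by
    rw [← heK', hθN, hφN]
    simp
  have hθinvJ : InvariantAlong j θ := by
    intro g
    set eJ : J ≃* J := (MonoidHom.ofInjective hj).trans
      ((MulAut.conjNormal g).trans (MonoidHom.ofInjective hj).symm) with heJ
    have heJ' : ∀ x, j (eJ x) = g * j x * g⁻¹ := fun x => by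
      rw [heJ, MulEquiv.trans_apply, MulEquiv.trans_apply, MonoidHom.apply_ofInjective_symm,
        MulAut.conjNormal_apply]
      rfl
    refine ⟨eJ, heJ', fun x => congrFun (hθu (fun y => θ (eJ y))
      ⟨isIrrCharacter_comp_mulEquiv hθi eJ, fun n => ?_, ?_⟩) x⟩
    · obtain ⟨k, rfl⟩ := eK.surjective n
      obtain ⟨e, he1, he2⟩ := hinv g
      have hk : eJ (κ k) = κ (e k) := hj (by rw [heJ']; exact (he1 k).symm)
      rw [heK']
      show θ (eJ (κ k)) = _
      rw [hk, hθK, he2, hφN]
      simp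
    · refine (detChar_comp eJ.toMonoidHom (IsIrrCharacter.isCharacter hθi)).trans ?_
      rw [hθdet]
      have hμe : μ.comp eJ.toMonoidHom = μ := by
        refine hμu _ (fun n => ?_) ?_
        · obtain ⟨k, rfl⟩ := eK.surjective n
          obtain ⟨e, he1, he2⟩ := hinv g
          have hk : eJ (κ k) = κ (e k) := hj (by rw [heJ']; exact (he1 k).symm)
          rw [MonoidHom.comp_apply, MulEquiv.toMonoidHom_eq_coe, MonoidHom.coe_coe, heK', hk,
            ← heK', hμN, hlamN]
          simp [hdinv e he2]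
        · refine Nat.Coprime.coprime_dvd_right (orderOf_dvd_of_pow_eq_one (MonoidHom.ext fun x => ?_))
            hcop
          rw [MonoidHom.pow_apply, MonoidHom.comp_apply, ← hμo, ← MonoidHom.pow_apply,
            pow_orderOf_eq_one]
          rfl
      funext y
      rw [Clifford.linFun_apply, Clifford.linFun_apply]
      exact congrArg (fun l : J →* ℂˣ => (l y : ℂ)) hμe
  refine ⟨⟨θ, hθi⟩, ⟨hθi, ⟨d, ?_, hdp⟩, ⟨μ, hθdet, ?_⟩, fun z hz => ?_⟩, hθinvJ, hθK⟩
  · show θ 1 = _
    rw [← hd, ← hθK, map_one]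
  · rw [hμo]
    exact fun h => hlp (h.trans hlamNo)
  · -- self-duality
    have hover : OverAlong κ φ θ := by
      rw [OverAlong, show (fun k => θ (κ k)) = φ from funext hθK, classInner_self_of_isIrr hφ.irr]
      exact one_ne_zero
    set z₀ : K → ℂ := fun u => φ 1 / (Nat.card K : ℂ) * ∑ h, z h * θ (h * (κ u)⁻¹) with hz₀
    have hz₀f : ∀ b, ∑ u, z₀ u * θ (κ u * b) = ∑ h, z h * θ (h * b) := fun b => by
      simp only [hz₀, Finset.mul_sum, Finset.sum_mul]
      rw [Finset.sum_comm]
      refine Finset.sum_congr rfl fun h _ => ?_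
      simp only [mul_assoc, ← Finset.mul_sum]
      rw [sum_apply_mul_apply_eq hφ.irr hinvJ hθi hθK]
      rw [← hθK 1, map_one]
      have := apply_one_ne_zero_of_isIrr hθi
      have : (Nat.card K : ℂ) ≠ 0 := Nat.cast_ne_zero.2 Nat.card_pos.ne'
      field_simp
    obtain ⟨y, hy, hyact⟩ := hφ.dual z₀ fun a => by
      have := hz (κ a)
      rw [← hz₀f] at this
      simpa only [← map_mul, hθK] using this
    refine ⟨Function.extend κ y 0, fun h => ?_, fun a => ?_⟩
    · by_cases hh : ∃ k, κ k = h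
      · obtain ⟨k, rfl⟩ := hh
        rw [hκ.extend_apply]
        exact hy k
      · rw [Function.extend_apply' _ _ _ hh]
        simpa using Blocks.memLocalRing_natCast (M := M) 0
    · rw [sum_extend_mul hκ y fun h => θ (h * a), ← hz₀f a, ← sub_eq_zero,
        ← Finset.sum_sub_distrib]
      have h0 := hover.transfer hφ.irr hinvJ hθi (fun k => y k - z₀ k) 0
        (fun x => by simp [sub_mul, Finset.sum_sub_distrib, hyact x]) a
      rw [zero_mul] at h0
      rw [← h0]
      exact Finset.sum_congr rfl fun k _ => by ring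

end Lift

end

end CfsgLib.CharDegreesTheory
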