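import Mathlib
import Cfsg.Agent.Lib.CharTheory.Inflation
import Cfsg.Agent.Lib.Frobenius.Induce
import Cfsg.Agent.Lib.CharDegreesTheory.Glauberman

/-!
Coprime action of a solvable group: invariant irreducible characters versus invariant classes,
and invariant constituents of induced characters.
-/

set_option autoImplicit false
set_option linter.style.haveILetI false
set_option linter.unusedSectionVars false

namespace CfsgLib.CharDegreesTheory

open Cfsg

universe u v

variable {S G : Type*} [Group S] [Group G]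

/-- The restriction of an action to an invariant subgroup. -/
def restrictAction (φ : S →* MulAut G) (H : Subgroup G) (hH : ∀ s, ∀ g ∈ H, φ s g ∈ H) :
    S →* MulAut H where
  toFun s :=
    { toFun := fun g => ⟨φ s g, hH s g g.2⟩
      invFun := fun g => ⟨φ s⁻¹ g, hH s⁻¹ g g.2⟩
      left_inv := fun g => Subtype.ext (by simp)
      right_inv := fun g => Subtype.ext (by simp)
      map_mul' := fun a b => Subtype.ext (by simp) }
  map_one' := MulEquiv.ext fun g => Subtype.ext (by simp)
  map_mul' s t := MulEquiv.ext fun g => Subtype.ext (by simp)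

@[simp]
theorem coe_restrictAction_apply (φ : S →* MulAut G) (H : Subgroup G)
    (hH : ∀ s, ∀ g ∈ H, φ s g ∈ H) (s : S) (g : H) :
    ((restrictAction φ H hH s g : H) : G) = φ s g := rfl

/-- The fixed subgroup of a subset of the acting group. -/
def fixedSubgroup (φ : S →* MulAut G) (Z : Subgroup S) : Subgroup G where
  carrier := {g | ∀ z ∈ Z, φ z g = g}
  one_mem' := fun z _ => map_one _
  mul_mem' := fun {a b} ha hb z hz => by rw [map_mul, ha z hz, hb z hz]
  inv_mem' := fun {a} ha z hz => by rw [map_inv, ha z hz]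

theorem fixedSubgroup_invariant (φ : S →* MulAut G) (Z : Subgroup S) [hZ : Z.Normal] (s : S) :
    ∀ g ∈ fixedSubgroup φ Z, φ s g ∈ fixedSubgroup φ Z := by
  intro g hg z hz
  have h1 : φ (s⁻¹ * z * s) g = g := hg _ (by simpa using hZ.conj_mem z hz s⁻¹)
  calc φ z (φ s g) = φ (s * (s⁻¹ * z * s)) g := by
        rw [← MulAut.mul_apply, ← map_mul]; simp [← mul_assoc]
    _ = φ s g := by rw [map_mul, MulAut.mul_apply, h1]

/-- The action of the quotient on the fixed points of a normal subgroup. -/
def quotientAction (φ : S →* MulAut G) (Z : Subgroup S) [Z.Normal] :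
    S ⧸ Z →* MulAut (fixedSubgroup φ Z) :=
  QuotientGroup.lift Z (restrictAction φ (fixedSubgroup φ Z) (fixedSubgroup_invariant φ Z))
    fun z hz => MulEquiv.ext fun g => Subtype.ext (g.2 z hz)

@[simp]
theorem quotientAction_mk (φ : S →* MulAut G) (Z : Subgroup S) [Z.Normal] (s : S)
    (g : fixedSubgroup φ Z) :
    ((quotientAction φ Z (s : S ⧸ Z) g : fixedSubgroup φ Z) : G) = φ s g := rfl

theorem coprimePSetup_fixedSubgroup [Finite S] [Finite G] (φ : S →* MulAut G) (Z : Subgroup S)
    {p : ℕ} [Fact p.Prime] (hZ : IsPGroup p Z) (hp : ¬ p ∣ Nat.card G) :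
    CoprimePSetup (φ.comp Z.subtype) (fixedSubgroup φ Z).subtype p :=
  ⟨hZ, hp, Subgroup.subtype_injective _, fun g => by
    rw [Subgroup.range_subtype]
    exact ⟨fun h z hz => h ⟨z, hz⟩, fun h z => h z z.2⟩⟩

/-- A nontrivial finite solvable group has a nontrivial normal `p`-subgroup. -/
theorem exists_normal_pSubgroup [Finite S] [Nontrivial S] (h : Group.IsSolvable S) :
    ∃ (p : ℕ) (Z : Subgroup S), p.Prime ∧ p ∣ Nat.card S ∧ Z.Normal ∧ Z ≠ ⊥ ∧ IsPGroup p Z := by
  classical
  obtain ⟨n, hn⟩ := h.solvable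
  have hex : ∃ m, derivedSeries S m = ⊥ := ⟨n, hn⟩
  set m := Nat.find hex
  have hm := Nat.find_spec hex
  have hm0 : m ≠ 0 := by
    intro h0
    have : derivedSeries S m = ⊥ := hm
    rw [h0, derivedSeries_zero] at this
    exact top_ne_bot this
  obtain ⟨k, hk⟩ := Nat.exists_eq_succ_of_ne_zero hm0
  set A := derivedSeries S k
  have hA : A ≠ ⊥ := Nat.find_min hex (by omega)
  have hAn : A.Normal := derivedSeries_normal S k
  have hAc : IsMulCommutative A := by
    have h1 : ⁅A, A⁆ = ⊥ := by
      have : derivedSeries S m = ⊥ := hm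
      rw [hk, Nat.succ_eq_add_one, derivedSeries_succ] at this
      exact this
    refine ⟨⟨fun a b => Subtype.ext ?_⟩⟩
    have := Subgroup.commutator_eq_bot_iff_le_centralizer.mp h1 a.2
    exact (Subgroup.mem_centralizer_iff.mp this b b.2).symm
  have hA1 : Nat.card A ≠ 1 := fun h1 => hA (Subgroup.eq_bot_of_card_eq A h1)
  obtain ⟨p, hp, hpd⟩ := Nat.exists_prime_and_dvd hA1
  haveI : Fact p.Prime := ⟨hp⟩
  obtain ⟨P⟩ := (Sylow.nonempty : Nonempty (Sylow p A))
  have hPn : (P : Subgroup A).Normal :=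
    ⟨fun x hx y => by rwa [hAc.is_comm.comm y x, mul_inv_cancel_right]⟩
  haveI := Sylow.characteristic_of_normal P hPn
  haveI := hAn
  refine ⟨p, (P : Subgroup A).map A.subtype, hp, hpd.trans (Subgroup.card_subgroup_dvd_card A),
    inferInstance, ?_, P.2.map _⟩
  rw [Ne, Subgroup.map_eq_bot_iff_of_injective _ A.subtype_injective]
  exact P.ne_bot_of_dvd_card hpd

theorem card_quotient_lt [Finite S] (Z : Subgroup S) [Z.Normal] (hZ : Z ≠ ⊥) :
    Nat.card (S ⧸ Z) < Nat.card S := by
  rw [Subgroup.card_eq_card_quotient_mul_card_subgroup Z]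
  exact lt_mul_of_one_lt_right Nat.card_pos (Z.one_lt_card_iff_ne_bot.mpr hZ)

/-- The invariant class predicate. -/
def IsInvariantClass (φ : S →* MulAut G) (K : ConjClasses G) : Prop :=
  ∀ (s : S) (g : G), ConjClasses.mk g = K → ConjClasses.mk (φ s g) = K

theorem mult_comp_invariant {C : Type*} [Group C] [Finite C] [Finite G] (ι : C →* G) (e : MulAut G)
    (f : MulAut C) (h : ∀ c, ι (f c) = e (ι c)) (χ : G → ℂ) (β : C → ℂ)
    (hχ : ∀ g, χ (e g) = χ g) : mult ι χ (fun c => β (f c)) = mult ι χ β := by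
  have := mult_comp_equiv ι ι e f h χ β
  rwa [show (fun g => χ (e g)) = χ from funext hχ] at this

/-- The correspondent of an `S`-invariant character is `S ⧸ Z`-invariant, and conversely. -/
theorem isInvariant_iff_of_correspond [Finite S] [Finite G] (φ : S →* MulAut G) (Z : Subgroup S)
    [hZn : Z.Normal] {p : ℕ} [Fact p.Prime] (hset : CoprimePSetup (φ.comp Z.subtype)
      (fixedSubgroup φ Z).subtype p) {χ : IrrCharacter G} {β : IrrCharacter (fixedSubgroup φ Z)}
    (hχ : IsInvariant (φ.comp Z.subtype) (χ : G → ℂ))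
    (hβ : ¬ p ∣ mult (fixedSubgroup φ Z).subtype (χ : G → ℂ) (β : _ → ℂ)) :
    IsInvariant φ (χ : G → ℂ) ↔ IsInvariant (quotientAction φ Z) (β : _ → ℂ) := by
  constructor
  · intro h q c
    induction q using QuotientGroup.induction_on with
    | H s =>
      set f := restrictAction φ (fixedSubgroup φ Z) (fixedSubgroup_invariant φ Z) s
      have h1 : ¬ p ∣ mult (fixedSubgroup φ Z).subtype (χ : G → ℂ)
          ((irrComp f β : IrrCharacter _) : _ → ℂ) := by
        rw [show ((irrComp f β : IrrCharacter _) : _ → ℂ) = fun c => (β : _ → ℂ) (f c) from rfl,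
          mult_comp_invariant _ (φ s) f (fun c => rfl) _ _ (h s)]
        exact hβ
      exact congrFun (congrArg Subtype.val (hset.unique hχ h1 hβ)) c
  · intro h s g
    set f := restrictAction φ (fixedSubgroup φ Z) (fixedSubgroup_invariant φ Z) s
    have hχ' : IsInvariant (φ.comp Z.subtype) ((irrComp (φ s) χ : IrrCharacter G) : G → ℂ) := by
      intro z g
      show (χ : G → ℂ) (φ s (φ z g)) = (χ : G → ℂ) (φ s g)
      have e1 : φ s (φ (z : S) g) = φ (s * z * s⁻¹) (φ s g) := by
        rw [← MulAut.mul_apply, ← MulAut.mul_apply, ← map_mul, ← map_mul]; simp [mul_assoc]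
      rw [e1]
      exact hχ ⟨s * z * s⁻¹, hZn.conj_mem z z.2 s⟩ (φ s g)
    have h1 : ¬ p ∣ mult (fixedSubgroup φ Z).subtype ((irrComp (φ s) χ : IrrCharacter G) : G → ℂ)
        (β : _ → ℂ) := by
      have e2 : (fun c => (β : _ → ℂ) (f c)) = (β : _ → ℂ) := funext fun c => h (s : S ⧸ Z) c
      rw [show ((irrComp (φ s) χ : IrrCharacter G) : G → ℂ) = fun g => (χ : G → ℂ) (φ s g) from rfl,
        ← e2, mult_comp_equiv (fixedSubgroup φ Z).subtype (fixedSubgroup φ Z).subtype (φ s) f
          (fun c => rfl)]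
      exact hβ
    exact congrFun (congrArg Subtype.val (hset.injective hχ' hχ h1 hβ)) g

/-- Isomorphic groups have equally many classes. -/
theorem card_conjClasses_congr {A B : Type*} [Group A] [Group B] (f : A ≃* B) :
    Nat.card (ConjClasses A) = Nat.card (ConjClasses B) := by
  refine Nat.card_eq_of_bijective (ConjClasses.map f.toMonoidHom)
    ⟨fun a b h => ?_, ConjClasses.map_surjective f.surjective⟩
  obtain ⟨a, rfl⟩ := ConjClasses.mk_surjective a
  obtain ⟨b, rfl⟩ := ConjClasses.mk_surjective b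
  have h' := ConjClasses.mk_eq_mk_iff_isConj.mp
    (h : ConjClasses.mk (f a) = ConjClasses.mk (f b))
  exact ConjClasses.mk_eq_mk_iff_isConj.mpr (by simpa using f.symm.toMonoidHom.map_isConj h')

/-- Fixed points of the quotient action. -/
def fixedQuotientEquiv (φ : S →* MulAut G) (Z : Subgroup S) [Z.Normal] :
    fixedSubgroup (quotientAction φ Z) ⊤ ≃* fixedSubgroup φ ⊤ where
  toFun c := ⟨((c : fixedSubgroup φ Z) : G), fun s _ =>
    congrArg Subtype.val (c.2 (s : S ⧸ Z) trivial)⟩
  invFun g := ⟨⟨g, fun z _ => g.2 z trivial⟩, fun q _ =>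
    QuotientGroup.induction_on q fun s => Subtype.ext (g.2 s trivial)⟩
  left_inv _ := rfl
  right_inv _ := rfl
  map_mul' _ _ := rfl

/-- The character step of the induction. -/
theorem card_invariant_irr_step [Finite S] [Finite G] (φ : S →* MulAut G) (Z : Subgroup S)
    [Z.Normal] {p : ℕ} [Fact p.Prime]
    (hset : CoprimePSetup (φ.comp Z.subtype) (fixedSubgroup φ Z).subtype p) :
    Nat.card {χ : IrrCharacter G // IsInvariant φ (χ : G → ℂ)} =
      Nat.card {β : IrrCharacter (fixedSubgroup φ Z) //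
        IsInvariant (quotientAction φ Z) (β : fixedSubgroup φ Z → ℂ)} := by
  have hex : ∀ χ : {χ : IrrCharacter G // IsInvariant φ (χ : G → ℂ)},
      ∃ β : {β : IrrCharacter (fixedSubgroup φ Z) //
          IsInvariant (quotientAction φ Z) (β : fixedSubgroup φ Z → ℂ)},
        ¬ p ∣ mult (fixedSubgroup φ Z).subtype (χ.1 : G → ℂ)
          (β.1 : fixedSubgroup φ Z → ℂ) := by
    rintro ⟨χ, hχ⟩
    have hχZ : IsInvariant (φ.comp Z.subtype) (χ : G → ℂ) := fun z g => hχ z g
    obtain ⟨β, hβ⟩ := hset.exists_of_invariant hχZ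
    exact ⟨⟨β, (isInvariant_iff_of_correspond φ Z hset hχZ hβ).mp hχ⟩, hβ⟩
  choose f hf using hex
  refine Nat.card_eq_of_bijective f ⟨fun χ χ' he => ?_, fun β => ?_⟩
  · exact Subtype.ext (hset.injective (fun z g => χ.2 z g) (fun z g => χ'.2 z g) (hf χ)
      (he ▸ hf χ'))
  · obtain ⟨χ, hχZ, hχ⟩ := hset.surjective β.1
    refine ⟨⟨χ, (isInvariant_iff_of_correspond φ Z hset hχZ hχ).mpr β.2⟩, ?_⟩
    exact Subtype.ext (hset.unique (χ := χ) hχZ
      (hf ⟨χ, (isInvariant_iff_of_correspond φ Z hset hχZ hχ).mpr β.2⟩) hχ)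

/-- The class step of the induction. -/
theorem card_invariant_class_step [Finite S] [Finite G] (φ : S →* MulAut G) (Z : Subgroup S)
    [Z.Normal] {p : ℕ} [Fact p.Prime] (hZp : IsPGroup p Z) (hpG : ¬ p ∣ Nat.card G)
    (hset : CoprimePSetup (φ.comp Z.subtype) (fixedSubgroup φ Z).subtype p) :
    Nat.card {K : ConjClasses (fixedSubgroup φ Z) // IsInvariantClass (quotientAction φ Z) K} =
      Nat.card {K : ConjClasses G // IsInvariantClass φ K} := by
  have hmap : ∀ K : {K : ConjClasses (fixedSubgroup φ Z) //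
      IsInvariantClass (quotientAction φ Z) K},
      IsInvariantClass φ (ConjClasses.map (fixedSubgroup φ Z).subtype K.1) := by
    rintro ⟨K, hK⟩ s g hg
    obtain ⟨c, rfl⟩ := ConjClasses.mk_surjective K
    have h1 := ConjClasses.mk_eq_mk_iff_isConj.mp
      (hg : ConjClasses.mk g = ConjClasses.mk (c : G))
    have h2 := ConjClasses.mk_eq_mk_iff_isConj.mp (hK (s : S ⧸ Z) c rfl)
    exact ConjClasses.mk_eq_mk_iff_isConj.mpr
      (((φ s).toMonoidHom.map_isConj h1).trans ((fixedSubgroup φ Z).subtype.map_isConj h2))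
  refine Nat.card_eq_of_bijective (fun K => ⟨_, hmap K⟩) ⟨?_, ?_⟩
  · rintro ⟨K, hK⟩ ⟨L, hL⟩ he
    obtain ⟨a, rfl⟩ := ConjClasses.mk_surjective K
    obtain ⟨b, rfl⟩ := ConjClasses.mk_surjective L
    exact Subtype.ext (ConjClasses.mk_eq_mk_iff_isConj.mpr
      (hset.isConj_iff_map.mp (ConjClasses.mk_eq_mk_iff_isConj.mp (congrArg Subtype.val he))))
  · rintro ⟨K, hK⟩
    letI : MulAction Z K.carrier :=
      { smul := fun z g => ⟨φ z g.1, ConjClasses.mem_carrier_iff_mk_eq.mpr
          (hK z g.1 (ConjClasses.mem_carrier_iff_mk_eq.mp g.2))⟩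
        one_smul := fun g => Subtype.ext (by show φ ((1 : Z) : S) g.1 = g.1; simp)
        mul_smul := fun a b g => Subtype.ext (by
          show φ ((a * b : Z) : S) g.1 = φ a (φ b g.1); simp) }
    have hnd : ¬ p ∣ Nat.card K.carrier := fun hd => hpG (hd.trans (by
      obtain ⟨g₀, rfl⟩ := ConjClasses.mk_surjective K
      have : Nat.card (ConjClasses.mk g₀).carrier =
          (Subgroup.centralizer ({g₀} : Set G)).index := by
        rw [← CfsgLib.CharTheory.card_isConj g₀]
        exact Nat.card_congr (Equiv.subtypeEquiv (Equiv.refl G) fun x => by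
          rw [ConjClasses.mem_carrier_iff_mk_eq, ConjClasses.mk_eq_mk_iff_isConj,
            Equiv.refl_apply]
          exact isConj_comm)
      rw [this]
      exact Subgroup.index_dvd_card _))
    obtain ⟨⟨g, hgK⟩, hg⟩ := hZp.nonempty_fixed_point_of_prime_not_dvd_card K.carrier hnd
    have hgC : g ∈ fixedSubgroup φ Z := fun z hz => congrArg Subtype.val (hg ⟨z, hz⟩)
    refine ⟨⟨ConjClasses.mk ⟨g, hgC⟩, ?_⟩, ?_⟩
    · intro q d hd
      refine QuotientGroup.induction_on q fun s => ?_
      refine ConjClasses.mk_eq_mk_iff_isConj.mpr (hset.isConj_iff_map.mp ?_)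
      refine ConjClasses.mk_eq_mk_iff_isConj.mp ?_
      have h1 : ConjClasses.mk ((d : fixedSubgroup φ Z) : G) = K :=
        (ConjClasses.mk_eq_mk_iff_isConj.mpr ((fixedSubgroup φ Z).subtype.map_isConj
          (ConjClasses.mk_eq_mk_iff_isConj.mp hd))).trans
          (ConjClasses.mem_carrier_iff_mk_eq.mp hgK)
      exact (hK s d h1).trans (ConjClasses.mem_carrier_iff_mk_eq.mp hgK).symm
    · exact Subtype.ext (ConjClasses.mem_carrier_iff_mk_eq.mp hgK)

/-- Invariant irreducible characters, invariant classes and classes of the fixed points are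
equinumerous, for a solvable group acting coprimely. -/
theorem card_invariant_aux (N : ℕ) : ∀ (S : Type u) [Group S] [Finite S], Group.IsSolvable S →
    Nat.card S ≤ N → ∀ (G : Type v) [Group G] [Finite G] (φ : S →* MulAut G),
      (Nat.card G).Coprime (Nat.card S) →
        Nat.card {χ : IrrCharacter G // IsInvariant φ (χ : G → ℂ)} =
            Nat.card (ConjClasses (fixedSubgroup φ ⊤)) ∧
          Nat.card {K : ConjClasses G // IsInvariantClass φ K} =
            Nat.card (ConjClasses (fixedSubgroup φ ⊤)) := by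
  induction N with
  | zero => intro S _ _ _ h; exact absurd (Nat.le_zero.mp h) Nat.card_pos.ne'
  | succ N ih =>
    intro S _ _ hS hN G _ _ φ hcop
    classical
    rcases subsingleton_or_nontrivial S with hss | hnt
    · have htriv : ∀ s g, φ s g = g := fun s g => by rw [Subsingleton.elim s 1]; simp
      have hfix : fixedSubgroup φ ⊤ = ⊤ := eq_top_iff.mpr fun g _ z _ => htriv z g
      have hcl : Nat.card (ConjClasses (fixedSubgroup φ ⊤)) = Nat.card (ConjClasses G) :=
        card_conjClasses_congr ((MulEquiv.subgroupCongr hfix).trans Subgroup.topEquiv)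
      refine ⟨?_, ?_⟩
      · rw [hcl, ← CfsgLib.CharTheory.card_irrCharacter]
        exact Nat.card_congr (Equiv.subtypeUnivEquiv fun χ s g => congrArg _ (htriv s g))
      · rw [hcl]
        exact Nat.card_congr (Equiv.subtypeUnivEquiv fun K s g hg => by rw [htriv]; exact hg)
    obtain ⟨p, Z, hp, hpS, hZn, hZ, hZp⟩ := exists_normal_pSubgroup hS
    haveI : Fact p.Prime := ⟨hp⟩
    haveI := hS
    haveI := hZn
    have hpG : ¬ p ∣ Nat.card G := fun h => hp.not_dvd_one (hcop ▸ Nat.dvd_gcd h hpS)
    have hset := coprimePSetup_fixedSubgroup φ Z hZp hpG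
    obtain ⟨hirr, hcls⟩ := ih (S ⧸ Z) inferInstance
      (by have := card_quotient_lt Z hZ; omega) (fixedSubgroup φ Z) (quotientAction φ Z)
      (Nat.Coprime.coprime_dvd_left (Subgroup.card_subgroup_dvd_card (fixedSubgroup φ Z))
        (hcop.coprime_dvd_right (Subgroup.card_quotient_dvd_card Z)))
    have hfixeq := card_conjClasses_congr (fixedQuotientEquiv φ Z)
    exact ⟨(card_invariant_irr_step φ Z hset).trans (hirr.trans hfixeq),
      (card_invariant_class_step φ Z hZp hpG hset).symm.trans (hcls.trans hfixeq)⟩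

/-- Invariant irreducible characters correspond in number to the classes of the fixed points. -/
theorem card_invariant_irr {S : Type u} [Group S] [Finite S] {G : Type v} [Group G] [Finite G]
    (hS : Group.IsSolvable S) (φ : S →* MulAut G) (hcop : (Nat.card G).Coprime (Nat.card S)) :
    Nat.card {χ : IrrCharacter G // IsInvariant φ (χ : G → ℂ)} =
      Nat.card (ConjClasses (fixedSubgroup φ ⊤)) :=
  (card_invariant_aux _ S hS le_rfl G φ hcop).1

/-- Equal numbers of invariant characters and invariant classes. -/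
theorem card_invariant_irr_eq_classes {S : Type u} [Group S] [Finite S] {G : Type v} [Group G]
    [Finite G] (hS : Group.IsSolvable S) (φ : S →* MulAut G)
    (hcop : (Nat.card G).Coprime (Nat.card S)) :
    Nat.card {χ : IrrCharacter G // IsInvariant φ (χ : G → ℂ)} =
      Nat.card {K : ConjClasses G // IsInvariantClass φ K} :=
  (card_invariant_aux _ S hS le_rfl G φ hcop).1.trans
    (card_invariant_aux _ S hS le_rfl G φ hcop).2.symm

/-- Multiplicities compose. -/
theorem mult_comp {D C G : Type*} [Group D] [Finite D] [Group C] [Finite C]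
    [Fintype (IrrCharacter C)] [Group G] (ι₁ : D →* C) (ι₂ : C →* G) {χ : G → ℂ}
    (hχ : IsCharacter G χ) (θ : IrrCharacter D) :
    mult (ι₂.comp ι₁) χ (θ : D → ℂ) =
      ∑ η : IrrCharacter C, mult ι₂ χ (η : C → ℂ) * mult ι₁ (η : C → ℂ) (θ : D → ℂ) := by
  haveI := Fintype.ofFinite D
  refine Nat.cast_injective (R := ℂ) ?_
  rw [← classInner_eq_mult _ hχ]
  have h1 : (fun d => χ ((ι₂.comp ι₁) d)) =
      ∑ η : IrrCharacter C, (mult ι₂ χ (η : C → ℂ) : ℂ) • fun d => (η : C → ℂ) (ι₁ d) := by
    funext d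
    simpa [Finset.sum_apply] using congrFun (res_eq_sum_mult ι₂ hχ) (ι₁ d)
  rw [h1, CfsgLib.CharTheory.classInner_sum_left]
  push_cast
  exact Finset.sum_congr rfl fun η _ => by
    rw [CfsgLib.CharTheory.classInner_smul_left,
      classInner_eq_mult ι₁ (CfsgLib.CharTheory.IsIrrCharacter.isCharacter η.2)]

/-- The multiplicity of an irreducible character of a normal subgroup divides the degree. -/
theorem mult_dvd_degree {G : Type*} [Group G] [Finite G] (N : Subgroup G) [N.Normal]
    (χ : IrrCharacter G) (θ : IrrCharacter N) (hk : mult N.subtype (χ : G → ℂ) (θ : N → ℂ) ≠ 0)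
    {d : ℕ} (hd : (χ : G → ℂ) 1 = d) :
    mult N.subtype (χ : G → ℂ) (θ : N → ℂ) ∣ d := by
  classical
  haveI := Fintype.ofFinite G
  haveI := Fintype.ofFinite N
  haveI := Fintype.ofFinite (IrrCharacter N)
  haveI := Fintype.ofFinite (IrrCharacter G)
  set k := mult N.subtype (χ : G → ℂ) (θ : N → ℂ) with hkdef
  have hχc := CfsgLib.CharTheory.IsIrrCharacter.isCharacter χ.2
  have hconj : ∀ g, mult N.subtype (χ : G → ℂ)
      ((irrComp (MulAut.conjNormal g) θ : IrrCharacter N) : N → ℂ) = k := fun g =>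
    mult_comp_invariant N.subtype (MulAut.conj g) (MulAut.conjNormal g)
      (fun n => MulAut.conjNormal_apply g n) _ _
      fun x => CfsgLib.CharTheory.IsIrrCharacter.isClassFunction χ.2 x g
  -- every constituent is a conjugate of `θ` when `k ≠ 0`
  have hall : ∀ η : IrrCharacter N, (∀ g, η ≠ irrComp (MulAut.conjNormal g) θ) →
      mult N.subtype (χ : G → ℂ) (η : N → ℂ) = 0 := by
    intro η hη
    have hind := CfsgLib.Frobenius.isCharacter_indFun N (θ : N → ℂ)
      (CfsgLib.CharTheory.IsIrrCharacter.isCharacter θ.2)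
    obtain ⟨a, ha⟩ := CfsgLib.CharTheory.IsCharacter.exists_sum hind
    have h0 : classInner (fun n : N => indFun N (θ : N → ℂ) n) (η : N → ℂ) = 0 := by
      have he : (fun n : N => indFun N (θ : N → ℂ) n) = (Nat.card N : ℂ)⁻¹ •
          ∑ x : G, ((irrComp (MulAut.conjNormal x⁻¹) θ : IrrCharacter N) : N → ℂ) := by
        funext n
        simp only [indFun, Pi.smul_apply, Finset.sum_apply, smul_eq_mul, irrComp_apply]
        congr 1
        refine Finset.sum_congr rfl fun x _ => ?_
        rw [show x⁻¹ * (n : G) * x = ((MulAut.conjNormal x⁻¹ n : N) : G) by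
          rw [MulAut.conjNormal_apply, inv_inv], CfsgLib.Frobenius.extendByZero_coe]
      rw [he, CfsgLib.CharTheory.classInner_smul_left, CfsgLib.CharTheory.classInner_sum_left,
        Finset.sum_eq_zero fun x _ => CfsgLib.CharTheory.classInner_eq_zero_of_ne
          (irrComp (MulAut.conjNormal x⁻¹) θ).2 η.2 fun e => hη x⁻¹ (Subtype.ext e.symm), mul_zero]
    have he2 : (fun n : N => indFun N (θ : N → ℂ) n) =
        ∑ ψ, (a ψ : ℂ) • (fun n : N => (ψ : G → ℂ) (N.subtype n)) := by
      funext n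
      rw [ha]
      simp [Finset.sum_apply]
    rw [he2, CfsgLib.CharTheory.classInner_sum_left] at h0
    simp only [CfsgLib.CharTheory.classInner_smul_left,
      classInner_eq_mult N.subtype (CfsgLib.CharTheory.IsIrrCharacter.isCharacter (_ : IrrCharacter G).2),
      ← Nat.cast_mul, ← Nat.cast_sum, Nat.cast_eq_zero, Finset.sum_eq_zero_iff, Finset.mem_univ,
      true_implies, mul_eq_zero] at h0
    refine (h0 χ).resolve_left fun hz => hk ?_
    have h2 : (a χ : ℂ) = classInner (indFun N (θ : N → ℂ)) (χ : G → ℂ) := by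
      rw [ha, CfsgLib.CharTheory.classInner_sum_irr]
    rw [CfsgLib.Frobenius.classInner_indFun N _ _
      (CfsgLib.CharTheory.IsIrrCharacter.isClassFunction χ.2), hz, Nat.cast_zero,
      CfsgLib.CharTheory.classInner_conj_symm, eq_comm, map_eq_zero] at h2
    exact Nat.cast_injective (((classInner_eq_mult N.subtype hχc θ).symm.trans h2).trans
      Nat.cast_zero.symm)
  have hdeg : ∀ η : IrrCharacter N, ∃ n : ℕ, (η : N → ℂ) 1 = n := fun η => by
    obtain ⟨n, -, hn⟩ := CfsgLib.CharTheory.exists_degree_of_isIrr η.2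
    exact ⟨n, hn⟩
  choose deg hdeg using hdeg
  have hsum : (d : ℂ) = ((∑ η : IrrCharacter N, mult N.subtype (χ : G → ℂ) (η : N → ℂ) *
      deg η : ℕ) : ℂ) := by
    rw [← hd]
    push_cast
    simpa [Finset.sum_apply, hdeg] using congrFun (res_eq_sum_mult N.subtype hχc) 1
  rw [Nat.cast_injective hsum]
  refine Finset.dvd_sum fun η _ => dvd_mul_of_dvd_left ?_ _
  by_cases hg : ∃ g, η = irrComp (MulAut.conjNormal g) θ
  · obtain ⟨g, rfl⟩ := hg
    rw [hconj g]
  · rw [hall η (fun g hh => hg ⟨g, hh⟩)]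
    exact dvd_zero _

end CfsgLib.CharDegreesTheory
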