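import Mathlib
import Cfsg.Agent.Lib.CharTheory.Degree
import Cfsg.Agent.Lib.CharTheory.Orthogonality
import Cfsg.Agent.Lib.CharDegreesTheory.SolvableAction

/-!
A coprime solvable action fixing an irreducible character of an invariant normal subgroup fixes
one of the constituents of the induced character.
-/

set_option autoImplicit false
set_option linter.style.haveILetI false
set_option linter.unusedSectionVars false

namespace CfsgLib.CharDegreesTheory

open Cfsg

universe u v

theorem exists_constituent {G : Type*} [Group G] [Finite G] (N : Subgroup G)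
    (θ : IrrCharacter N) : ∃ χ : IrrCharacter G, mult N.subtype (χ : G → ℂ) (θ : N → ℂ) ≠ 0 := by
  classical
  haveI := Fintype.ofFinite G
  haveI := Fintype.ofFinite N
  haveI := Fintype.ofFinite (IrrCharacter G)
  by_contra hno
  push Not at hno
  have h0 : ∀ χ : IrrCharacter G, classInner (fun n : N => (χ : G → ℂ) n) (θ : N → ℂ) = 0 :=
    fun χ => (classInner_eq_mult N.subtype
      (CfsgLib.CharTheory.IsIrrCharacter.isCharacter χ.2) θ).trans (by rw [hno χ, Nat.cast_zero])
  have h1 : classInner (fun n : N => if (n : G) = 1 then (Nat.card G : ℂ) else 0)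
      (θ : N → ℂ) = 0 := by
    have he : (fun n : N => if (n : G) = 1 then (Nat.card G : ℂ) else 0) =
        ∑ χ : IrrCharacter G, (χ : G → ℂ) 1 • fun n : N => (χ : G → ℂ) n := by
      funext n
      simp [Finset.sum_apply, CfsgLib.CharTheory.sum_degree_mul]
    rw [he, CfsgLib.CharTheory.classInner_sum_left]
    exact Finset.sum_eq_zero fun χ _ => by
      rw [CfsgLib.CharTheory.classInner_smul_left, h0, mul_zero]
  simp only [classInner, OneMemClass.coe_eq_one, ite_mul, zero_mul, Finset.sum_ite_eq',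
    Finset.mem_univ, if_true, mul_eq_zero, inv_eq_zero, Nat.cast_eq_zero, map_eq_zero,
    Nat.card_pos.ne', false_or, CfsgLib.CharTheory.apply_one_ne_zero_of_isIrr θ.2] at h1

/-- The inductive statement. -/
theorem exists_invariant_constituent_aux (M : ℕ) : ∀ (S : Type u) [Group S] [Finite S],
    Group.IsSolvable S → Nat.card S ≤ M → ∀ (G : Type v) [Group G] [Finite G]
      (φ : S →* MulAut G), (Nat.card G).Coprime (Nat.card S) → ∀ (N : Subgroup G), N.Normal →
      ∀ (hN : ∀ s, ∀ n ∈ N, φ s n ∈ N) (θ : IrrCharacter N),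
        IsInvariant (restrictAction φ N hN) (θ : N → ℂ) →
          ∃ χ : IrrCharacter G, IsInvariant φ (χ : G → ℂ) ∧
            mult N.subtype (χ : G → ℂ) (θ : N → ℂ) ≠ 0 := by
  induction M with
  | zero => intro S _ _ _ h; exact absurd (Nat.le_zero.mp h) Nat.card_pos.ne'
  | succ M ih =>
    intro S _ _ hS hM G _ _ φ hcop N hNn hN θ hθ
    classical
    rcases subsingleton_or_nontrivial S with hss | hnt
    · obtain ⟨χ, hχ⟩ := exists_constituent N θ
      exact ⟨χ, fun s g => by rw [Subsingleton.elim s 1]; simp, hχ⟩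
    obtain ⟨p, Z, hp, hpS, hZn, hZ, hZp⟩ := exists_normal_pSubgroup hS
    haveI : Fact p.Prime := ⟨hp⟩
    haveI := hS
    haveI := hZn
    haveI := hNn
    have hpG : ¬ p ∣ Nat.card G := fun h => hp.not_dvd_one (hcop ▸ Nat.dvd_gcd h hpS)
    have hset := coprimePSetup_fixedSubgroup φ Z hZp hpG
    set C := fixedSubgroup φ Z with hC
    set φN := restrictAction φ N hN with hφN
    let D : Subgroup C := N.subgroupOf C
    let ι : D →* N :=
      { toFun := fun d => ⟨((d : C) : G), d.2⟩
        map_one' := rfl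
        map_mul' := fun _ _ => rfl }
    have hsetN : CoprimePSetup (φN.comp Z.subtype) ι p :=
      ⟨hZp, fun h => hpG (h.trans (Subgroup.card_subgroup_dvd_card N)),
        fun a b hab => Subtype.ext (Subtype.ext (Subtype.ext_iff.mp hab :)), fun n =>
        ⟨fun h => ⟨⟨⟨n, fun z hz => congrArg Subtype.val (h ⟨z, hz⟩)⟩, n.2⟩, rfl⟩,
          fun ⟨d, hd⟩ z => hd ▸ Subtype.ext ((d : C).2 z z.2)⟩⟩
    have hθZ : IsInvariant (φN.comp Z.subtype) (θ : N → ℂ) := fun z n => hθ z n
    obtain ⟨θ', hθ'⟩ := hsetN.exists_of_invariant hθZ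
    have hD : ∀ q, ∀ c ∈ D, quotientAction φ Z q c ∈ D := fun q c hc =>
      QuotientGroup.induction_on q fun s => hN s (c : G) hc
    have hθ'inv : IsInvariant (restrictAction (quotientAction φ Z) D hD) (θ' : D → ℂ) := by
      intro q d
      refine QuotientGroup.induction_on q fun s => ?_
      set f := restrictAction (quotientAction φ Z) D hD (s : S ⧸ Z)
      have h1 : ¬ p ∣ mult ι (θ : N → ℂ) ((irrComp f θ' : IrrCharacter D) : D → ℂ) := by
        have e := mult_comp_invariant ι (φN s) f (fun d => rfl) (θ : N → ℂ) (θ' : D → ℂ) (hθ s)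
        exact fun hd => hθ' (e ▸ hd)
      exact congrFun (congrArg Subtype.val (hsetN.unique hθZ h1 hθ')) d
    have hcopC : (Nat.card C).Coprime (Nat.card (S ⧸ Z)) :=
      Nat.Coprime.coprime_dvd_left (Subgroup.card_subgroup_dvd_card C)
        (hcop.coprime_dvd_right (Subgroup.card_quotient_dvd_card Z))
    obtain ⟨β, hβ, hm⟩ := ih (S ⧸ Z) inferInstance
      (by have := card_quotient_lt Z hZ; omega) C (quotientAction φ Z) hcopC D inferInstance hD
      θ' hθ'inv
    obtain ⟨d, -, hdC, hd⟩ := CfsgLib.CharTheory.IsIrrCharacter.exists_degree_dvd β.2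
    have hmp : ¬ p ∣ mult D.subtype (β : C → ℂ) (θ' : D → ℂ) := fun h =>
      hset.not_dvd_card (h.trans ((mult_dvd_degree D β θ' hm hd).trans hdC))
    obtain ⟨χ, hχZ, hχ⟩ := hset.surjective β
    refine ⟨χ, (isInvariant_iff_of_correspond φ Z hset hχZ hχ).mpr hβ, fun hzero => ?_⟩
    have hχc := CfsgLib.CharTheory.IsIrrCharacter.isCharacter χ.2
    haveI := Fintype.ofFinite (IrrCharacter N)
    haveI := Fintype.ofFinite (IrrCharacter C)
    have hL : ¬ p ∣ mult (C.subtype.comp D.subtype) (χ : G → ℂ) (θ' : D → ℂ) := by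
      rw [mult_comp D.subtype C.subtype hχc θ', ← Finset.add_sum_erase _ _ (Finset.mem_univ β)]
      intro hdvd
      refine (hp.dvd_mul.mp ((Nat.dvd_add_left ?_).mp hdvd)).elim hχ hmp
      refine Finset.dvd_sum fun η hη => dvd_mul_of_dvd_left ?_ _
      by_contra hd'
      exact (Finset.mem_erase.mp hη).1 (hset.unique hχZ hd' hχ)
    refine hL ?_
    rw [show C.subtype.comp D.subtype = N.subtype.comp ι from rfl, mult_comp ι N.subtype hχc θ']
    let f : IrrCharacter N → ℕ := fun ψ =>
      mult N.subtype (χ : G → ℂ) (ψ : N → ℂ) * mult ι (ψ : N → ℂ) (θ' : D → ℂ)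
    letI := irrAction (φN.comp Z.subtype)
    have hinv : ∀ (z : Z) (ψ : IrrCharacter N), f (z • ψ) = f ψ := by
      intro z ψ
      have e1 : mult N.subtype (χ : G → ℂ) ((z • ψ : IrrCharacter N) : N → ℂ) =
          mult N.subtype (χ : G → ℂ) (ψ : N → ℂ) :=
        mult_comp_invariant N.subtype (φ (z⁻¹ : Z)) (φN (z⁻¹ : Z)) (fun n => rfl) _ _
          fun g => hχZ z⁻¹ g
      have e2 : mult ι ((z • ψ : IrrCharacter N) : N → ℂ) (θ' : D → ℂ) =
          mult ι (ψ : N → ℂ) (θ' : D → ℂ) :=
        mult_comp_equiv ι ι (φN (z⁻¹ : Z)) (MulEquiv.refl D)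
          (fun d => (hsetN.apply_eq z⁻¹ d).symm) _ _
      simp only [f, e1, e2]
    have h1 := intCong_sum_fixedPoints (X := IrrCharacter N) hZp (fun ψ => ((f ψ : ℕ) : ℂ))
      (fun _ => isIntegral_natCast_complex _) (fun z ψ => by simp only [hinv z ψ])
    rw [← Nat.cast_sum, ← Nat.cast_sum] at h1
    refine (h1.modEq hp.ne_zero).dvd_iff dvd_rfl |>.mpr (Finset.dvd_sum fun ψ hψ => ?_)
    rcases eq_or_ne ψ θ with rfl | hne
    · simp [f, hzero]
    · refine dvd_mul_of_dvd_right ?_ _
      by_contra hd'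
      have hψZ := (mem_fixedPoints_irrAction (φN.comp Z.subtype) ψ).mp (Finset.mem_filter.mp hψ).2
      exact hne (hsetN.injective hψZ hθZ hd' hθ')

/-- A coprime solvable action fixing `θ` fixes a constituent of the induced character. -/
theorem exists_invariant_constituent {S : Type u} [Group S] [Finite S] (hS : Group.IsSolvable S)
    {G : Type v} [Group G] [Finite G] (φ : S →* MulAut G)
    (hcop : (Nat.card G).Coprime (Nat.card S)) (N : Subgroup G) [hNn : N.Normal]
    (hN : ∀ s, ∀ n ∈ N, φ s n ∈ N) (θ : IrrCharacter N)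
    (hθ : IsInvariant (restrictAction φ N hN) (θ : N → ℂ)) :
    ∃ χ : IrrCharacter G, IsInvariant φ (χ : G → ℂ) ∧
      mult N.subtype (χ : G → ℂ) (θ : N → ℂ) ≠ 0 :=
  exists_invariant_constituent_aux _ S hS le_rfl G φ hcop N hNn hN θ hθ

end CfsgLib.CharDegreesTheory
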