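import Cfsg.Agent.Lib.CharDegreesTheory.SmallDegrees
import Cfsg.Agent.Lib.SolvableStructure.MinimalNormal

/-!
# Solvable groups with no degree divisible by a prime
-/

set_option autoImplicit false
set_option linter.style.haveILetI false
set_option linter.unusedSectionVars false

namespace CfsgLib.CharDegreesTheory.ItoSolvable

open Cfsg CfsgLib.CharTheory CfsgLib.Clifford CfsgLib.CharDegreesTheory.SmallDegrees Finset

universe u

/-- No degree is divisible by `p`. -/
def NoDvd (p : ℕ) (G : Type u) [Group G] : Prop :=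
  ∀ χ : IrrCharacter G, ¬ p ∣ charDegree (χ : G → ℂ)

variable {G : Type u} [Group G] [Finite G] {p : ℕ}

theorem NoDvd.quotient (h : NoDvd p G) (K : Subgroup G) [K.Normal] : NoDvd p (G ⧸ K) := by
  intro θ
  exact h ⟨_, isIrrCharacter_comp θ.2 (QuotientGroup.mk'_surjective K)⟩

theorem dvd_of_constituent (N : Subgroup G) [N.Normal] [Fintype N] (θ : IrrCharacter N)
    (χ : IrrCharacter G) (h : classInner (fun n : N => (χ : G → ℂ) n) (θ : N → ℂ) ≠ 0) :
    charDegree (θ : N → ℂ) ∣ charDegree (χ : G → ℂ) := by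
  classical
  haveI := Fintype.ofFinite G
  obtain ⟨e, he⟩ := IsCharacter.exists_classInner_eq_nat (G := N)
    (CfsgLib.Coherence.isCharacter_comp (IsIrrCharacter.isCharacter χ.2) N.subtype) θ
  have h1 := apply_one_eq N χ.2 θ.2 h
  erw [he] at h1
  rw [SmallDegrees.charDegree_one, SmallDegrees.charDegree_one] at h1
  refine ⟨e * (conjOrbit N (θ : N → ℂ)).card, ?_⟩
  rw [mul_comm (charDegree _)]
  exact_mod_cast h1

theorem NoDvd.normalSubgroup (h : NoDvd p G) (N : Subgroup G) [N.Normal] : NoDvd p N := by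
  haveI := Fintype.ofFinite N
  intro θ hd
  obtain ⟨χ, hχ⟩ := exists_over N θ
  exact h χ (hd.trans (dvd_of_constituent N θ χ hχ))

theorem comm_of_isPGroup [hp : Fact p.Prime] (h : NoDvd p G) (hG : IsPGroup p G) (a b : G) :
    a * b = b * a := by
  haveI := Fintype.ofFinite G
  refine comm_of_linear (fun χ => ?_) a b
  obtain ⟨k, hk⟩ := IsPGroup.iff_card.1 hG
  obtain ⟨j, -, hj⟩ := (Nat.dvd_prime_pow hp.out).1
    (hk ▸ (CfsgLib.BrauerCharacters.charDegree_spec χ).2.2)
  rcases Nat.eq_zero_or_pos j with e | e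
  · rw [SmallDegrees.charDegree_one, hj, e, pow_zero, Nat.cast_one]
  · exact absurd (hj ▸ dvd_pow_self p e.ne') (h χ)

theorem sylow_normal [hp : Fact p.Prime] :
    ∀ (c : ℕ) (G : Type u) [Group G] [Finite G], Nat.card G = c → Group.IsSolvable G → NoDvd p G →
      ∀ P : Sylow p G, (P : Subgroup G).Normal := by
  intro c
  induction c using Nat.strong_induction_on with
  | _ c ih =>
    intro G _ _ hc hsol hdeg P
    classical
    haveI := Fintype.ofFinite G
    haveI := hsol
    by_cases hG1 : (⊤ : Subgroup G) = ⊥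
    · rw [show (P : Subgroup G) = ⊥ from le_bot_iff.1 (hG1 ▸ le_top)]
      infer_instance
    obtain ⟨N, -, hN, hN1, hmin⟩ :=
      CfsgLib.SolvableStructure.exists_minimal_normal (N := (⊤ : Subgroup G)) inferInstance hG1
    haveI := hN
    obtain ⟨q, d, hq, -, hcardN, -, -⟩ := CfsgLib.SolvableStructure.minimal_normal_prime hN1 hmin
    have hlt : Nat.card (G ⧸ N) < c := by
      rw [← hc, Subgroup.card_eq_card_quotient_mul_card_subgroup N]
      exact lt_mul_of_one_lt_right Nat.card_pos
        (Finite.one_lt_card_iff_nontrivial.2 ((Subgroup.nontrivial_iff_ne_bot N).2 hN1))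
    have hbar := ih _ hlt (G ⧸ N) rfl inferInstance (hdeg.quotient N)
      (P.mapSurjective (f := QuotientGroup.mk' N) (QuotientGroup.mk'_surjective N))
    have hnorm : ((P : Subgroup G) ⊔ N).Normal := by
      have h2 : (P : Subgroup G) ⊔ N =
          ((P : Subgroup G).map (QuotientGroup.mk' N)).comap (QuotientGroup.mk' N) := by
        rw [Subgroup.comap_map_eq, QuotientGroup.ker_mk']
      rw [h2]
      exact Subgroup.Normal.comap hbar _
    haveI := hnorm
    by_cases hqp : q = p
    · have hNP : N ≤ (P : Subgroup G) := by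
        obtain ⟨P', hP'⟩ := (IsPGroup.of_card (n := d) (hqp ▸ hcardN) : IsPGroup p N).exists_le_sylow
        obtain ⟨g, hg⟩ := MulAction.exists_smul_eq G P' P
        rw [← hg]
        intro r hr
        refine ⟨g⁻¹ * r * g, hP' (by simpa using hN.conj_mem r hr g⁻¹), ?_⟩
        show g * (g⁻¹ * r * g) * g⁻¹ = r
        group
      rwa [sup_eq_left.2 hNP] at hnorm
    have hNp : ¬ p ∣ Nat.card N := by
      rw [hcardN]
      exact fun h => hqp ((Nat.prime_dvd_prime_iff_eq hp.out hq).1 (hp.out.dvd_of_dvd_pow h)).symm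
    by_cases hPN : (P : Subgroup G) ⊔ N = ⊤
    · have hcen := centralizes hdeg N hNp P hPN
      rw [← Subgroup.normalizer_eq_top_iff, eq_top_iff, ← hPN, sup_le_iff]
      refine ⟨Subgroup.le_normalizer, fun n hn => ?_⟩
      rw [Subgroup.mem_normalizer_iff]
      intro g
      constructor
      · intro hg
        rwa [← hcen n hn g hg, mul_inv_cancel_right]
      · intro hg
        have h1 := hcen n hn _ hg
        rw [inv_mul_cancel_right] at h1
        have h2 : n * g * n⁻¹ = g := (mul_left_cancel h1).symm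
        rwa [h2] at hg
    have hlt' : Nat.card ((P : Subgroup G) ⊔ N : Subgroup G) < c :=
      hc ▸ lt_of_le_of_ne (Subgroup.card_le_card_group _) fun e => hPN ((Subgroup.card_eq_iff_eq_top _).mp e)
    have hPn := ih _ hlt' _ rfl inferInstance (hdeg.normalSubgroup _) (P.subtype le_sup_left)
    haveI : ((P.subtype (le_sup_left : (P : Subgroup G) ≤ (P : Subgroup G) ⊔ N)) :
        Subgroup ((P : Subgroup G) ⊔ N : Subgroup G)).Characteristic :=
      Sylow.characteristic_of_normal _ hPn
    have h3 : ((P.subtype (le_sup_left : (P : Subgroup G) ≤ (P : Subgroup G) ⊔ N)) :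
        Subgroup ((P : Subgroup G) ⊔ N : Subgroup G)).map ((P : Subgroup G) ⊔ N).subtype =
        (P : Subgroup G) := by
      rw [Sylow.coe_subtype, Subgroup.map_subgroupOf_eq_of_le le_sup_left]
    rw [← h3]
    infer_instance

end CfsgLib.CharDegreesTheory.ItoSolvable
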