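import Cfsg.Agent.Lib.BlockLocal.BlockCover
import Cfsg.Agent.Lib.BrauerPairs.CoverBridge
import Cfsg.Agent.Lib.BrauerPairs.BridgeDefect
import Cfsg.Agent.Lib.BrauerPairs.PIndex
import Cfsg.Agent.Lib.CharDegreesTheory.CoveredDefect
import Cfsg.Agent.Lib.Correspondences.Codegree
import Cfsg.Agent.Lib.Blocks.Defect

/-!
# Blocks over an invariant character of a normal `p'`-subgroup
-/

set_option autoImplicit false
set_option linter.style.haveILetI false
set_option linter.unusedSectionVars false

open scoped ComplexConjugate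

namespace CfsgLib.CharDegreesTheory

open Cfsg MonoidAlgebra CfsgLib.BrauerPairs

variable {G : Type*} [Group G] [Fintype G] {p : ℕ} [hp : Fact p.Prime] {M : Ideal AlgInt}
  [hMp : M.IsPrime]

theorem blockCoeff_singleton {N : Type*} [Group N] [Finite N] (θ : IrrCharacter N) (n : N) :
    blockCoeff {θ} n = (Nat.card N : ℂ)⁻¹ * ((θ : N → ℂ) 1 * conj ((θ : N → ℂ) n)) := by
  classical
  have := Fintype.ofFinite (IrrCharacter N)
  rw [Blocks.blockCoeff_eq_sum, Finset.sum_eq_single θ]
  · simp
  · intro η _ hη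
    simp [hη]
  · simp

/-- In a `p'`-group every block has a single member. -/
theorem isPBlock_singleton {N : Type*} [Group N] [Fintype N] (hM : IsPModular p M)
    (hN : ¬ p ∣ Nat.card N) (θ : IrrCharacter N) : IsPBlock M ({θ} : Set (IrrCharacter N)) := by
  classical
  refine ⟨θ, Set.eq_singleton_iff_unique_mem.2 ⟨Blocks.mem_blockOf_self θ, fun η h => ?_⟩ |>.symm⟩
  by_contra hne
  set a : N → ℂ := fun n => (Nat.card N : ℂ)⁻¹ * conj ((θ : N → ℂ) n) with ha
  have haC : IsClassFunction N a := fun x c => by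
    simp only [a, CharTheory.IsIrrCharacter.isClassFunction θ.2 x c]
  have haS : ∀ n, MemLocalRing M (a n) := fun n => by
    refine Blocks.memLocalRing_mul (Blocks.memLocalRing_inv_natCast hM hN) ?_
    rw [← CharTheory.IsIrrCharacter.inv θ.2]
    exact Blocks.memLocalRing_irr θ _
  have h' := BlockLocal.memLocalIdeal_sum_sub_of_sameBlock
    (CharTheory.IsIrrCharacter.isClassFunction θ.2)
    (CharTheory.IsIrrCharacter.isClassFunction η.2) h haC haS
  have hsum : ∀ ξ : IrrCharacter N,
      ∑ n, a n * (ξ : N → ℂ) n = classInner (ξ : N → ℂ) (θ : N → ℂ) := fun ξ => by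
    rw [classInner, Finset.mul_sum]
    exact Finset.sum_congr rfl fun n _ => by simp only [a]; ring
  rw [hsum, hsum, CharTheory.classInner_irrCharacter, CharTheory.classInner_irrCharacter,
    if_pos rfl, if_neg hne, zero_div, sub_zero] at h'
  obtain ⟨d, hd0, hd⟩ := CharTheory.exists_degree_of_isIrr θ.2
  have := Blocks.memLocalIdeal_mul_left
    (Blocks.memLocalRing_irr (M := M) θ 1) h'
  rw [mul_one_div, div_self (CharTheory.apply_one_ne_zero_of_isIrr θ.2)] at this
  exact Blocks.not_memLocalIdeal_one this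

variable (N : Subgroup G) [hN : N.Normal] [Fintype N]

/-- The idempotent of an invariant character of a normal subgroup is fixed by the group. -/
theorem subIdem_singleton_fixed (θ : IrrCharacter N)
    (hinv : ∀ (g : G) (n : N),
      (θ : N → ℂ) ⟨g * n * g⁻¹, hN.conj_mem n n.2 g⟩ = (θ : N → ℂ) n) :
    subIdem M N {θ} ∈ fixedBy (Blocks.Res M) (⊤ : Subgroup G) := by
  rw [mem_fixedBy_coeff]
  intro g _ x
  rw [coeff_redElem, coeff_redElem]
  congr 1
  unfold subgroupBlockCoeff
  by_cases hx : x ∈ N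
  · rw [dif_pos (hN.conj_mem x hx g), dif_pos hx, blockCoeff_singleton, blockCoeff_singleton,
      hinv g ⟨x, hx⟩]
  · rw [dif_neg hx, dif_neg]
    intro h
    exact hx (by simpa [mul_assoc] using hN.conj_mem _ h g⁻¹)

/-- The Brauer map at a `p`-group fixing `θ` does not kill its idempotent. -/
theorem brau_subIdem_singleton_ne_zero (hM : IsPModular p M) (hNp : ¬ p ∣ Nat.card N)
    (θ : IrrCharacter N) {R : Subgroup G} (hR : IsPGroup p R)
    (hinv : ∀ (g : G), g ∈ R → ∀ n : N,
      (θ : N → ℂ) ⟨g * n * g⁻¹, hN.conj_mem n n.2 g⟩ = (θ : N → ℂ) n) :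
    brau R (subIdem M N {θ}) ≠ 0 := by
  classical
  have := Blocks.charP_res hM
  intro h0
  have hlocN : ∀ n : N, MemLocalRing M ((θ : N → ℂ) n * conj ((θ : N → ℂ) n)) := fun n => by
    rw [← CharTheory.IsIrrCharacter.inv θ.2]
    exact Blocks.memLocalRing_mul (Blocks.memLocalRing_irr θ _) (Blocks.memLocalRing_irr θ _)
  have hdeg : ¬ MemLocalIdeal M ((θ : N → ℂ) 1) := by
    rw [← Blocks.charDegree_cast, Blocks.memLocalIdeal_natCast_iff hM]
    exact fun h => hNp (h.trans (Correspondences.charDegree_dvd_card θ.2))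
  set F : G → Blocks.Res M := fun g =>
    if hg : g ∈ N then
      Blocks.red M ⟨(θ : N → ℂ) ⟨g, hg⟩ * conj ((θ : N → ℂ) ⟨g, hg⟩), hlocN ⟨g, hg⟩⟩
    else 0 with hF
  have hFinv : ∀ q ∈ R, ∀ x, F (q * x * q⁻¹) = F x := by
    intro q hq x
    simp only [F]
    by_cases hx : x ∈ N
    · rw [dif_pos (hN.conj_mem x hx q), dif_pos hx]
      congr 1
      exact Subtype.ext (by simp only [hinv q hq ⟨x, hx⟩])
    · rw [dif_neg hx, dif_neg]
      intro h
      exact hx (by simpa [mul_assoc] using hN.conj_mem _ h q⁻¹)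
  have h1 : ∑ x, F x = (Nat.card N : Blocks.Res M) := by
    have hsub : ∑ x, F x = ∑ n : N, F n := by
      rw [← Finset.sum_filter_of_ne (p := fun x => x ∈ N) (fun x _ h => by_contra fun hx => h (by
        simp only [F]; rw [dif_neg hx]))]
      exact Finset.sum_subtype _ (fun x => by simp) _
    rw [hsub]
    simp only [F, SetLike.coe_mem, dite_true, Subtype.coe_eta]
    rw [← map_sum, ← map_natCast (Blocks.red M)]
    congr 1
    apply Subtype.ext
    have h2 := CharTheory.classInner_self_of_isIrr θ.2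
    rw [classInner, inv_mul_eq_one₀ (by exact_mod_cast Nat.card_pos.ne')] at h2
    push_cast
    exact h2.symm
  have h2 : ∀ x ∈ Subgroup.centralizer (R : Set G), F x = 0 := by
    intro x hx
    simp only [F]
    split_ifs with hxN
    · rw [Blocks.red_eq_zero_iff]
      have hc : (brau R (subIdem M N {θ})).coeff x = 0 := by rw [h0]; simp
      rw [coeff_trunc_of_mem hx, coeff_redElem, subgroupBlockCoeff, dif_pos hxN,
        blockCoeff_singleton] at hc
      have hloc : MemLocalRing M ((θ : N → ℂ) 1 * conj ((θ : N → ℂ) ⟨x, hxN⟩)) := by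
        rw [← CharTheory.IsIrrCharacter.inv θ.2]
        exact Blocks.memLocalRing_mul (Blocks.memLocalRing_irr θ _) (Blocks.memLocalRing_irr θ _)
      rw [redC_eq_zero_iff (Blocks.memLocalRing_mul
        (Blocks.memLocalRing_inv_natCast hM hNp) hloc)] at hc
      have hc' := Blocks.memLocalIdeal_mul_left
        (Blocks.memLocalRing_natCast (M := M) (Nat.card N)) hc
      rw [mul_inv_cancel_left₀ (by exact_mod_cast Nat.card_pos.ne')] at hc'
      have hconj : MemLocalRing M (conj ((θ : N → ℂ) ⟨x, hxN⟩)) := by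
        rw [← CharTheory.IsIrrCharacter.inv θ.2]
        exact Blocks.memLocalRing_irr θ _
      rcases (Blocks.memLocalIdeal_mul_iff (Blocks.memLocalRing_irr θ 1) hconj).1 hc' with h | h
      · exact absurd h hdeg
      · exact Blocks.memLocalIdeal_mul_left (Blocks.memLocalRing_irr θ _) h
    · rfl
  rw [Blocks.sum_eq_sum_centralizer (p := p)
    (fun a => by rw [nsmul_eq_mul, CharP.cast_eq_zero (Blocks.Res M) p, zero_mul]) R hR F hFinv,
    Finset.sum_eq_zero (fun x hx => h2 x (Finset.mem_filter.1 hx).2)] at h1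
  exact hNp ((CharP.cast_eq_zero_iff (Blocks.Res M) p _).1 h1.symm)

/-- Over an invariant character of a normal `p'`-subgroup `N`, a normal subgroup `K` with
`K / N` a `p`-group containing the centraliser of its Sylow `p`-subgroup forces one block, of
full defect. -/
theorem isBlockIdem_subIdem_singleton (hM : IsPModular p M) (hNp : ¬ p ∣ Nat.card N)
    (θ : IrrCharacter N)
    (hinv : ∀ (g : G) (n : N),
      (θ : N → ℂ) ⟨g * n * g⁻¹, hN.conj_mem n n.2 g⟩ = (θ : N → ℂ) n)
    {K : Subgroup G} [K.Normal] (hNK : N ≤ K) (hreg : ∀ x ∈ K, ¬ p ∣ orderOf x → x ∈ N)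
    {P : Subgroup G} (hP : IsPGroup p P) (hPK : P ≤ K)
    (hPmax : ∀ Q : Subgroup G, Q ≤ K → IsPGroup p Q → Nat.card Q ≤ Nat.card P)
    (hCP : Subgroup.centralizer (P : Set G) ≤ K) :
    IsBlockIdem (⊤ : Subgroup G) (subIdem M N {θ}) := by
  classical
  have := Blocks.charP_res hM
  have := Fintype.ofFinite K
  set E := subIdem M N {θ} with hE
  have hbθ := isPBlock_singleton hM hNp θ
  have hEN : IsBlockIdem N E := isBlockIdem_subIdem hbθ
  have hEfix : E ∈ fixedBy (Blocks.Res M) (⊤ : Subgroup G) := subIdem_singleton_fixed N θ hinv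
  have hEK : IsBlockIdem K E :=
    isBlockIdem_of_regular hM hNK hreg hEN (fixedBy_anti le_top hEfix)
  have hbE : brau P E ≠ 0 :=
    brau_subIdem_singleton_ne_zero N hM hNp θ hP fun g _ => hinv g
  obtain ⟨bK, hbK, hbKE⟩ := exists_isPBlock_subIdem hEK
  obtain ⟨D, hD⟩ := exists_isDefectGroup hM hbK
  have hD' := (isDefectGroup_sub_iff hM hbK).1 hD
  rw [hbKE] at hD'
  obtain ⟨c, hc, hcP⟩ := hD'.exists_conj_le hP hPK hbE
  have hPdef : IsDefectIn p K K E P := by
    have hcj : cj c⁻¹ P ≤ D.map K.subtype := by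
      intro u hu
      rw [mem_cj, inv_inv] at hu
      simpa [mul_assoc] using hcP _ hu
    have hcard : Nat.card (D.map K.subtype) ≤ Nat.card (cj c⁻¹ P) := by
      rw [Nat.card_congr (Subgroup.equivMapOfInjective P _
        (MulAut.conj c⁻¹).injective).toEquiv.symm]
      exact hPmax _ hD'.1 hD'.2.1
    have heq : D.map K.subtype = cj c⁻¹ P := (Subgroup.eq_of_le_of_card_ge hcj hcard).symm
    have h := hD'.conj_cj c
    rwa [heq, cj_of_mem hc, ← cj_mul, mul_inv_cancel, cj_one,
      fixedBy_anti le_top hEfix c hc] at h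
  have hPsub : IsDefectGroup p M bK (P.subgroupOf K) := by
    rw [isDefectGroup_sub_iff hM hbK, Subgroup.map_subgroupOf_eq_of_le hPK, hbKE]
    exact hPdef
  have hEE : E * E = E := hEN.mul_self
  have hEG : E ∈ ctr (Blocks.Res M) (⊤ : Subgroup G) :=
    mem_ctr.2 ⟨fun g hg => absurd (Subgroup.mem_top g) hg, hEfix⟩
  have hEP : E ∈ fixedBy (Blocks.Res M) P := fixedBy_anti le_top hEfix
  have key : ∀ f, IsBlockIdem (⊤ : Subgroup G) f → f * E = f → brau P f = brau P E := by
    intro f hf hfE
    obtain ⟨B, hB, hBf⟩ := exists_isPBlock_of_isBlockIdem hf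
    have hcov : ∃ χ ∈ B, ∃ ψ ∈ bK,
        classInner (fun n : K => (χ : G → ℂ) n) (ψ : K → ℂ) ≠ 0 := by
      rw [covers_iff K hB hbK, hBf, hbKE, hfE]
      exact hf.ne_zero
    obtain ⟨D', hD', hDK⟩ := exists_defectGroup_inf hM K hbK hPK hPsub hB hcov
    have hD'' := (isDefectGroup_iff hM hB).1 hD'
    rw [hBf] at hD''
    have hbf : brau P f ≠ 0 := fun h => hD''.2.2.1 (by
      rw [← brau_brau_of_le (show P ≤ D' from hDK ▸ inf_le_left), h, map_zero])
    have hfs : f ∈ supp (Blocks.Res M) (⊤ : Subgroup G) := (mem_ctr.1 hf.mem).1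
    have hfP : f ∈ fixedBy (Blocks.Res M) P := hf.fixed_of_le le_top
    set fN := trunc N f with hfN
    have hNn : (⊤ : Subgroup G) ≤ Subgroup.normalizer (N : Set G) := by
      rw [Subgroup.normalizer_eq_top]
    have hfNfix : fN ∈ fixedBy (Blocks.Res M) (⊤ : Subgroup G) :=
      trunc_mem_fixedBy hNn (mem_ctr.1 hf.mem).2
    have hbrN : brau P fN = brau P f := by
      ext g
      by_cases hg : g ∈ Subgroup.centralizer (P : Set G)
      · rw [coeff_trunc_of_mem hg, coeff_trunc_of_mem hg]
        by_cases hgN : g ∈ N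
        · rw [coeff_trunc_of_mem hgN]
        · rw [coeff_trunc_of_not_mem hgN, ← hBf, coeff_redElem,
            Blocks.blockCoeff_eq_zero_of_dvd_orderOf hM hB
              (by_contra fun hr => hgN (hreg g (hCP hg) hr)), redC_zero]
      · rw [coeff_trunc_of_not_mem hg, coeff_trunc_of_not_mem hg]
    obtain ⟨c, hnil⟩ : ∃ c : Blocks.Res M, IsNilpotent (fN * E - c • E) := by
      set b₀ := redElem M (blockCoeff ({θ} : Set (IrrCharacter N))) with hb₀
      have hbE0 : mapG N.subtype b₀ = E := (redElem_subgroupBlockCoeff N {θ}).symm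
      obtain ⟨y, -, hy⟩ := exists_mapG_eq_of_mem_supp N.subtype_injective
        (L := (⊤ : Subgroup N)) (y := fN)
        (by rw [← MonoidHom.range_eq_map, Subgroup.range_subtype]; exact trunc_mem_supp N f)
      have hyfix : y ∈ fixedBy (Blocks.Res M) (⊤ : Subgroup N) := by
        rw [← mapG_mem_fixedBy_iff N.subtype_injective, hy]
        exact fixedBy_anti le_top hfNfix
      set y' : Blocks.classAlg (Blocks.Res M) N :=
        ⟨y, mem_classAlg_iff_ctr.2 (mem_ctr.2 ⟨fun g hg => absurd (Subgroup.mem_top g) hg,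
          hyfix⟩)⟩
      set c := Blocks.omegaRes M θ y'
      refine ⟨c, ?_⟩
      have h0 : Blocks.omegaRes M θ (y' - algebraMap _ _ c) = 0 := by
        rw [map_sub, Blocks.omegaRes_algebraMap, sub_self]
      obtain ⟨n, hn⟩ := (omegaRes_eq_zero_iff_nilpotent hbθ rfl _).1 h0
      refine ⟨n, ?_⟩
      have h1 := congrArg (mapG N.subtype) hn
      rw [map_pow, map_zero, map_mul] at h1
      rw [← h1, Subalgebra.coe_sub, Subalgebra.coe_algebraMap, map_sub, AlgHom.commutes,
        show (y' : MonoidAlgebra (Blocks.Res M) N) = y from rfl, hy, hbE0, sub_mul,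
        ← Algebra.smul_def]
    have hfNP : fN ∈ fixedBy (Blocks.Res M) P := fixedBy_anti le_top hfNfix
    set a := brau P f with ha
    set b := brau P E with hb
    have hab : a * b = a := by rw [ha, hb, ← trunc_centralizer_mul hP hfP hEP, hfE]
    have haa : a * a = a := brau_idem hP hfP hf.mul_self
    have hbb : b * b = b := brau_idem hP hEP hEE
    have hfEP : fN * E ∈ fixedBy (Blocks.Res M) P := mul_mem hfNP hEP
    have hb1 : brau P (fN * E - c • E) = a - c • b := by
      rw [map_sub, map_smul, trunc_centralizer_mul hP hfNP hEP, hbrN, hab]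
    have hnil' : IsNilpotent (a - c • b) := by
      obtain ⟨n, hn⟩ := hnil
      refine ⟨n + 1, ?_⟩
      have hx : ∀ m, brau P ((fN * E - c • E) ^ (m + 1)) = (a - c • b) ^ (m + 1) := by
        intro m
        induction m with
        | zero => rw [pow_one, pow_one, hb1]
        | succ m ih =>
          rw [pow_succ, trunc_centralizer_mul hP
            (pow_mem (sub_mem hfEP ((fixedBy (Blocks.Res M) P).smul_mem hEP c)) _)
            (sub_mem hfEP ((fixedBy (Blocks.Res M) P).smul_mem hEP c)), ih, hb1, ← pow_succ]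
      rw [← hx, pow_succ, hn, zero_mul, map_zero]
    have hba : b * a = a := by
      rw [hb, ha, ← trunc_centralizer_mul hP hEP hfP, (ctr_commute hEG hf.mem).eq, hfE]
    obtain ⟨n, hn⟩ := hnil'
    have hl : ∀ m : ℕ, a * (a - c • b) ^ m = (1 - c) ^ m • a := by
      intro m
      induction m with
      | zero => simp
      | succ m ih =>
        rw [pow_succ, ← mul_assoc, ih, smul_mul_assoc, mul_sub, haa, mul_smul_comm, hab]
        rw [show a - c • a = (1 - c) • a by rw [sub_smul, one_smul], smul_smul, ← pow_succ]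
    have hc1 : c = 1 := by
      by_contra hc
      have := hl n
      rw [hn, mul_zero] at this
      rcases smul_eq_zero.1 this.symm with h | h
      · exact hc (sub_eq_zero.1 (pow_eq_zero_iff'.1 h).1).symm
      · exact hbf h
    rw [hc1, one_smul] at hn
    have hd : (b - a) * (b - a) = b - a := by
      rw [sub_mul, mul_sub, mul_sub, hbb, hab, hba, haa, sub_self, sub_zero]
    have hdn : ∀ m : ℕ, (a - b) ^ (m + 1) = (-1 : Blocks.Res M) ^ (m + 1) • (b - a) := by
      intro m
      induction m with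
      | zero => rw [zero_add, pow_one, pow_one, neg_one_smul, neg_sub]
      | succ m ih =>
        rw [pow_succ, ih, smul_mul_assoc, show (b - a) * (a - b) = -((b - a) * (b - a)) by
          rw [← mul_neg, neg_sub], hd, smul_neg, pow_succ (-1 : Blocks.Res M) (m + 1),
          mul_neg_one, neg_smul]
    have h3 := hdn n
    rw [pow_succ, hn, zero_mul] at h3
    rcases smul_eq_zero.1 h3.symm with h | h
    · exact absurd h (pow_ne_zero _ (neg_ne_zero.2 one_ne_zero))
    · exact (sub_eq_zero.1 h).symm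
  have hone : ∀ f f', IsBlockIdem (⊤ : Subgroup G) f → IsBlockIdem (⊤ : Subgroup G) f' →
      f * E = f → f' * E = f' → f = f' := by
    intro f f' hf hf' h h'
    by_contra hne
    apply hbE
    have := trunc_centralizer_mul hP (hf.fixed_of_le le_top) (hf'.fixed_of_le le_top)
    rw [hf.mul_eq_zero_of_ne hf' hne, map_zero, key f hf h, key f' hf' h',
      brau_idem hP hEP hEE] at this
    exact this.symm
  obtain ⟨f, hf, hfE⟩ : ∃ f, IsBlockIdem (⊤ : Subgroup G) f ∧ f * E = f := by
    by_contra hcon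
    push Not at hcon
    apply hEN.ne_zero
    rw [← one_mul E, ← sum_blockIdems (k := Blocks.Res M) (⊤ : Subgroup G), Finset.sum_mul]
    refine Finset.sum_eq_zero fun f hf => ?_
    have hfb := mem_blockIdems.1 hf
    rcases hfb.2.2.2 E hEG hEE with h | h
    · exact h
    · exact absurd h (hcon f hfb)
  suffices E = f by rwa [this]
  conv_lhs => rw [← one_mul E, ← sum_blockIdems (k := Blocks.Res M) (⊤ : Subgroup G)]
  rw [Finset.sum_mul, Finset.sum_eq_single f]
  · exact hfE
  · intro g hg hgf
    have hgb := mem_blockIdems.1 hg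
    rcases hgb.2.2.2 E hEG hEE with h | h
    · exact h
    · exact absurd (hone g f hgb hf h hfE) hgf
  · exact fun h => absurd (mem_blockIdems.2 hf) h

end CfsgLib.CharDegreesTheory
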