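import Cfsg.Agent.Lib.CharDegreesTheory.ItoSolvable
import Cfsg.Agent.Lib.CharTheory.Burnside
import Cfsg.Agent.Lib.SmallGroups.Basic
import Cfsg.Agent.Lib.BlockSections.Exceptional
import Cfsg.Agent.Lib.Coherence.RationalValue
import Cfsg.Agent.Lib.Clifford.SignCharacter
import Cfsg.Agent.Lib.ZerosCodegree.CentralSubgroup

/-!
# Groups all of whose nonlinear irreducible degrees are prime
-/

set_option autoImplicit false
set_option linter.style.haveILetI false
set_option linter.unusedSectionVars false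

namespace CfsgLib.CharDegreesTheory.PrimeDegrees

open Cfsg CfsgLib.CharTheory CfsgLib.Clifford CfsgLib.CharDegreesTheory.SmallDegrees Finset
open scoped ComplexConjugate

universe u

/-- Every degree is one or a prime. -/
def PDeg (G : Type u) [Group G] : Prop :=
  ∀ χ : IrrCharacter G, charDegree (χ : G → ℂ) = 1 ∨ (charDegree (χ : G → ℂ)).Prime

variable {G : Type u} [Group G] [Finite G]

theorem PDeg.quotient (h : PDeg G) (K : Subgroup G) [K.Normal] : PDeg (G ⧸ K) := by
  intro θ
  exact h ⟨_, isIrrCharacter_comp θ.2 (QuotientGroup.mk'_surjective K)⟩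

theorem PDeg.normalSubgroup (h : PDeg G) (N : Subgroup G) [N.Normal] : PDeg N := by
  haveI := Fintype.ofFinite N
  intro θ
  obtain ⟨χ, hχ⟩ := exists_over N θ
  have hd := ItoSolvable.dvd_of_constituent N θ χ hχ
  rcases h χ with e | e
  · exact Or.inl (Nat.dvd_one.1 (e ▸ hd))
  · rcases (Nat.dvd_prime e).1 hd with e' | e'
    · exact Or.inl e'
    · exact Or.inr (e' ▸ e)

section simple

variable [IsSimpleGroup G]

/-- A value of maximal modulus occurs only at the identity. -/
theorem norm_ne (hnc : ¬ IsMulCommutative G) {χ : IrrCharacter G} (hχ : χ ≠ trivIrr G) {g : G}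
    (hg : g ≠ 1) : ‖(χ : G → ℂ) g‖ ≠ (charDegree (χ : G → ℂ) : ℝ) := by
  intro hn
  obtain ⟨n, ρ, hρ, hρχ⟩ := id χ.2
  have hd : Module.finrank ℂ (Fin n → ℂ) = charDegree (χ : G → ℂ) := by
    have h := congrFun hρχ 1
    rw [Representation.char_one, charDegree_one] at h
    exact_mod_cast h
  rw [← hd, ← hρχ] at hn
  obtain ⟨ω, hω⟩ := (norm_character_eq_iff ρ g).1 hn
  have hcen : g ∈ Subgroup.center G := by
    refine Subgroup.mem_center_iff.2 fun y => ?_
    have he : ρ (y * g) = ρ (g * y) := by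
      rw [map_mul, map_mul, hω, mul_smul_comm, smul_mul_assoc]; rfl
    refine mul_inv_eq_one.1 (faithful hχ ?_)
    rw [← hρχ]
    show LinearMap.trace ℂ _ (ρ (y * g * (g * y)⁻¹)) = LinearMap.trace ℂ _ (ρ 1)
    rw [map_mul, he, ← map_mul, mul_inv_cancel]
  rcases (inferInstance : (Subgroup.center G).Normal).eq_bot_or_eq_top with e | e
  · rw [e, Subgroup.mem_bot] at hcen
    exact hg hcen
  · exact hnc ⟨⟨fun a b => (Subgroup.mem_center_iff.1 (e ▸ Subgroup.mem_top a : a ∈ Subgroup.center G) b).symm⟩⟩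

/-- A character of prime degree vanishes on the centre of a Sylow subgroup for that prime. -/
theorem vanish_center (hnc : ¬ IsMulCommutative G) {p : ℕ} [hp : Fact p.Prime] {χ : IrrCharacter G}
    (hdeg : charDegree (χ : G → ℂ) = p) (P : Sylow p G) {z : G} (hz : z ≠ 1)
    (hP : (P : Subgroup G) ≤ Subgroup.centralizer ({z} : Set G)) : (χ : G → ℂ) z = 0 := by
  have hχ : χ ≠ trivIrr G := by
    rintro rfl
    have h := charDegree_one (trivIrr G)
    rw [hdeg, trivIrr_apply] at h
    exact hp.out.one_lt.ne (by exact_mod_cast h)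
  obtain ⟨n, ρ, hρ, hρχ⟩ := id χ.2
  haveI := hρ
  have hd : Module.finrank ℂ (Fin n → ℂ) = p := by
    have h := congrFun hρχ 1
    rw [Representation.char_one, charDegree_one, hdeg] at h
    exact_mod_cast h
  have hcop : Nat.Coprime (Module.finrank ℂ (Fin n → ℂ))
      (Subgroup.centralizer ({z} : Set G)).index := by
    rw [hd]
    exact hp.out.coprime_iff_not_dvd.2 fun h =>
      P.not_dvd_index (h.trans (Subgroup.index_dvd_of_le hP))
  rcases character_eq_zero_or_norm_of_coprime ρ z hcop with h | h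
  · rwa [← hρχ]
  · refine absurd ?_ (norm_ne hnc hχ hz)
    rw [hdeg, ← hρχ, h, hd]

/-- A character vanishing off the identity of a subgroup has degree divisible by its order. -/
theorem card_dvd_degree (H : Subgroup G) (χ : IrrCharacter G)
    (h : ∀ y ∈ H, y ≠ 1 → (χ : G → ℂ) y = 0) : Nat.card H ∣ charDegree (χ : G → ℂ) := by
  classical
  haveI := Fintype.ofFinite H
  obtain ⟨k, hk⟩ := IsCharacter.exists_classInner_eq_nat
    (CfsgLib.Coherence.isCharacter_comp (IsIrrCharacter.isCharacter χ.2) H.subtype) (trivIrr H)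
  rw [classInner, inv_mul_eq_iff_eq_mul₀ (Nat.cast_ne_zero.2 Nat.card_pos.ne'),
    Finset.sum_eq_single (1 : H) (fun y _ hy => by
      show (χ : G → ℂ) y * _ = 0
      rw [h y y.2 fun e => hy (Subtype.ext e), zero_mul]) (fun e => absurd (Finset.mem_univ _) e)] at hk
  refine ⟨k, ?_⟩
  rw [show ((H.subtype (1 : H)) : G) = 1 from rfl, trivIrr_apply, map_one, mul_one,
    charDegree_one] at hk
  exact_mod_cast hk

/-- The Sylow subgroup for a prime degree has prime order. -/
theorem card_sylow (hnc : ¬ IsMulCommutative G) {p : ℕ} [hp : Fact p.Prime] {χ : IrrCharacter G}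
    (hdeg : charDegree (χ : G → ℂ) = p) (P : Sylow p G) : Nat.card (P : Subgroup G) = p := by
  classical
  haveI := Fintype.ofFinite G
  haveI := Fintype.ofFinite (P : Subgroup G)
  haveI := Fintype.ofFinite (IrrCharacter (P : Subgroup G))
  have hχ : χ ≠ trivIrr G := by
    rintro rfl
    have h := charDegree_one (trivIrr G)
    rw [hdeg, trivIrr_apply] at h
    exact hp.out.one_lt.ne (by exact_mod_cast h)
  have hne : (P : Subgroup G) ≠ ⊥ :=
    P.ne_bot_of_dvd_card (hdeg ▸ (CfsgLib.BrauerCharacters.charDegree_spec χ).2.2)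
  have hcomm : ∀ a b : (P : Subgroup G), a * b = b * a := by
    intro a b
    by_contra hab
    have hres : IsCharacter (P : Subgroup G) (fun y : (P : Subgroup G) => (χ : G → ℂ) y) :=
      CfsgLib.Coherence.isCharacter_comp (IsIrrCharacter.isCharacter χ.2) (P : Subgroup G).subtype
    have hval := fun y : (P : Subgroup G) =>
      congrFun (eq_sum_classInner (IsCharacter.isClassFunction hres)) y
    simp only [Finset.sum_apply, Pi.smul_apply, smul_eq_mul] at hval
    choose k hk using fun θ : IrrCharacter (P : Subgroup G) =>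
      IsCharacter.exists_classInner_eq_nat hres θ
    simp only [hk] at hval
    by_cases hlin : ∀ θ : IrrCharacter (P : Subgroup G), k θ ≠ 0 → charDegree (θ : ↥(P : Subgroup G) → ℂ) = 1
    · have hc : (χ : G → ℂ) ((a * b * a⁻¹ * b⁻¹ : (P : Subgroup G)) : G) = (χ : G → ℂ) 1 := by
        have h1 := hval 1
        rw [OneMemClass.coe_one] at h1
        rw [hval, h1]
        refine Finset.sum_congr rfl fun θ _ => ?_
        by_cases hθ : k θ = 0
        · simp [hθ]
        · rw [CfsgLib.RealChar.commutator_kernel_of_degree_one θ.2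
            (by rw [charDegree_one, hlin θ hθ, Nat.cast_one]) a b, charDegree_one, hlin θ hθ,
            Nat.cast_one]
      have := faithful hχ hc
      rw [OneMemClass.coe_eq_one, mul_inv_eq_one, mul_inv_eq_iff_eq_mul] at this
      exact hab this
    · push Not at hlin
      obtain ⟨θ, hθ0, hθ1⟩ := hlin
      haveI : Nontrivial (P : Subgroup G) := (Subgroup.nontrivial_iff_ne_bot _).2 hne
      haveI := P.2.center_nontrivial
      obtain ⟨z, hz⟩ := exists_ne (1 : Subgroup.center (P : Subgroup G))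
      have hz1 : ((z : (P : Subgroup G)) : G) ≠ 1 := fun e => hz (Subtype.ext (Subtype.ext e))
      have hvan := vanish_center hnc hdeg P hz1 fun x hx => by
        rw [Subgroup.mem_centralizer_singleton_iff]
        exact congrArg Subtype.val (Subgroup.mem_center_iff.1 z.2 ⟨x, hx⟩)
      -- the restriction is `θ`
      have hdvd : p ≤ charDegree (θ : ↥(P : Subgroup G) → ℂ) := by
        obtain ⟨j, hj⟩ := IsPGroup.iff_card.1 P.2
        obtain ⟨i, -, hi⟩ := (Nat.dvd_prime_pow hp.out).1
          (hj ▸ (CfsgLib.BrauerCharacters.charDegree_spec θ).2.2)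
        rw [hi]
        exact Nat.le_self_pow (fun e => hθ1 (by rw [hi, e, pow_zero])) p
      have hsum : ∑ θ', k θ' * charDegree (θ' : ↥(P : Subgroup G) → ℂ) = p := by
        have h1 := hval 1
        rw [OneMemClass.coe_one, charDegree_one, hdeg] at h1
        simp only [charDegree_one] at h1
        exact_mod_cast h1.symm
      rw [← Finset.add_sum_erase _ _ (Finset.mem_univ θ)] at hsum
      have hle : charDegree (θ : ↥(P : Subgroup G) → ℂ) ≤ k θ * charDegree (θ : ↥(P : Subgroup G) → ℂ) :=
        Nat.le_mul_of_pos_left _ (Nat.pos_of_ne_zero hθ0)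
      have hrest : ∀ θ' ∈ Finset.univ.erase θ, k θ' = 0 := by
        intro θ' h'
        have h0 : ∑ θ'' ∈ Finset.univ.erase θ, k θ'' * charDegree (θ'' : ↥(P : Subgroup G) → ℂ) = 0 := by
          omega
        rcases Nat.mul_eq_zero.1 (Finset.sum_eq_zero_iff.1 h0 θ' h') with e | e
        · exact e
        · exact absurd e (CfsgLib.BrauerCharacters.charDegree_spec θ').2.1.ne'
      have hk1 : k θ = 1 := by
        by_contra hk1
        have : 2 * charDegree (θ : ↥(P : Subgroup G) → ℂ) ≤ k θ * charDegree (θ : ↥(P : Subgroup G) → ℂ) :=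
          Nat.mul_le_mul_right _ (by omega)
        have := hp.out.pos
        omega
      have hθz := hval (z : (P : Subgroup G))
      rw [← Finset.add_sum_erase _ _ (Finset.mem_univ θ), Finset.sum_eq_zero (fun θ' h' => by
        rw [hrest θ' h', Nat.cast_zero, zero_mul]), hk1, Nat.cast_one, one_mul, add_zero, hvan] at hθz
      obtain ⟨ω, hω⟩ := CfsgLib.ZerosCodegree.exists_centralHom θ.2 (N := Subgroup.center (P : Subgroup G)) le_rfl
      have := hω 1 z
      rw [one_mul, ← hθz, eq_comm, mul_eq_zero, charDegree_one, Nat.cast_eq_zero] at this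
      rcases this with e | e
      · exact Units.ne_zero _ e
      · (have := hp.out.pos; omega)
  have hd := card_dvd_degree (P : Subgroup G) χ fun y hy h1 => vanish_center hnc hdeg P h1 fun x hx => by
    rw [Subgroup.mem_centralizer_singleton_iff]
    exact congrArg Subtype.val (hcomm ⟨x, hx⟩ ⟨y, hy⟩)
  rw [hdeg] at hd
  exact ((Nat.dvd_prime hp.out).1 hd).resolve_left fun e => hne (Subgroup.eq_bot_of_card_eq _ e)

/-- No character has degree two. -/
theorem degree_ne_two (hnc : ¬ IsMulCommutative G) (χ : IrrCharacter G) :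
    charDegree (χ : G → ℂ) ≠ 2 := by
  intro hdeg
  haveI : Fact (Nat.Prime 2) := ⟨Nat.prime_two⟩
  obtain ⟨P⟩ := (inferInstance : Nonempty (Sylow 2 G))
  have hP := card_sylow hnc hdeg P
  obtain ⟨m, hm⟩ := hP ▸ (P : Subgroup G).card_subgroup_dvd_card
  have hm2 : ¬ 2 ∣ m := by
    intro h
    refine P.not_dvd_index ?_
    have := (P : Subgroup G).card_mul_index
    rw [hP, hm] at this
    rwa [Nat.eq_of_mul_eq_mul_left two_pos this]
  obtain ⟨c, e, -, -, he1, hed, -⟩ := CfsgLib.SmallGroups.sylow_prime_data hnc hm hm2 P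
  have := Nat.le_of_dvd (by norm_num) hed
  omega

/-- A nontrivial character of degree below `p` constant on the nonidentity elements of a subgroup
of order `p` has degree `p - 1`. -/
theorem degree_of_const {p : ℕ} [hp : Fact p.Prime] (P : Subgroup G) (hP : Nat.card P = p)
    (χ : IrrCharacter G) (hχ : χ ≠ trivIrr G) (hlt : charDegree (χ : G → ℂ) < p) {c : ℂ}
    (hc : ∀ y ∈ P, y ≠ 1 → (χ : G → ℂ) y = c) : charDegree (χ : G → ℂ) + 1 = p := by
  classical
  haveI := Fintype.ofFinite G
  haveI := Fintype.ofFinite P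
  haveI : IsCyclic P := isCyclic_of_prime_card hP
  letI : CommGroup P := IsCyclic.commGroup
  haveI : Nontrivial P := Finite.one_lt_card_iff_nontrivial.1 (hP ▸ hp.out.one_lt)
  set n := charDegree (χ : G → ℂ) with hn
  have hres : IsCharacter P (fun y : P => (χ : G → ℂ) y) :=
    CfsgLib.Coherence.isCharacter_comp (IsIrrCharacter.isCharacter χ.2) P.subtype
  obtain ⟨y₀, hy₀⟩ := exists_ne (1 : P)
  obtain ⟨l, hl⟩ := CommGroup.exists_apply_ne_one_of_hasEnoughRootsOfUnity P ℂ hy₀
  have hl1 : l ≠ 1 := fun e => hl (by rw [e]; rfl)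
  have hsum : ∀ μ : P →* ℂˣ, ∑ y : P, (χ : G → ℂ) y * conj (μ y : ℂ) =
      ((n : ℂ) - c) + c * ∑ y : P, (((μ⁻¹ : P →* ℂˣ) y : ℂˣ) : ℂ) := by
    intro μ
    rw [mul_sum, ← add_sum_erase _ _ (mem_univ (1 : P)),
      ← add_sum_erase (univ : Finset P) (fun y => c * (((μ⁻¹ : P →* ℂˣ) y : ℂˣ) : ℂ)) (mem_univ 1),
      sum_congr rfl (g := fun y : P => c * (((μ⁻¹ : P →* ℂˣ) y : ℂˣ) : ℂ)) (fun y hy => by
        rw [hc y y.2 (fun e => (mem_erase.1 hy).1 (Subtype.ext e)),
          CfsgLib.BlockSections.Exceptional.conj_unit])]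
    simp only [OneMemClass.coe_one, map_one, Units.val_one, charDegree_one, mul_one, ← hn]
    ring
  obtain ⟨k, hk⟩ := IsCharacter.exists_classInner_eq_nat hres (trivIrr P)
  obtain ⟨k', hk'⟩ := IsCharacter.exists_classInner_eq_nat hres
    (⟨_, isIrrCharacter_linear l⟩ : IrrCharacter P)
  rw [classInner, inv_mul_eq_iff_eq_mul₀ (Nat.cast_ne_zero.2 Nat.card_pos.ne'), hP] at hk hk'
  have e1 : (n : ℂ) - c + c * p = p * k := by
    rw [← hk]
    have h1 := hsum 1
    rw [show (1 : P →* ℂˣ)⁻¹ = 1 from MonoidHom.ext fun y => inv_one] at h1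
    simp only [MonoidHom.one_apply, Units.val_one, map_one, mul_one, sum_const, card_univ,
      nsmul_eq_mul, ← Nat.card_eq_fintype_card, hP] at h1
    simp only [trivIrr_apply, map_one, mul_one]
    exact h1.symm
  have e2 : (n : ℂ) - c = p * k' := by
    have h1 := hsum l
    rw [CfsgLib.BlockSections.Exceptional.sum_apply_hom, if_neg (fun e => hl1
      (MonoidHom.ext fun x => inv_eq_one.1 (DFunLike.congr_fun e x))), mul_zero, add_zero] at h1
    rw [← h1, ← hk']
  have hk'0 : k' ≠ 0 := by
    intro e0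
    rw [e0, Nat.cast_zero, mul_zero, sub_eq_zero] at e2
    exact hy₀ (Subtype.ext (faithful hχ ((hc y₀ y₀.2 fun e => hy₀ (Subtype.ext e)).trans
      (e2.symm.trans (charDegree_one χ).symm))))
  have e3 : n + k' = k + p * k' := by
    have h3 : (p : ℂ) * ((n : ℂ) + k') = p * (k + p * k') := by
      linear_combination e1 + (p - 1 : ℂ) * e2
    exact_mod_cast mul_left_cancel₀ (Nat.cast_ne_zero.2 hp.out.ne_zero) h3
  obtain ⟨j, rfl⟩ : ∃ j, k' = j + 1 := ⟨k' - 1, by omega⟩
  rw [mul_add, mul_one] at e3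
  have : j ≤ p * j := Nat.le_mul_of_pos_left _ hp.out.pos
  omega

/-- A non-abelian simple group has a degree that is neither one nor prime. -/
theorem false_simple (hnc : ¬ IsMulCommutative G) (h : PDeg G) : False := by
  classical
  haveI := Fintype.ofFinite G
  haveI := Fintype.ofFinite (IrrCharacter G)
  have hG : ∃ a b : G, a * b ≠ b * a := by
    by_contra hc
    push Not at hc
    exact hnc ⟨⟨hc⟩⟩
  obtain ⟨χp, -, hmax⟩ := Finset.exists_max_image (univ : Finset (IrrCharacter G))
    (fun χ => charDegree (χ : G → ℂ)) ⟨trivIrr G, mem_univ _⟩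
  rcases h χp with e | hp
  · refine hnc ⟨⟨comm_of_linear fun χ => ?_⟩⟩
    have h1 := hmax χ (mem_univ _)
    have h2 := (CfsgLib.BrauerCharacters.charDegree_spec χ).2.1
    rw [charDegree_one, show charDegree (χ : G → ℂ) = 1 by omega, Nat.cast_one]
  set p := charDegree (χp : G → ℂ) with hpdef
  haveI := Fact.mk hp
  have hp2 : p ≠ 2 := degree_ne_two hnc χp
  have hle : ∀ χ : IrrCharacter G, charDegree (χ : G → ℂ) ≤ p := fun χ => hmax χ (mem_univ _)
  obtain ⟨P⟩ := (inferInstance : Nonempty (Sylow p G))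
  have hP : Nat.card (P : Subgroup G) = p := card_sylow hnc hpdef.symm P
  have hgen : ∀ y : G, y ∈ (P : Subgroup G) → y ≠ 1 → Subgroup.zpowers y = (P : Subgroup G) := by
    intro y hy h1
    refine Subgroup.eq_of_le_of_card_ge (Subgroup.zpowers_le.2 hy) ?_
    rw [hP, Nat.card_zpowers]
    rcases (Nat.dvd_prime hp).1 (hP ▸ Subgroup.orderOf_dvd_natCard _ hy) with e | e
    · exact absurd (orderOf_eq_one_iff.1 e) h1
    · rw [e]
  have hPc : ∀ y : G, y ∈ (P : Subgroup G) → y ≠ 1 →
      (P : Subgroup G) ≤ Subgroup.centralizer ({y} : Set G) := by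
    intro y hy h1 x hx
    obtain ⟨i, rfl⟩ := Subgroup.mem_zpowers_iff.1 ((hgen y hy h1).symm ▸ hx)
    rw [Subgroup.mem_centralizer_singleton_iff]
    exact (Commute.refl y).zpow_left i
  -- no nontrivial character of smaller degree is constant on the Sylow subgroup
  have hbad : ∀ χ : IrrCharacter G, χ ≠ trivIrr G → charDegree (χ : G → ℂ) < p → ∀ c : ℂ,
      ¬ ∀ y ∈ (P : Subgroup G), y ≠ 1 → (χ : G → ℂ) y = c := by
    intro χ hne hlt c hc
    have h1 := degree_of_const (P : Subgroup G) hP χ hne hlt hc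
    rcases h χ with e | e
    · exact hne (eq_trivIrr_of_linear hG χ (by rw [charDegree_one, e, Nat.cast_one]))
    · obtain ⟨j, hj⟩ := hp.odd_of_ne_two hp2
      exact degree_ne_two hnc χ ((Nat.prime_dvd_prime_iff_eq Nat.prime_two e).1 ⟨j, by omega⟩).symm
  obtain ⟨n, hn⟩ : p ∣ Nat.card G := hP ▸ (P : Subgroup G).card_subgroup_dvd_card
  have hpn : ¬ p ∣ n := by
    intro hd
    refine P.not_dvd_index ?_
    have := (P : Subgroup G).card_mul_index
    rw [hP, hn] at this
    rwa [Nat.eq_of_mul_eq_mul_left hp.pos this]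
  obtain ⟨c, m, hC, hN, hm1, hmd, -⟩ := CfsgLib.SmallGroups.sylow_prime_data hnc hn hpn P
  have hF : CfsgLib.BlockSections.Exceptional.IsFrobSylow P m := by
    haveI : IsCyclic (P : Subgroup G) := isCyclic_of_prime_card hP
    refine ⟨⟨⟨IsCyclic.commGroup.mul_comm⟩⟩, ?_, fun y hy h1 => ?_⟩
    · have h := Subgroup.card_mul_index ((Subgroup.centralizer ((P : Subgroup G) : Set G)).subgroupOf
        (Subgroup.normalizer ((P : Subgroup G) : Set G)))
      rw [Nat.card_congr (Subgroup.subgroupOfEquivOfLe (Subgroup.centralizer_le_normalizer _)).toEquiv,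
        hC, hN] at h
      have hpc : p * c ≠ 0 := by rw [← hC]; exact Nat.card_pos.ne'
      exact Nat.eq_of_mul_eq_mul_left (Nat.pos_of_ne_zero hpc) h
    · rw [← CfsgLib.BrauerCharacters.centralizer_zpowers_eq, hgen y hy h1, inf_eq_left]
      exact Subgroup.centralizer_le_normalizer _
  haveI : Nontrivial (P : Subgroup G) :=
    Finite.one_lt_card_iff_nontrivial.1 (by rw [hP]; exact hp.one_lt)
  obtain ⟨x₀, hx₀⟩ := exists_ne (1 : (P : Subgroup G))
  have hx₀' : (x₀ : G) ≠ 1 := fun e => hx₀ (Subtype.ext e)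
  rcases (Nat.le_of_dvd (by have := hp.two_le; omega) hmd).lt_or_eq with hmlt | hmeq
  · obtain ⟨M, hM⟩ := CfsgLib.CharDegreesTheory.exists_isPModular hp
    haveI := CfsgLib.Blocks.isPrime_of_isPModular hM
    obtain ⟨D⟩ := CfsgLib.BlockSections.Exceptional.exists_excData hF hM (m := m) hm1 (by omega)
    have hX : D.X = {trivIrr G} := Set.eq_singleton_iff_unique_mem.2 ⟨D.triv, fun χ hχ => by
      by_contra hne
      have hval : ∀ y ∈ (P : Subgroup G), y ≠ 1 → (χ : G → ℂ) y = (D.a χ : ℂ) := fun y hy h1 =>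
        D.val_X χ hχ y y (CfsgLib.BlockSections.Exceptional.isPPart_self hF hM hy) hy h1
      rcases (hle χ).lt_or_eq with hlt | heq
      · exact hbad χ hne hlt _ hval
      · refine D.a_ne χ hχ ?_
        have := hval _ x₀.2 hx₀'
        rw [vanish_center hnc heq P hx₀' (hPc _ x₀.2 hx₀')] at this
        exact_mod_cast this.symm⟩
    obtain ⟨η, hη⟩ : D.Y.Nonempty := Set.nonempty_coe_sort.1 (Nat.card_pos_iff.1
      (by have := D.two_le; omega)).1
    have hr := D.reg η hη 1 (by rw [orderOf_one]; exact hp.not_dvd_one)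
    rw [hX, finsum_mem_singleton, D.a_triv, trivIrr_apply, charDegree_one] at hr
    refine (Set.disjoint_left.1 D.disj D.triv) ((eq_trivIrr_of_linear hG η ?_) ▸ hη)
    have hi : ((Nat.card D.Y : ℤ) * D.d - D.δ) * (charDegree (η : G → ℂ) : ℤ) = -1 := by
      apply Int.cast_injective (α := ℂ)
      push_cast at hr ⊢
      linear_combination hr
    have hu : (charDegree (η : G → ℂ) : ℤ) ∣ 1 := by
      rw [← dvd_neg, ← hi]; exact dvd_mul_left _ _
    have hu1 : charDegree (η : G → ℂ) = 1 :=
      Nat.dvd_one.1 (Int.natCast_dvd_natCast.1 (by simpa using hu))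
    rw [charDegree_one, hu1, Nat.cast_one]
  · -- all nonidentity elements of `P` are conjugate
    haveI := Fintype.ofFinite (P : Subgroup G)
    have hinj : Function.Injective (fun α : CfsgLib.BlockSections.Exceptional.autP P =>
        (⟨(α : MulAut (P : Subgroup G)) x₀, fun e => hx₀ ((α : MulAut (P : Subgroup G)).map_eq_one_iff.1 e)⟩ :
          {y : (P : Subgroup G) // y ≠ 1})) := fun α β e => Subtype.ext
      (CfsgLib.BlockSections.Exceptional.eq_of_autP_apply hF α.2 β.2 hx₀ (congrArg Subtype.val e))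
    have hbij := hinj.bijective_of_nat_card_le (by
      rw [CfsgLib.BlockSections.Exceptional.card_autP hF, Nat.card_eq_fintype_card,
        Fintype.card_subtype_compl, Fintype.card_subtype_eq, ← Nat.card_eq_fintype_card, hP]
      omega)
    have hall : ∀ χ : IrrCharacter G, χ ≠ trivIrr G → charDegree (χ : G → ℂ) = p := by
      intro χ hne
      refine ((hle χ).lt_or_eq).resolve_left fun hlt =>
        hbad χ hne hlt ((χ : G → ℂ) x₀) fun y hy h1 => ?_
      obtain ⟨α, hα⟩ := hbij.2 ⟨⟨y, hy⟩, fun e => h1 (congrArg Subtype.val e)⟩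
      have hc : IsConj (x₀ : G) y := (CfsgLib.BlockSections.Exceptional.isConj_iff_autP hF
        (y := x₀) (y' := ⟨y, hy⟩)).2 ⟨α, α.2, congrArg Subtype.val hα⟩
      exact (irr_apply_eq_of_isConj hc χ).symm
    have hsq : (Nat.card G : ℕ) = ∑ χ : IrrCharacter G, charDegree (χ : G → ℂ) ^ 2 := by
      apply Nat.cast_injective (R := ℂ)
      rw [← sum_degree_sq (G := G), Nat.cast_sum]
      exact sum_congr rfl fun χ _ => by rw [charDegree_one, Nat.cast_pow]
    rw [← add_sum_erase _ _ (mem_univ (trivIrr G)),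
      sum_congr rfl (g := fun _ => p ^ 2) (fun χ hχ => by rw [hall χ (mem_erase.1 hχ).1]),
      sum_const, smul_eq_mul, hn] at hsq
    have h1 : charDegree (trivIrr G : G → ℂ) = 1 := by
      have := charDegree_one (trivIrr G)
      rw [trivIrr_apply] at this
      exact_mod_cast this.symm
    rw [h1, one_pow] at hsq
    refine hp.not_dvd_one ((Nat.dvd_add_left ?_).1 (hsq ▸ dvd_mul_right p n))
    exact Dvd.dvd.mul_left (dvd_pow_self p two_ne_zero) _

end simple

/-- Groups with prime degrees are solvable. -/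
theorem isSolvable : ∀ (c : ℕ) (G : Type u) [Group G] [Finite G], Nat.card G = c → PDeg G →
    Group.IsSolvable G := by
  intro c
  induction c using Nat.strong_induction_on with
  | _ c ih =>
    intro G _ _ hc h
    rcases subsingleton_or_nontrivial G with _ | _
    · infer_instance
    by_cases hsimple : IsSimpleGroup G
    · by_cases hnc : IsMulCommutative G
      · letI : CommGroup G := { (inferInstance : Group G) with mul_comm := hnc.is_comm.comm }
        infer_instance
      · exact (false_simple hnc h).elim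
    obtain ⟨N, hN, hN1, hN2⟩ : ∃ N : Subgroup G, N.Normal ∧ N ≠ ⊥ ∧ N ≠ ⊤ := by
      by_contra hcon
      push Not at hcon
      exact hsimple ⟨fun N hN => or_iff_not_imp_left.2 (hcon N hN)⟩
    haveI := hN
    haveI : Group.IsSolvable N := ih _ (hc ▸ lt_of_le_of_ne (Subgroup.card_le_card_group N)
      fun e => hN2 ((Subgroup.card_eq_iff_eq_top N).mp e)) N rfl (h.normalSubgroup N)
    haveI : Group.IsSolvable (G ⧸ N) := ih _ (by
      rw [← hc, Subgroup.card_eq_card_quotient_mul_card_subgroup N]
      exact lt_mul_of_one_lt_right Nat.card_pos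
        (Finite.one_lt_card_iff_nontrivial.2 ((Subgroup.nontrivial_iff_ne_bot N).2 hN1)))
      (G ⧸ N) rfl (h.quotient N)
    exact Group.isSolvable_of_ker_le_range N.subtype (QuotientGroup.mk' N) (by simp)

end CfsgLib.CharDegreesTheory.PrimeDegrees
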