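import Mathlib
import Cfsg.Agent.Lib.BlockLocal.WeakOrth
import Cfsg.Agent.Lib.BlockLocal.CosetTrace
import Cfsg.Agent.Lib.CharDegreesTheory.BlockDegrees

/-!
Real blocks of full defect at the prime two.
-/

set_option autoImplicit false
set_option linter.style.haveILetI false
set_option linter.unusedSectionVars false

namespace CfsgLib.CharDegreesTheory

open Cfsg CfsgLib.CharTheory CfsgLib.Blocks CfsgLib.BlockLocal CfsgLib.BrauerCharacters
open scoped ComplexConjugate

variable {G : Type*} [Group G] [Fintype G] {M : Ideal AlgInt} [M.IsPrime]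

/-- An inverse-invariant sum over the `2`-regular elements is congruent to its value at `1`. -/
theorem memLocalIdeal_sum_sub_one (hM : IsPModular 2 M) (f : G → ℂ)
    (hloc : ∀ g, MemLocalRing M (f g)) (hsym : ∀ g, f g⁻¹ = f g)
    (hsing : ∀ g, 2 ∣ orderOf g → f g = 0) : MemLocalIdeal M ((∑ g, f g) - f 1) := by
  classical
  haveI := charP_res hM
  have h0 : (∑ g ∈ Finset.univ.erase (1 : G), red M ⟨f g, hloc g⟩) = 0 := by
    refine Finset.sum_involution (fun g _ => g⁻¹) (fun g _ => ?_) (fun g hg hne => ?_)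
      (fun g hg => ?_) (fun g _ => inv_inv g)
    · rw [show (⟨f g⁻¹, hloc g⁻¹⟩ : locRing M) = ⟨f g, hloc g⟩ from Subtype.ext (hsym g)]
      exact CharTwo.add_self_eq_zero _
    · intro he
      refine hne ((red_eq_zero_iff _).2 ?_)
      have h2 : orderOf g = 2 := orderOf_eq_prime (by
        rw [pow_two]; nth_rewrite 1 [← he]; exact inv_mul_cancel g) (Finset.ne_of_mem_erase hg)
      show MemLocalIdeal M (f g)
      rw [hsing g (by rw [h2])]
      exact memLocalIdeal_zero
    · exact Finset.mem_erase.2 ⟨inv_ne_one.2 (Finset.ne_of_mem_erase hg), Finset.mem_univ _⟩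
  rw [← map_sum, red_eq_zero_iff, AddSubmonoidClass.coe_finsetSum] at h0
  rwa [← Finset.add_sum_erase _ _ (Finset.mem_univ (1 : G)), add_sub_cancel_left]

/-- A real irreducible character of odd degree lies in the principal `2`-block. -/
theorem mem_principalBlock_of_real_odd (hM : IsPModular 2 M) {χ : IrrCharacter G}
    (hreal : ∀ g : G, ((χ : G → ℂ) g).im = 0) (hodd : Odd (charDegree (χ : G → ℂ))) :
    χ ∈ principalBlock M G := by
  haveI : Fact (Nat.Prime 2) := ⟨Nat.prime_two⟩
  by_contra hχ
  have h0 : pairReg 2 (χ : G → ℂ) (trivIrr G : G → ℂ) = 0 :=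
    pairReg_eq_zero' hM fun hs => hχ (sameBlock_symm hs)
  have h1 := memLocalIdeal_sum_sub_one hM
    (fun x => regInv 2 (trivIrr G : G → ℂ) x * (χ : G → ℂ) x)
    (fun g => memLocalRing_mul (memLocalRing_regInv 2 _ g) (BlockLocal.memLocalRing_irr χ g))
    (fun g => by
      show regInv 2 _ g⁻¹ * _ = _
      rw [IsIrrCharacter.inv χ.2, Complex.conj_eq_iff_im.2 (hreal g)]
      simp [regInv, orderOf_inv, trivIrr_apply])
    (fun g hg => by simp [regInv, hg])
  rw [show ∑ x, regInv 2 (trivIrr G : G → ℂ) x * (χ : G → ℂ) x = 0 from h0, zero_sub] at h1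
  have h2 := memLocalIdeal_neg h1
  rw [neg_neg, show regInv 2 (trivIrr G : G → ℂ) 1 = 1 by simp [regInv, trivIrr_apply], one_mul,
    ← BlockLocal.coe_charDegree, memLocalIdeal_natCast_iff hM] at h2
  exact Nat.not_even_iff_odd.2 hodd (even_iff_two_dvd.2 h2)

/-- A block with a defect class centralized by a Sylow subgroup has a member of degree prime
to `p`. -/
theorem exists_not_dvd_degree_of_defectClass {p : ℕ} [Fact p.Prime] (hM : IsPModular p M)
    {B : Set (IrrCharacter G)} (hB : IsPBlock M B) (P : Sylow p G) {g : G}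
    (hg : IsDefectClass M B g) (hP : (P : Subgroup G) ≤ Subgroup.centralizer ({g} : Set G)) :
    ∃ χ ∈ B, ¬ p ∣ charDegree (χ : G → ℂ) := by
  classical
  haveI := Fintype.ofFinite (P : Subgroup G)
  haveI := Fintype.ofFinite (IrrCharacter G)
  by_contra hcon
  push Not at hcon
  refine hg.2.1 ?_
  have hcomm : ∀ u ∈ (P : Subgroup G), g * u = u * g := fun u hu =>
    (Subgroup.mem_centralizer_singleton_iff.1 (hP hu)).symm
  have hreg : ¬ p ∣ orderOf g := by
    intro hd
    refine hg.2.1 ?_
    have h0 := CfsgLib.BrauerCharacters.weakOrth hM hB 1 g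
      (by simp [(Fact.out : p.Prime).ne_one]) hd
    rw [blockCoeff, h0, mul_zero]
    exact memLocalIdeal_zero
  have hsing : ∀ u : (P : Subgroup G), (u : G) ≠ 1 → p ∣ orderOf (g * (u : G)) := by
    intro u hu
    by_contra hd
    obtain ⟨k, hk⟩ := (IsPGroup.iff_orderOf.1 P.2) u
    rw [← Subgroup.orderOf_coe] at hk
    have hk0 : k ≠ 0 := fun h => hu (orderOf_eq_one_iff.1 (by rw [hk, h, pow_zero]))
    have hc : Commute g (u : G) := hcomm u u.2
    have hu' : (u : G) = g⁻¹ * (g * u) := by group
    have h1 : orderOf (u : G) ∣ (orderOf g).lcm (orderOf (g * (u : G))) := by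
      conv_lhs => rw [hu']
      have := (((Commute.refl g).mul_right hc).inv_left).orderOf_mul_dvd_lcm
      rwa [orderOf_inv] at this
    have h2 : p ∣ (orderOf g).lcm (orderOf (g * (u : G))) :=
      (hk ▸ dvd_pow_self p hk0 : p ∣ orderOf (u : G)).trans h1
    exact ((Fact.out : p.Prime).dvd_mul.1 (h2.trans (Nat.lcm_dvd_mul _ _))).elim hreg hd
  have hα : ∀ χ : IrrCharacter G, ∃ a : ℂ, IsIntegral ℤ a ∧
      ∑ u : (P : Subgroup G), (χ : G → ℂ) (g * u) = (Nat.card (P : Subgroup G) : ℂ) * a := by
    intro χ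
    obtain ⟨n, ρ, hρ, hχ⟩ := χ.2
    rw [← hχ]
    exact exists_isIntegral_coset_sum ρ _ g hcomm
  choose α hαi hα using hα
  set F := blockFinset B
  have key : (Nat.card G : ℂ) * blockCoeff B g =
      (Nat.card (P : Subgroup G) : ℂ) * ∑ χ ∈ F, (χ : G → ℂ) 1 * conj (α χ) := by
    rw [blockCoeff, ← mul_assoc, mul_inv_cancel₀ (Nat.cast_ne_zero.2 Nat.card_pos.ne'), one_mul,
      finsum_mem_eq_sum_blockFinset, Finset.mul_sum]
    calc ∑ χ ∈ F, (χ : G → ℂ) 1 * conj ((χ : G → ℂ) g)
        = ∑ u : (P : Subgroup G), ∑ χ ∈ F, (χ : G → ℂ) 1 * conj ((χ : G → ℂ) (g * u)) := by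
          rw [Finset.sum_eq_single (1 : (P : Subgroup G))]
          · simp
          · intro u _ hu
            rw [← finsum_mem_eq_sum_blockFinset]
            exact CfsgLib.BrauerCharacters.weakOrth hM hB 1 _
              (by simp [(Fact.out : p.Prime).ne_one]) (hsing u fun h => hu (Subtype.ext h))
          · simp
      _ = _ := by
          rw [Finset.sum_comm]
          refine Finset.sum_congr rfl fun χ _ => ?_
          rw [← Finset.mul_sum, ← map_sum, hα, map_mul, map_natCast]
          ring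
  rw [← (P : Subgroup G).card_mul_index, Nat.cast_mul, mul_assoc] at key
  have key2 := mul_left_cancel₀ (Nat.cast_ne_zero.2 Nat.card_pos.ne') key
  have hidx : ¬ p ∣ (P : Subgroup G).index := P.not_dvd_index
  have h3 : MemLocalIdeal M (∑ χ ∈ F, (χ : G → ℂ) 1 * conj (α χ)) := by
    refine memLocalIdeal_sum fun χ hχ => memLocalIdeal_mul_right ?_
      (memLocalRing_of_isIntegral (by
        exact map_isIntegral_int (starRingEnd ℂ) (hαi χ)))
    rw [← BlockLocal.coe_charDegree, memLocalIdeal_natCast_iff hM]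
    exact hcon χ (mem_blockFinset.1 hχ)
  rw [← key2, memLocalIdeal_mul_iff (memLocalRing_natCast _) hg.1,
    memLocalIdeal_natCast_iff hM] at h3
  exact h3.resolve_left hidx

/-- A `2`-block of full defect closed under complex conjugation is principal. -/
theorem eq_principalBlock_of_conj_closed (hM : IsPModular 2 M) {B : Set (IrrCharacter G)}
    (hB : IsPBlock M B) (hfull : ∃ χ ∈ B, ¬ 2 ∣ charDegree (χ : G → ℂ))
    (hconj : ∀ χ ∈ B, ∃ ψ ∈ B, (ψ : G → ℂ) = fun g => conj ((χ : G → ℂ) g)) :
    B = principalBlock M G := by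
  classical
  haveI : Fact (Nat.Prime 2) := ⟨Nat.prime_two⟩
  haveI := Fintype.ofFinite (IrrCharacter G)
  set F := blockFinset B
  have hw := CfsgLib.BrauerCharacters.weakOrth hM hB
  have hsym : ∀ g, blockCoeff B g⁻¹ = blockCoeff B g := by
    intro g
    simp only [blockCoeff, finsum_mem_eq_sum_blockFinset]
    congr 1
    choose c hc hc' using hconj
    refine Finset.sum_bij (fun χ hχ => c χ (mem_blockFinset.1 hχ))
      (fun χ hχ => mem_blockFinset.2 (hc χ _)) (fun χ hχ ψ hψ h => ?_) (fun ψ hψ => ?_)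
      fun χ hχ => ?_
    · refine Subtype.ext (funext fun x => (starRingEnd ℂ).injective ?_)
      have := congrArg (fun φ : IrrCharacter G => (φ : G → ℂ) x) h
      simpa [hc'] using this
    · refine ⟨c ψ (mem_blockFinset.1 hψ), mem_blockFinset.2 (hc ψ _),
        Subtype.ext (funext fun x => ?_)⟩
      simp [hc']
    · simp only [hc']
      rw [IsIrrCharacter.inv χ.2, Complex.conj_conj]
      congr 1
      rw [(charDegree_spec χ).1, map_natCast]
  -- the coefficient at the identity is a unit
  have h1 : ¬ MemLocalIdeal M (blockCoeff B 1) := by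
    obtain ⟨χ, hχ, hχ2⟩ := hfull
    have hd : blockDefect 2 B = (Nat.card G).factorization 2 := by
      have := sInf_le_degree (p := 2) hχ
      rw [Nat.factorization_eq_zero_of_not_dvd hχ2, Nat.le_zero] at this
      rw [blockDefect, this, Nat.sub_zero]
    set a := (Nat.card G).factorization 2
    set S := ∑ φ ∈ F, charDegree (φ : G → ℂ) ^ 2
    have hS : S.factorization 2 = a := by
      rw [factorization_sum_sq hM hB, hd]; omega
    have hS0 : S ≠ 0 := by
      intro h0
      have := Finset.sum_eq_zero_iff.1 h0 χ (mem_blockFinset.2 hχ)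
      exact hχ2 (by rw [(pow_eq_zero_iff two_ne_zero).1 this]; exact dvd_zero _)
    have hcoeff : ((ordCompl[2] (Nat.card G) : ℕ) : ℂ) * blockCoeff B 1 =
        ((ordCompl[2] S : ℕ) : ℂ) := by
      have hp0 : ((2 ^ a : ℕ) : ℂ) ≠ 0 := Nat.cast_ne_zero.2 (pow_ne_zero _ two_ne_zero)
      refine mul_left_cancel₀ hp0 ?_
      rw [← mul_assoc, ← Nat.cast_mul, ← Nat.cast_mul, Nat.ordProj_mul_ordCompl_eq_self,
        show 2 ^ a * ordCompl[2] S = S by rw [← hS]; exact Nat.ordProj_mul_ordCompl_eq_self S 2,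
        blockCoeff, ← mul_assoc,
        mul_inv_cancel₀ (Nat.cast_ne_zero.2 Nat.card_pos.ne'), one_mul,
        finsum_mem_eq_sum_blockFinset, Nat.cast_sum]
      exact Finset.sum_congr rfl fun φ _ => by
        rw [(charDegree_spec φ).1, map_natCast, Nat.cast_pow, sq]
    intro h
    have h2 := memLocalIdeal_mul_left (memLocalRing_natCast (M := M) (ordCompl[2] (Nat.card G))) h
    rw [hcoeff, memLocalIdeal_natCast_iff hM] at h2
    exact Nat.not_dvd_ordCompl Nat.prime_two hS0 h2
  have h2 := memLocalIdeal_sum_sub_one hM (blockCoeff B) (fun g => memLocalRing_blockCoeff hB g)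
    hsym fun g hg => by
      have h0 := hw 1 g (by simp) hg
      rw [blockCoeff, h0, mul_zero]
  by_contra hne
  have hnot : trivIrr G ∉ B := fun h => hne (eq_blockOf_of_mem hB h)
  have h3 := omega_blockIdem_of_notMem hnot
  rw [omega_eq_sum] at h3
  simp only [coeff_blockIdem, trivIrr_apply, mul_one, div_one] at h3
  rw [h3, zero_sub] at h2
  exact h1 (by simpa using memLocalIdeal_neg h2)

end CfsgLib.CharDegreesTheory
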