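import Cfsg.Agent.Lib.Clifford.Extension
import Cfsg.Agent.Lib.Clifford.Basic
import Cfsg.Agent.Lib.RealChar.DegreeRatio
import Cfsg.Agent.Lib.Transfer.Residual
import Cfsg.Agent.Lib.BrauerCharacters.ClassMul
import Cfsg.Agent.Lib.CharTheory.Ito

/-!
# The order of the `p`-residual and the characters of `p'`-degree and `p'`-determinant order
-/

set_option autoImplicit false
set_option linter.style.haveILetI false

namespace CfsgLib.CharDegreesTheory

open Cfsg CfsgLib.CharTheory CfsgLib.Clifford CfsgLib.Transfer Finset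

variable {G : Type*} [Group G] [Finite G]

theorem charDegree_spec' (χ : IrrCharacter G) :
    (χ : G → ℂ) 1 = (charDegree (χ : G → ℂ) : ℂ) ∧ 0 < charDegree (χ : G → ℂ) := by
  haveI := Fintype.ofFinite G
  exact ⟨(CfsgLib.BrauerCharacters.charDegree_spec χ).1, (CfsgLib.BrauerCharacters.charDegree_spec χ).2.1⟩

/-- Homomorphisms to a commutative group from a group generated by its `p'`-elements have order
prime to `p`. -/
theorem coprime_orderOf_hom {H : Type*} [Group H] [Finite H] {p : ℕ} [hp : Fact p.Prime]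
    (hH : pResidual p H = ⊤) {A : Type*} [CommGroup A] (l : H →* A) : Nat.Coprime p (orderOf l) := by
  refine Nat.Coprime.coprime_dvd_right (orderOf_dvd_of_pow_eq_one (x := l)
    (n := ordCompl[p] (Nat.card H)) ?_) (Nat.coprime_ordCompl hp.out Nat.card_pos.ne')
  have h : pResidual p H ≤ (l ^ (ordCompl[p] (Nat.card H))).ker := by
    rw [pResidual, Subgroup.closure_le]
    intro g hg
    rw [SetLike.mem_coe, MonoidHom.mem_ker, MonoidHom.pow_apply, ← map_pow]
    rw [orderOf_dvd_iff_pow_eq_one.1 (?_ : orderOf g ∣ ordCompl[p] (Nat.card H)), map_one]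
    refine Nat.Coprime.dvd_of_dvd_mul_left (Nat.Coprime.pow_right ((Nat.card H).factorization p) hg) ?_
    rw [Nat.ordProj_mul_ordCompl_eq_self]
    exact orderOf_dvd_natCard g
  exact MonoidHom.ext fun g => h (hH ▸ Subgroup.mem_top g)

omit [Finite G] in
theorem detOrder_eq {χ : G → ℂ} {l : G →* ℂˣ} (h : detChar χ = linFun l) :
    detOrder χ = orderOf l := by
  rw [detOrder, h, orderOf_linFun]

/-- A character of `p'`-degree restricts irreducibly to a normal subgroup of `p`-power index. -/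
theorem res_irr_of_not_dvd {p : ℕ} (hp : p.Prime) (N : Subgroup G) [N.Normal]
    (hidx : ∃ k, N.index = p ^ k) (χ : IrrCharacter G) (hχ : ¬ p ∣ charDegree (χ : G → ℂ)) :
    IsIrrCharacter N (fun n : N => (χ : G → ℂ) n) := by
  classical
  haveI := Fintype.ofFinite G
  haveI := Fintype.ofFinite N
  obtain ⟨⟨θ, hθ⟩, hcon⟩ := CfsgLib.CharTheory.exists_constituent N (IsIrrCharacter.isCharacter χ.2)
    (apply_one_ne_zero_of_isIrr χ.2)
  obtain ⟨r, hr, hr1⟩ := CfsgLib.RealChar.degree_div_dvd_index N χ.2 hθ hcon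
  obtain ⟨d, hd⟩ := exists_degree_of_isCharacter (IsIrrCharacter.isCharacter hθ)
  rw [hd, (charDegree_spec' χ).1] at hr1
  have hr1' : charDegree (χ : G → ℂ) = r * d := by exact_mod_cast hr1
  obtain ⟨k, hk⟩ := hidx
  obtain ⟨j, -, hj⟩ := (Nat.dvd_prime_pow hp).1 (hk ▸ hr)
  have hrone : r = 1 := by
    rcases Nat.eq_zero_or_pos j with e | e
    · rw [hj, e, pow_zero]
    · exact absurd ((dvd_pow_self p e.ne').trans (hj ▸ (hr1' ▸ dvd_mul_right r d))) hχ
  rw [hrone, one_mul] at hr1'
  have h1 := apply_one_eq N χ.2 hθ hcon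
  rw [(charDegree_spec' χ).1, hr1', hd] at h1
  obtain ⟨e, he⟩ := IsCharacter.exists_classInner_eq_nat (G := N) (CfsgLib.Coherence.isCharacter_comp
    (IsIrrCharacter.isCharacter χ.2) N.subtype) ⟨θ, hθ⟩
  erw [he] at h1
  have hd0 : (d : ℂ) ≠ 0 := hd ▸ apply_one_ne_zero_of_isIrr hθ
  have h2 : ((1 : ℕ) : ℂ) = ((e * (conjOrbit N θ).card : ℕ) : ℂ) := by
    push_cast
    exact (mul_right_cancel₀ hd0 ((one_mul _).trans h1))
  obtain ⟨he1, hc1⟩ := mul_eq_one.1 (Nat.cast_injective h2).symm
  have hs : conjOrbit N θ = {θ} := by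
    obtain ⟨η, hη⟩ := Finset.card_eq_one.1 hc1
    have : θ ∈ conjOrbit N θ := (mem_conjOrbit N).2 ⟨1, conjChar_one N θ⟩
    rw [hη, mem_singleton] at this
    rw [hη, this]
  have h3 := res_eq N χ.2 hθ hcon
  erw [he] at h3
  rw [he1, hs, sum_singleton, Nat.cast_one, one_smul] at h3
  rw [h3]
  exact hθ

/-- The order of `O^p(G)` modulo `p`. -/
theorem card_pResidual_modEq {p : ℕ} [hp : Fact p.Prime] [Fintype (IrrCharacter G)] :
    (Nat.card (pResidual p G) : ℤ) ≡ ∑ χ ∈ univ.filter (fun χ : IrrCharacter G =>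
      ¬ p ∣ charDegree (χ : G → ℂ) ∧ ¬ p ∣ detOrder (χ : G → ℂ)),
        (charDegree (χ : G → ℂ) : ℤ) ^ 2 [ZMOD p] := by
  classical
  haveI := Fintype.ofFinite G
  haveI := pResidual_normal (G := G) (p := p)
  set N := pResidual p G with hN
  haveI := Fintype.ofFinite N
  haveI := Fintype.ofFinite (IrrCharacter N)
  obtain ⟨k, hk⟩ := index_pResidual_eq_pow (G := G) (p := p)
  have hNN : pResidual p N = ⊤ := pResidual_pResidual
  -- invariant characters
  set inv : IrrCharacter N → Prop := fun θ => ∀ g : G, conjChar N (θ : N → ℂ) g = θ with hinv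
  set T := univ.filter fun θ : IrrCharacter N => inv θ ∧ ¬ p ∣ charDegree (θ : N → ℂ) with hT
  have hbij : ∑ χ ∈ univ.filter (fun χ : IrrCharacter G =>
      ¬ p ∣ charDegree (χ : G → ℂ) ∧ ¬ p ∣ detOrder (χ : G → ℂ)), (charDegree (χ : G → ℂ) : ℤ) ^ 2 =
      ∑ θ ∈ T, (charDegree (θ : N → ℂ) : ℤ) ^ 2 := by
    refine sum_bij (fun χ hχ => ⟨fun n : N => (χ : G → ℂ) n,
      res_irr_of_not_dvd hp.out N ⟨k, hk⟩ χ (mem_filter.1 hχ).2.1⟩) (fun χ hχ => ?_) ?_ ?_
      (fun χ hχ => rfl)
    · refine mem_filter.2 ⟨mem_univ _, fun g => funext fun n => ?_, (mem_filter.1 hχ).2.1⟩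
      exact IsIrrCharacter.isClassFunction χ.2 (n : G) g
    · intro χ hχ χ' hχ' e
      have he : ∀ n : N, (χ : G → ℂ) n = (χ' : G → ℂ) n := fun n => congrFun (congrArg Subtype.val e) n
      have hθ := res_irr_of_not_dvd hp.out N ⟨k, hk⟩ χ (mem_filter.1 hχ).2.1
      obtain ⟨l, hl⟩ := exists_detChar_eq (IsIrrCharacter.isCharacter χ.2)
      obtain ⟨l', hl'⟩ := exists_detChar_eq (IsIrrCharacter.isCharacter χ'.2)
      have hll : ∀ n : N, l n = l' n := fun n => Units.ext (by
        have e1 := detChar_restrict N (IsIrrCharacter.isCharacter χ.2) (θ := fun n : N => (χ : G → ℂ) n)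
          (fun _ => rfl) n
        have e2 := detChar_restrict N (IsIrrCharacter.isCharacter χ'.2) (θ := fun n : N => (χ : G → ℂ) n)
          (fun n => (he n).symm) n
        rw [hl] at e1; rw [hl'] at e2
        exact e1.trans e2.symm)
      have hlo : Nat.Coprime p (orderOf l) := (hp.out.coprime_iff_not_dvd).2
        (detOrder_eq hl ▸ (mem_filter.1 hχ).2.2)
      have hlo' : Nat.Coprime p (orderOf l') := (hp.out.coprime_iff_not_dvd).2
        (detOrder_eq hl' ▸ (mem_filter.1 hχ').2.2)
      have hl'eq : l' = l := by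
        have h1 : (l' / l) ^ N.index = 1 := MonoidHom.ext fun g => by
          rw [MonoidHom.pow_apply, ← map_pow, MonoidHom.div_apply,
            show l (g ^ N.index) = l' (g ^ N.index) from hll ⟨_, N.pow_index_mem g⟩, div_self']
          rfl
        exact eq_of_pow_coprime (A := G →* ℂˣ)
          (hk ▸ ((hlo'.pow_left k).mul_right (hlo.pow_left k))) h1
          (pow_mul_eq_of_pow_eq_one (A := G →* ℂˣ) (pow_orderOf_eq_one l') (pow_orderOf_eq_one l))
      obtain ⟨η, -, huniq⟩ := existsUnique_extension_det (N := N) hθ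
        (d := charDegree (χ : G → ℂ)) (by simpa using (charDegree_spec' χ).1)
        (hk ▸ ((hp.out.coprime_iff_not_dvd).2 (mem_filter.1 hχ).2.1).pow_left k)
        χ.2 (fun _ => rfl) l (fun n => by
          rw [← linFun_apply, ← hl]
          exact detChar_restrict N (IsIrrCharacter.isCharacter χ.2) (fun _ => rfl) n)
      exact Subtype.ext ((huniq _ ⟨χ.2, fun _ => rfl, hl⟩).trans
        (huniq _ ⟨χ'.2, fun n => (he n).symm, hl'eq ▸ hl'⟩).symm)
    · intro θ hθ
      obtain ⟨-, hθinv, hθdeg⟩ := mem_filter.1 hθ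
      obtain ⟨lam, hlam⟩ := exists_detChar_eq (IsIrrCharacter.isCharacter θ.2)
      have hlaminv : ∀ (g : G) (n : N),
          lam ⟨g * n * g⁻¹, (pResidual_normal (G := G) (p := p)).conj_mem (n : G) n.2 g⟩ = lam n := by
        intro g n
        obtain ⟨c, ρ, hρ, hρc⟩ := θ.2
        let σ : Representation ℂ N (Fin c → ℂ) :=
          MonoidHom.comp ρ (MulAut.conjNormal g : MulAut N).toMonoidHom
        have hσ : σ.character = θ := by
          funext m
          show ρ.character (MulAut.conjNormal g m) = _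
          rw [hρc, ← congrFun (hθinv g) m, conjChar_eq_comp]
        have e1 := detChar_eq σ hσ
        rw [hlam] at e1
        have e2 := detChar_eq ρ hρc
        rw [hlam] at e2
        refine Units.ext ?_
        rw [← linFun_apply, ← linFun_apply]
        conv_rhs => rw [e1]
        rw [e2, linFun_apply, linFun_apply, detHom_apply, detHom_apply]
        show _ = LinearMap.det (ρ (MulAut.conjNormal g n))
        congr 2
      have hcop : Nat.Coprime N.index (orderOf lam) := hk ▸ (coprime_orderOf_hom hNN lam).pow_left k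
      obtain ⟨μ, ⟨hμ, hμo⟩, -⟩ := exists_unique_extension_linear hlaminv hcop
      have hdcop : Nat.Coprime N.index (charDegree (θ : N → ℂ)) :=
        hk ▸ ((hp.out.coprime_iff_not_dvd).2 hθdeg).pow_left k
      have hμ' : ∀ n : N, (μ n : ℂ) = detChar (θ : N → ℂ) n := fun n => by rw [hμ, hlam]; rfl
      obtain ⟨η, hη, hηθ⟩ := exists_extension_of_det θ.2
        (fun g n => congrFun (hθinv g) n) (charDegree_spec' θ).1 hdcop μ hμ'
      obtain ⟨χ, ⟨hχ, hχθ, hχdet⟩, -⟩ := existsUnique_extension_det (N := N) θ.2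
        (charDegree_spec' θ).1 hdcop hη hηθ μ hμ'
      have hdeg : charDegree χ = charDegree (θ : N → ℂ) := by
        unfold charDegree
        rw [← hχθ 1]
        rfl
      refine ⟨⟨χ, hχ⟩, mem_filter.2 ⟨mem_univ _, hdeg ▸ hθdeg, ?_⟩, Subtype.ext (funext hχθ)⟩
      rw [detOrder_eq hχdet, hμo]
      exact (hp.out.coprime_iff_not_dvd).1 (coprime_orderOf_hom hNN lam)
  rw [hbij]
  -- all characters of `N`
  have hsq : (Nat.card N : ℤ) = ∑ θ : IrrCharacter N, (charDegree (θ : N → ℂ) : ℤ) ^ 2 := by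
    apply Int.cast_injective (α := ℂ)
    push_cast
    rw [← sum_degree_sq (G := N)]
    exact sum_congr rfl fun θ _ => by rw [← (charDegree_spec' θ).1]
  rw [hsq]
  obtain ⟨P⟩ : Nonempty (Sylow p G) := inferInstance
  letI act : MulAction P (IrrCharacter N) :=
    { smul := fun g θ => ⟨conjChar N (θ : N → ℂ) (g : G)⁻¹, isIrrCharacter_conjChar N θ.2 _⟩
      one_smul := fun θ => Subtype.ext (by
        show conjChar N (θ : N → ℂ) (((1 : P) : G))⁻¹ = θ
        rw [OneMemClass.coe_one, inv_one, conjChar_one])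
      mul_smul := fun g h θ => Subtype.ext (by
        show conjChar N (θ : N → ℂ) (((g * h : P) : G))⁻¹ =
          conjChar N (conjChar N (θ : N → ℂ) (h : G)⁻¹) (g : G)⁻¹
        rw [conjChar_conjChar, Subgroup.coe_mul, mul_inv_rev]) }
  have hfixed : ∀ θ : IrrCharacter N, θ ∈ MulAction.fixedPoints P (IrrCharacter N) ↔ inv θ := by
    intro θ
    refine ⟨fun h g => ?_, fun h x => Subtype.ext (h _)⟩
    have hle : (P : Subgroup G) ⊔ N ≤
        CfsgLib.RealChar.inertia N (θ : N → ℂ) := by
      refine sup_le (fun x hx => ?_) (CfsgLib.RealChar.le_inertia N (IsIrrCharacter.isClassFunction θ.2))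
      have h1 := congrArg Subtype.val (h ⟨x⁻¹, inv_mem hx⟩)
      change conjChar N (θ : N → ℂ) x⁻¹⁻¹ = θ at h1
      rw [inv_inv, conjChar_eq_comp] at h1
      exact h1
    have hg : g ∈ CfsgLib.RealChar.inertia N (θ : N → ℂ) :=
      hle ((sylow_sup_pResidual_eq_top P) ▸ Subgroup.mem_top g)
    rw [conjChar_eq_comp]
    exact hg
  have hzero : ∑ θ ∈ univ.filter (fun θ => θ ∉ T), (charDegree (θ : N → ℂ) : ℤ) ^ 2 ≡ 0 [ZMOD p] := by
    rw [← sum_fiberwise_of_maps_to (g := fun θ : IrrCharacter N => charDegree (θ : N → ℂ))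
      (t := univ.image fun θ : IrrCharacter N => charDegree (θ : N → ℂ))
      (fun θ _ => mem_image_of_mem _ (mem_univ _))]
    rw [Int.modEq_zero_iff_dvd]
    refine dvd_sum fun d _ => ?_
    rw [sum_congr rfl (g := fun _ => (d : ℤ) ^ 2) (fun θ hθ => by rw [(mem_filter.1 hθ).2]), sum_const,
      nsmul_eq_mul]
    by_cases hd : p ∣ d
    · exact dvd_mul_of_dvd_right (dvd_pow (Int.natCast_dvd_natCast.2 hd) two_ne_zero) _
    refine dvd_mul_of_dvd_left (Int.natCast_dvd_natCast.2 ?_) _
    have hdeg : ∀ (x : P) (θ : IrrCharacter N),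
        charDegree ((x • θ : IrrCharacter N) : N → ℂ) = charDegree (θ : N → ℂ) := fun x θ => by
      unfold charDegree
      rw [show ((x • θ : IrrCharacter N) : N → ℂ) 1 = (θ : N → ℂ) 1 from conjChar_apply_one N _ _]
    letI actd : MulAction P {θ : IrrCharacter N // charDegree (θ : N → ℂ) = d} :=
      { smul := fun x θ => ⟨x • θ.1, (hdeg x θ.1).trans θ.2⟩
        one_smul := fun θ => Subtype.ext (one_smul P θ.1)
        mul_smul := fun x y θ => Subtype.ext (mul_smul x y θ.1) }
    have h := P.2.card_modEq_card_fixedPoints {θ : IrrCharacter N // charDegree (θ : N → ℂ) = d}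
    have e1 : Nat.card (MulAction.fixedPoints P {θ : IrrCharacter N // charDegree (θ : N → ℂ) = d}) =
        (univ.filter fun θ : IrrCharacter N => θ ∈ T ∧ charDegree (θ : N → ℂ) = d).card := by
      rw [← Fintype.card_subtype, ← Nat.card_eq_fintype_card]
      refine Nat.card_congr
        { toFun := fun θ => ⟨θ.1.1, mem_filter.2 ⟨mem_univ _, (hfixed _).1 fun x =>
            congrArg Subtype.val (θ.2 x), by rw [θ.1.2]; exact hd⟩, θ.1.2⟩
          invFun := fun θ => ⟨⟨θ.1, θ.2.2⟩, fun x => Subtype.ext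
            ((hfixed _).2 (mem_filter.1 θ.2.1).2.1 x)⟩
          left_inv := fun θ => rfl
          right_inv := fun θ => rfl }
    have e2 : Nat.card {θ : IrrCharacter N // charDegree (θ : N → ℂ) = d} =
        (univ.filter fun θ : IrrCharacter N => charDegree (θ : N → ℂ) = d).card := by
      rw [← Fintype.card_subtype, Nat.card_eq_fintype_card]
    rw [e1, e2] at h
    have e3 := card_filter_add_card_filter_not (s := univ.filter fun θ : IrrCharacter N =>
      charDegree (θ : N → ℂ) = d) (fun θ => θ ∈ T)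
    rw [filter_filter, filter_filter] at e3
    simp only [and_comm (a := charDegree _ = d)] at e3
    rw [filter_filter]
    show p ∣ _
    have h1 := (Nat.modEq_iff_dvd' (by omega)).1 h.symm
    convert h1 using 1
    omega
  have e := sum_filter_add_sum_filter_not (univ : Finset (IrrCharacter N)) (fun θ => θ ∈ T)
    (fun θ => (charDegree (θ : N → ℂ) : ℤ) ^ 2)
  rw [← e, filter_mem_eq_inter, univ_inter]
  simpa using hzero.add_left (∑ θ ∈ T, (charDegree (θ : N → ℂ) : ℤ) ^ 2)

/-- The determinant of a linear character is the character. -/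
theorem detChar_of_degree_one {χ : G → ℂ} (h : IsCharacter G χ) (h1 : χ 1 = 1) : detChar χ = χ := by
  obtain ⟨n, ρ, rfl⟩ := h
  rw [Representation.char_one, Module.finrank_fin_fun] at h1
  obtain rfl : n = 1 := by exact_mod_cast h1
  funext g
  rw [detChar_eq ρ rfl, linFun_apply, detHom_apply, ← LinearMap.det_toMatrix', Matrix.det_fin_one]
  show _ = LinearMap.trace ℂ _ (ρ g)
  rw [LinearMap.trace_eq_matrix_trace ℂ (Pi.basisFun ℂ (Fin 1)), LinearMap.toMatrix_eq_toMatrix',
    Matrix.trace_fin_one]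

/-- Thompson: if `p` divides every nonlinear degree then `p` does not divide `|O^p(G)|`. -/
theorem not_dvd_card_pResidual {p : ℕ} [hp : Fact p.Prime]
    (hdeg : ∀ χ : IrrCharacter G, charDegree (χ : G → ℂ) ≠ 1 → p ∣ charDegree (χ : G → ℂ)) :
    ¬ p ∣ Nat.card (pResidual p G) := by
  classical
  haveI := Fintype.ofFinite G
  haveI := Fintype.ofFinite (IrrCharacter G)
  intro hdvd
  have h := card_pResidual_modEq (G := G) (p := p)
  set S := univ.filter (fun χ : IrrCharacter G => ¬ p ∣ charDegree (χ : G → ℂ) ∧ ¬ p ∣ detOrder (χ : G → ℂ))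
  have hone : ∀ χ ∈ S, charDegree (χ : G → ℂ) = 1 := fun χ hχ => by
    by_contra hne
    exact (mem_filter.1 hχ).2.1 (hdeg χ hne)
  rw [sum_congr rfl (g := fun _ => (1 : ℤ)) (fun χ hχ => by rw [hone χ hχ]; norm_num), sum_const,
    nsmul_eq_mul, mul_one] at h
  have hS : p ∣ S.card := by
    have h0 : ((Nat.card (pResidual p G) : ℤ)) ≡ 0 [ZMOD p] :=
      Int.modEq_zero_iff_dvd.2 (Int.natCast_dvd_natCast.2 hdvd)
    exact Int.natCast_dvd_natCast.1 (Int.modEq_zero_iff_dvd.1 (h.symm.trans h0))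
  let L : Subgroup (G →* ℂˣ) :=
    { carrier := {l | ¬ p ∣ orderOf l}
      one_mem' := by simp [hp.out.ne_one]
      mul_mem' := fun {a b} ha hb hd => by
        rcases (Nat.Prime.dvd_mul hp.out).1 (hd.trans (Commute.orderOf_mul_dvd_mul_orderOf
          (Commute.all a b))) with e | e
        exacts [ha e, hb e]
      inv_mem' := fun {a} ha hd => ha (by rwa [orderOf_inv] at hd) }
  haveI : Finite (G →* ℂˣ) := Finite.of_injective
    (fun l => (⟨linFun l, isIrrCharacter_linear l⟩ : IrrCharacter G))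
    fun a b e => linFun_injective (congrArg Subtype.val e)
  have hdeg1 : ∀ l : G →* ℂˣ, charDegree (linFun l) = 1 := fun l => by
    simp [charDegree, linFun_apply]
  have hcard : S.card = Nat.card L := by
    rw [← Nat.card_eq_finsetCard]
    symm
    refine Nat.card_congr (Equiv.ofBijective (fun l : L =>
      (⟨⟨linFun l.1, isIrrCharacter_linear l.1⟩, mem_filter.2 ⟨mem_univ _,
        by show ¬ p ∣ charDegree (linFun l.1); rw [hdeg1]; exact hp.out.not_dvd_one,
        by rw [detOrder, detChar_of_degree_one (isCharacter_linFun l.1) (by simp [linFun_apply]),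
          orderOf_linFun]; exact l.2⟩⟩ : S)) ⟨fun a b e => ?_, fun χ => ?_⟩)
    · exact Subtype.ext (linFun_injective (congrArg (fun x : S => ((x : IrrCharacter G) : G → ℂ)) e))
    · have h1 : (χ.1 : G → ℂ) 1 = 1 := by
        rw [(charDegree_spec' χ.1).1, hone _ χ.2, Nat.cast_one]
      obtain ⟨l, hl⟩ := exists_linFun_of_isCharacter (IsIrrCharacter.isCharacter χ.1.2) h1
      refine ⟨⟨l, ?_⟩, Subtype.ext (Subtype.ext hl.symm)⟩
      show ¬ p ∣ orderOf l
      have h2 := (mem_filter.1 χ.2).2.2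
      rwa [detOrder, detChar_of_degree_one (IsIrrCharacter.isCharacter χ.1.2) h1, hl, orderOf_linFun] at h2
  obtain ⟨x, hx⟩ := exists_prime_orderOf_dvd_card' (G := L) p (hcard ▸ hS)
  exact x.2 (by rw [Subgroup.orderOf_coe, hx])

end CfsgLib.CharDegreesTheory
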