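import Mathlib
import Cfsg.Agent.Lib.CharDegreesTheory.Unitary

/-!
Blichfeldt's sixty degree theorem: if all eigenvalues of an element are at distance less than
one from one of them, the conjugates of the element preserve that eigenspace.
-/

set_option autoImplicit false
set_option linter.unusedSectionVars false

namespace CfsgLib.CharDegreesTheory

open scoped InnerProductSpace
open ContinuousLinearMap (opNorm_le_bound le_opNorm)

variable {G : Type*} [Group G] [Finite G]
  {E : Type*} [NormedAddCommGroup E] [InnerProductSpace ℂ E] [FiniteDimensional ℂ E]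
  (π : G →* (E →L[ℂ] E))

/-- An element with all eigenvalues at distance less than `R` from `c` is within `R` of the
scalar `c`. -/
theorem norm_sub_smul_lt (hiso : ∀ g v, ‖π g v‖ = ‖v‖) (g : G) {ι : Type*} [Fintype ι]
    (b : Module.Basis ι ℂ E) (l : ι → ℂ) (hl : ∀ i, π g (b i) = l i • b i)
    (c : ℂ) {R : ℝ} (hR : 0 < R) (hc : ∀ i, ‖l i - c‖ < R) :
    ‖π g - c • 1‖ < R := by
  classical
  let μ : ι → ℂ := fun i => l i - c
  let s : Finset ℝ := insert 0 (Finset.univ.image fun i => ‖μ i‖)
  have hs : s.Nonempty := Finset.insert_nonempty _ _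
  let r := s.max' hs
  have hr : r < R := by
    rw [Finset.max'_lt_iff]
    intro x hx
    rcases Finset.mem_insert.mp hx with rfl | hx
    · exact hR
    · obtain ⟨i, _, rfl⟩ := Finset.mem_image.mp hx; exact hc i
  have hr0 : 0 ≤ r := Finset.le_max' _ _ (Finset.mem_insert_self _ _)
  have hrμ : ∀ i, ‖μ i‖ ≤ r := fun i =>
    Finset.le_max' s _ (Finset.mem_insert_of_mem (Finset.mem_image.mpr ⟨i, Finset.mem_univ i, rfl⟩))
  refine lt_of_le_of_lt (opNorm_le_bound _ hr0 fun v => ?_) hr
  let L : Finset ℂ := Finset.univ.image l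
  let f : ℂ → E := fun z => ∑ i with l i = z, b.repr v i • b i
  have hv : ∑ z ∈ L, f z = v := by
    rw [Finset.sum_fiberwise_of_maps_to (fun i _ => Finset.mem_image_of_mem l (Finset.mem_univ i))]
    exact b.sum_repr v
  have hTv : (π g - c • 1) v = ∑ z ∈ L, (z - c) • f z := by
    conv_lhs => rw [← hv]
    rw [map_sum]
    refine Finset.sum_congr rfl fun z _ => ?_
    simp only [f, map_sum, Finset.smul_sum]
    refine Finset.sum_congr rfl fun i hi => ?_
    obtain rfl := (Finset.mem_filter.mp hi).2
    rw [map_smul, sub_apply, smul_apply,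
      one_apply_eq_self, hl, ← sub_smul, smul_smul, smul_smul, mul_comm]
  have horth : ∀ z w : ℂ, z ≠ w → ∀ a d : ℂ, ⟪a • f z, d • f w⟫_ℂ = 0 := by
    intro z w hzw a d
    simp only [f, Finset.smul_sum, smul_smul, sum_inner, inner_sum, inner_smul_left,
      inner_smul_right]
    refine Finset.sum_eq_zero fun j hj => mul_eq_zero.mpr (Or.inr (Finset.sum_eq_zero fun i hi => ?_))
    have hne : l i ≠ l j := by
      obtain rfl := (Finset.mem_filter.mp hi).2
      obtain rfl := (Finset.mem_filter.mp hj).2
      exact hzw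
    rw [inner_eq_zero_of_eigen (π g) (hiso g) (hl i) (hl j) hne]
    simp
  have hsq : ∀ a : ℂ → ℂ, ‖∑ z ∈ L, a z • f z‖ ^ 2 = ∑ z ∈ L, ‖a z • f z‖ ^ 2 := by
    intro a
    rw [← inner_self_eq_norm_sq (𝕜 := ℂ), sum_inner, map_sum]
    refine Finset.sum_congr rfl fun z hz => ?_
    rw [inner_sum, Finset.sum_eq_single z (fun w _ hw => horth z w (Ne.symm hw) _ _)
      (fun h => absurd hz h), inner_self_eq_norm_sq]
  refine le_of_pow_le_pow_left₀ two_ne_zero (by positivity) ?_
  rw [hTv, hsq, mul_pow]
  have := hsq (fun _ => 1)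
  simp only [one_smul] at this
  rw [hv] at this
  rw [this, Finset.mul_sum]
  refine Finset.sum_le_sum fun z hz => ?_
  obtain ⟨i, _, rfl⟩ := Finset.mem_image.mp hz
  rw [norm_smul, mul_pow]
  exact mul_le_mul_of_nonneg_right (pow_le_pow_left₀ (norm_nonneg _) (hrμ i) 2) (sq_nonneg _)

/-- **Blichfeldt's sixty degree theorem**: if `π g` is at distance less than `1` from the scalar
`μ`, then every element of the normal closure of `g` preserves the `μ`-eigenspace of `π g`. -/
theorem apply_mem_eigenspace_of_norm_sub_lt (hiso : ∀ g v, ‖π g v‖ = ‖v‖) (g : G) (μ : ℂ)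
    (h1 : ‖π g - μ • 1‖ < 1) {x : G} (hx : x ∈ Subgroup.normalClosure ({g} : Set G))
    {v : E} (hv : π g v = μ • v) : π g (π x v) = μ • π x v := by
  classical
  suffices hall : ∀ a : G, ∀ v : E, π g v = μ • v → π g (π (a * g * a⁻¹) v) = μ • π (a * g * a⁻¹) v by
    revert hv
    revert v
    rw [Subgroup.normalClosure] at hx
    induction hx using Subgroup.closure_induction with
    | mem z hz =>
      intro v hv
      rw [Group.mem_conjugatesOfSet_iff] at hz
      obtain ⟨w, rfl, hc⟩ := hz
      obtain ⟨a, rfl⟩ := isConj_iff.1 hc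
      exact hall a v hv
    | one => intro v hv; simp [hv]
    | mul a b _ _ ha hb =>
      intro v hv
      rw [map_mul, mul_apply_eq_comp]
      exact ha (hb hv)
    | inv a _ ha =>
      intro v hv
      have hpow : a⁻¹ ∈ Submonoid.powers a := by
        exact (mem_powers_iff_mem_zpowers).2 (inv_mem (Subgroup.mem_zpowers a))
      obtain ⟨n, hn⟩ := hpow
      simp only at hn
      rw [← hn]
      clear hn
      induction n with
      | zero => simp [hv]
      | succ n ih =>
        rw [pow_succ', map_mul, mul_apply_eq_comp]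
        exact ha ih
  by_contra hcon
  obtain ⟨a₀, ha₀⟩ := not_forall.1 hcon
  let W : G → Submodule ℂ E := fun a => Module.End.eigenspace (π (a * g * a⁻¹) : E →ₗ[ℂ] E) μ
  have hW : ∀ a v, v ∈ W a ↔ π (a * g * a⁻¹) v = μ • v := fun a v =>
    Module.End.mem_eigenspace_iff
  let S := Module.finBasis ℂ (W 1)
  let Φ : G → ℝ := fun a => ∑ i, ‖(S i : E) - (W a).starProjection (S i)‖
  let P : G → Prop := fun a => ∀ v ∈ W 1, π (a * g * a⁻¹) v ∈ W 1
  have hW1 : ∀ v, v ∈ W 1 ↔ π g v = μ • v := fun v => by simp [hW]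
  have hPall : ¬ ∀ a, P a := fun h => hcon fun a v hv =>
    (hW1 _).1 (h a v ((hW1 v).2 hv))
  obtain ⟨b, hb⟩ := not_forall.1 hPall
  haveI : Fintype G := Fintype.ofFinite G
  obtain ⟨a, haP, hmin⟩ := Finset.exists_min_image (Finset.univ.filter fun a => ¬ P a) Φ
    ⟨b, by simp [hb]⟩
  replace haP : ¬ P a := (Finset.mem_filter.1 haP).2
  set h := a * g * a⁻¹ with hh
  have hμ : μ ≠ 0 ∨ W 1 = ⊥ := by
    by_cases h0 : μ = 0
    · refine Or.inr (eq_bot_iff.2 fun v hv => ?_)
      have := hiso g v
      rw [(hW1 v).1 hv, h0, zero_smul, norm_zero] at this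
      exact (Submodule.mem_bot ℂ).2 (norm_eq_zero.1 this.symm)
    · exact Or.inl h0
  rcases hμ with hμ | hbot
  swap
  · exact haP fun v hv => by
      rw [hbot, Submodule.mem_bot] at hv
      simp [hv]
  have hμ1 : ∀ {v : E}, v ∈ W 1 → v ≠ 0 → ‖μ‖ = 1 := by
    intro v hv hv0
    have := hiso g v
    rw [(hW1 v).1 hv, norm_smul] at this
    exact (mul_left_eq_self₀.mp this).resolve_right (norm_ne_zero_iff.mpr hv0)
  -- conjugating the eigenspace
  have hmap : ∀ c a v, v ∈ W a → π c v ∈ W (c * a) := by
    intro c a v hv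
    rw [hW, ← mul_apply_eq_comp, ← map_mul,
      show c * a * g * (c * a)⁻¹ * c = c * (a * g * a⁻¹) by group, map_mul, mul_apply_eq_comp,
      (hW a v).1 hv, map_smul]
  have hnorm : ‖π h - μ • 1‖ < 1 := by
    have he : π h - μ • 1 = π a * (π g - μ • 1) * π a⁻¹ := by
      rw [mul_sub, sub_mul, ← map_mul, ← map_mul, mul_smul_comm, smul_mul_assoc, mul_one,
        ← map_mul, mul_inv_cancel, map_one]
    rw [he]
    refine lt_of_le_of_lt (opNorm_le_bound _ (norm_nonneg _) fun v => ?_) h1
    rw [mul_apply_eq_comp, mul_apply_eq_comp, hiso]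
    exact (le_opNorm _ _).trans (by rw [hiso])
  set r := ‖π h - μ • 1‖
  have hstep : ∀ v ∈ W 1, ‖v - (W h).starProjection v‖ ≤ r * ‖v - (W a).starProjection v‖ := by
    intro v hv
    rcases eq_or_ne v 0 with rfl | hv0
    · simp
    have hmem : μ⁻¹ • π h v ∈ W h := by
      refine Submodule.smul_mem _ _ ?_
      simpa using hmap h 1 v hv
    calc ‖v - (W h).starProjection v‖ ≤ ‖v - μ⁻¹ • π h v‖ := by
          rw [Submodule.starProjection_minimal]
          exact ciInf_le ⟨0, Set.forall_mem_range.2 fun _ => norm_nonneg _⟩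
            (⟨_, hmem⟩ : W h)
      _ = ‖(π h - μ • 1) v‖ := by
          have : v - μ⁻¹ • π h v = -(μ⁻¹ • (π h - μ • 1) v) := by
            rw [sub_apply, smul_apply, one_apply_eq_self, smul_sub, smul_smul,
              inv_mul_cancel₀ hμ, one_smul, neg_sub]
          rw [this, norm_neg, norm_smul, norm_inv, hμ1 hv hv0, inv_one, one_mul]
      _ = ‖(π h - μ • 1) (v - (W a).starProjection v)‖ := by
          have : (π h - μ • 1) ((W a).starProjection v) = 0 := by
            rw [sub_apply, smul_apply, one_apply_eq_self,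
              (hW a _).1 (Submodule.starProjection_apply_mem _ _), sub_self]
          rw [map_sub _ v, this, sub_zero]
      _ ≤ r * ‖v - (W a).starProjection v‖ := le_opNorm _ _
  have hne : Φ a ≠ 0 := by
    intro h0
    apply haP
    have hsub : W 1 ≤ W a := by
      intro v hv
      have hS : ∀ i, (S i : E) ∈ W a := by
        intro i
        have := (Finset.sum_eq_zero_iff_of_nonneg fun i _ => norm_nonneg _).1 h0 i (Finset.mem_univ i)
        rw [norm_eq_zero, sub_eq_zero] at this
        rw [this]; exact Submodule.starProjection_apply_mem _ _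
      have := congrArg Subtype.val (S.sum_repr ⟨v, hv⟩)
      simp only [Submodule.coe_sum, Submodule.coe_smul] at this
      rw [← this]
      exact Submodule.sum_mem _ fun i _ => Submodule.smul_mem _ _ (hS i)
    intro v hv
    rw [(hW a v).1 (hsub hv)]
    exact Submodule.smul_mem _ _ hv
  have hlt : Φ h < Φ a := by
    calc Φ h ≤ r * Φ a := by
          rw [Finset.mul_sum]
          exact Finset.sum_le_sum fun i _ => hstep _ (S i).2
      _ < Φ a := mul_lt_of_lt_one_left
          ((Finset.sum_nonneg fun i _ => norm_nonneg _).lt_of_ne' hne) hnorm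
  have hPh : P h := by
    by_contra hc
    exact absurd (hmin h (by simp [hc])) (not_le.2 hlt)
  -- the new element fixes the eigenspace pointwise
  set k := h * g * h⁻¹ with hk
  have hsub : W 1 ≤ W h := by
    intro v hv
    rcases eq_or_ne v 0 with rfl | hv0
    · simp
    set N := orderOf k with hN
    have hN0 : 0 < N := orderOf_pos k
    have hμN : μ ^ N = 1 := by
      have e : ∀ n : ℕ, π (g ^ n) v = μ ^ n • v := by
        intro n
        induction n with
        | zero => simp
        | succ n ih =>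
          rw [pow_succ, map_mul, mul_apply_eq_comp, (hW1 v).1 hv, map_smul, ih, smul_smul,
            pow_succ' μ]
      have := e N
      rw [hN, hk, ← MulAut.conj_apply, MulEquiv.orderOf_eq, pow_orderOf_eq_one, map_one,
        one_apply_eq_self] at this
      have h2 : (μ ^ orderOf g - 1) • v = 0 := by rw [sub_smul, one_smul, ← this, sub_self]
      rw [hN, hk, ← MulAut.conj_apply, MulEquiv.orderOf_eq]
      exact sub_eq_zero.1 ((smul_eq_zero.1 h2).resolve_right hv0)
    let A : E := ∑ j ∈ Finset.range N, (μ⁻¹) ^ j • π (k ^ j) v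
    have hA1 : A ∈ W 1 := by
      refine Submodule.sum_mem _ fun j hj => Submodule.smul_mem _ _ ?_
      clear hj
      induction j with
      | zero => simpa using hv
      | succ j ih => rw [pow_succ', map_mul, mul_apply_eq_comp]; exact hPh _ ih
    have hAh : A ∈ W h := by
      rw [hW, ← hk]
      have e : π k A = μ • ∑ j ∈ Finset.range N, (μ⁻¹) ^ (j + 1) • π (k ^ (j + 1)) v := by
        simp only [A, map_sum, Finset.smul_sum, map_smul, smul_smul]
        refine Finset.sum_congr rfl fun j _ => ?_
        rw [pow_succ' k, show π (k * k ^ j) = π k * π (k ^ j) from map_mul π k _, mul_apply_eq_comp]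
        congr 1
        rw [pow_succ', ← mul_assoc, mul_inv_cancel₀ hμ, one_mul]
      rw [e]
      congr 1
      have h3 := Finset.sum_range_succ' (fun j => (μ⁻¹) ^ j • π (k ^ j) v) N
      rw [Finset.sum_range_succ] at h3
      simp only [hN, pow_orderOf_eq_one, pow_zero] at h3
      rw [inv_pow, ← hN, hμN, inv_one] at h3
      exact add_right_cancel h3.symm
    set u := (N : ℂ)⁻¹ • A with hu
    have hu1 : u ∈ W h := Submodule.smul_mem _ _ hAh
    have hu2 : u ∈ W 1 := Submodule.smul_mem _ _ hA1
    have horth : ∀ w ∈ W h, ⟪w, v - u⟫_ℂ = 0 := by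
      intro w hw
      rcases eq_or_ne w 0 with rfl | hw0
      · simp
      have hμn := hμ1 hv hv0
      have e : ∀ j : ℕ, π (k ^ j) w = μ ^ j • w := by
        intro j
        induction j with
        | zero => simp
        | succ j ih =>
          have := (hW h w).1 hw
          rw [← hk] at this
          rw [pow_succ, map_mul, mul_apply_eq_comp, this, map_smul, ih, smul_smul, pow_succ' μ]
      have e2 : ∀ j : ℕ, ⟪w, (μ⁻¹) ^ j • π (k ^ j) v⟫_ℂ = ⟪w, v⟫_ℂ := by
        intro j
        have h4 : ⟪π (k ^ j) w, π (k ^ j) v⟫_ℂ = ⟪w, v⟫_ℂ :=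
          LinearIsometry.inner_map_map ⟨(π (k ^ j) : E →ₗ[ℂ] E), hiso _⟩ w v
        rw [e, inner_smul_left] at h4
        rw [inner_smul_right, ← h4, map_pow (starRingEnd ℂ), Complex.inv_eq_conj hμn]
      rw [inner_sub_right, hu, inner_smul_right, inner_sum, Finset.sum_congr rfl fun j _ => e2 j,
        Finset.sum_const, Finset.card_range, nsmul_eq_mul, ← mul_assoc,
        inv_mul_cancel₀ (Nat.cast_ne_zero.2 hN0.ne'), one_mul, sub_self]
    set z := v - u with hz
    have hz1 : z ∈ W 1 := Submodule.sub_mem _ hv hu2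
    suffices hz0 : z = 0 by rw [sub_eq_zero.1 hz0]; exact hu1
    by_contra hz0
    have h5 : π h z ∈ W h := by simpa using hmap h 1 z hz1
    have h6 : ⟪π h z, z⟫_ℂ = 0 := horth _ h5
    have h7 : ‖(π h - μ • 1) z‖ < ‖z‖ := lt_of_le_of_lt (le_opNorm _ _)
      (mul_lt_of_lt_one_left (norm_pos_iff.2 hz0) hnorm)
    rw [sub_apply, smul_apply, one_apply_eq_self] at h7
    have h8 : ‖π h z - μ • z‖ ^ 2 = 2 * ‖z‖ ^ 2 := by
      rw [norm_sub_sq (𝕜 := ℂ), inner_smul_right, h6, mul_zero, map_zero, hiso, norm_smul,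
        hμ1 hz1 hz0, one_mul]
      ring
    nlinarith [norm_nonneg (π h z - μ • z), norm_nonneg z]
  apply haP
  have heq : (W 1).map (π h : E →ₗ[ℂ] E) = W 1 := by
    have hle : (W 1).map (π h : E →ₗ[ℂ] E) ≤ W h := by
      rintro _ ⟨v, hv, rfl⟩
      have := hmap h 1 v hv
      rw [mul_one] at this
      exact this
    have hinj : Function.Injective (π h : E →ₗ[ℂ] E) := fun x y hxy => by
      have h' : π h x = π h y := hxy
      have := congrArg (π h⁻¹) h'
      rwa [← mul_apply_eq_comp, ← mul_apply_eq_comp, ← map_mul, inv_mul_cancel, map_one,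
        one_apply_eq_self, one_apply_eq_self] at this
    have hle' : W h ≤ (W 1).map (π h : E →ₗ[ℂ] E) := by
      intro w hw
      have := hmap h⁻¹ h w hw
      rw [inv_mul_cancel] at this
      refine ⟨π h⁻¹ w, this, ?_⟩
      show π h (π h⁻¹ w) = w
      rw [← mul_apply_eq_comp, ← map_mul, mul_inv_cancel, map_one, one_apply_eq_self]
    refine (Submodule.eq_of_le_of_finrank_le (hsub.trans hle') ?_).symm
    exact (LinearEquiv.finrank_eq (Submodule.equivMapOfInjective _ hinj _)).ge
  intro v hv
  rw [← heq]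
  exact ⟨v, hv, rfl⟩

end CfsgLib.CharDegreesTheory
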