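import Cfsg.Agent.Lib.BlockSections.Exceptional
import Cfsg.Agent.Lib.RealChar.SmallDegreeSylow
import Cfsg.Agent.Lib.CharDegreesTheory.InvariantConstituent
import Cfsg.Agent.Lib.CharDegreesTheory.BlockDegrees
import Cfsg.Agent.Lib.Clifford.Basic
import Cfsg.Agent.Lib.CharTheory.Ito
import Cfsg.Agent.Lib.Subnormal.Cover

/-!
# Groups with all irreducible degrees below a prime
-/

set_option autoImplicit false
set_option linter.style.haveILetI false
set_option linter.unusedSectionVars false

namespace CfsgLib.CharDegreesTheory.SmallDegrees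

open Cfsg CfsgLib.CharTheory CfsgLib.Clifford Finset
open scoped ComplexConjugate

universe u

variable {G : Type u} [Group G] [Finite G]

/-- Every irreducible degree is below `p`. -/
def DegLT (p : ℕ) (G : Type u) [Group G] : Prop :=
  ∀ χ : IrrCharacter G, charDegree (χ : G → ℂ) < p

theorem charDegree_one (χ : IrrCharacter G) : (χ : G → ℂ) 1 = (charDegree (χ : G → ℂ) : ℂ) := by
  haveI := Fintype.ofFinite G
  exact (CfsgLib.BrauerCharacters.charDegree_spec χ).1

/-- A constituent has at most the degree. -/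
theorem degree_le_of_constituent (K : Subgroup G) [Fintype K] (θ : IrrCharacter K) (χ : IrrCharacter G)
    (h : classInner (fun k : K => (χ : G → ℂ) k) (θ : K → ℂ) ≠ 0) :
    charDegree (θ : K → ℂ) ≤ charDegree (χ : G → ℂ) := by
  classical
  haveI := Fintype.ofFinite (IrrCharacter K)
  obtain ⟨m, hm⟩ := IsCharacter.exists_sum (G := K)
    (CfsgLib.Coherence.isCharacter_comp (IsIrrCharacter.isCharacter χ.2) K.subtype)
  have hm' : (fun k : K => (χ : G → ℂ) k) = ∑ φ : IrrCharacter K, (m φ : ℂ) • (φ : K → ℂ) := hm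
  have hθ : m θ ≠ 0 := by
    intro h0
    apply h
    rw [hm', classInner_sum_left]
    refine sum_eq_zero fun φ _ => ?_
    by_cases e : φ = θ
    · rw [e, h0, Nat.cast_zero, zero_smul, classInner_zero_left]
    · rw [classInner_smul_left,
        classInner_eq_zero_of_ne φ.2 θ.2 fun e' => e (Subtype.ext e'), mul_zero]
  have h1 := congrFun hm' 1
  simp only [Finset.sum_apply, Pi.smul_apply, smul_eq_mul, OneMemClass.coe_one, charDegree_one] at h1
  have h2 : charDegree (χ : G → ℂ) = ∑ φ : IrrCharacter K, m φ * charDegree (φ : K → ℂ) := by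
    exact_mod_cast h1
  rw [h2]
  exact le_trans (Nat.le_mul_of_pos_left _ (Nat.pos_of_ne_zero hθ))
    (single_le_sum (f := fun φ : IrrCharacter K => m φ * charDegree (φ : K → ℂ))
      (fun _ _ => Nat.zero_le _) (mem_univ θ))

theorem exists_over (K : Subgroup G) [Fintype K] (θ : IrrCharacter K) :
    ∃ χ : IrrCharacter G, classInner (fun k : K => (χ : G → ℂ) k) (θ : K → ℂ) ≠ 0 := by
  obtain ⟨χ, hχ⟩ := CfsgLib.CharDegreesTheory.exists_constituent K θ
  refine ⟨χ, fun h => hχ ?_⟩
  have := (classInner_eq_mult K.subtype (IsIrrCharacter.isCharacter χ.2) θ).symm.trans h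
  exact_mod_cast this

theorem DegLT.subgroup {p : ℕ} (h : DegLT p G) (K : Subgroup G) : DegLT p K := by
  haveI := Fintype.ofFinite K
  intro θ
  obtain ⟨χ, hχ⟩ := exists_over K θ
  exact lt_of_le_of_lt (degree_le_of_constituent K θ χ hχ) (h χ)

theorem DegLT.quotient {p : ℕ} (h : DegLT p G) (K : Subgroup G) [K.Normal] : DegLT p (G ⧸ K) := by
  intro θ
  exact h ⟨_, isIrrCharacter_comp θ.2 (QuotientGroup.mk'_surjective K)⟩

theorem eq_trivIrr_of_const {χ : IrrCharacter G} (h : ∀ g, (χ : G → ℂ) g = (χ : G → ℂ) 1) :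
    χ = trivIrr G := by
  haveI := Fintype.ofFinite G
  refine Subtype.ext (funext fun g => ?_)
  rw [h g, CfsgLib.RealChar.degree_eq_one_of_const χ.2 h]
  rfl

/-- A group all of whose irreducible characters are linear is abelian. -/
theorem comm_of_linear (h : ∀ χ : IrrCharacter G, (χ : G → ℂ) 1 = 1) (a b : G) : a * b = b * a := by
  haveI := Fintype.ofFinite G
  by_contra hne
  obtain ⟨χ, hχ⟩ := exists_irr_apply_ne (g := a * b * a⁻¹ * b⁻¹) fun e => hne (by
    rwa [mul_inv_eq_one, mul_inv_eq_iff_eq_mul] at e)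
  exact hχ (CfsgLib.RealChar.commutator_kernel_of_degree_one χ.2 (h χ) a b)

theorem comm_of_isPGroup {p : ℕ} [hp : Fact p.Prime] (h : DegLT p G) (hG : IsPGroup p G) (a b : G) :
    a * b = b * a := by
  haveI := Fintype.ofFinite G
  refine comm_of_linear (fun χ => ?_) a b
  obtain ⟨k, hk⟩ := IsPGroup.iff_card.1 hG
  obtain ⟨j, -, hj⟩ := (Nat.dvd_prime_pow hp.out).1
    (hk ▸ (CfsgLib.BrauerCharacters.charDegree_spec χ).2.2)
  rcases Nat.eq_zero_or_pos j with e | e
  · rw [charDegree_one, hj, e, pow_zero, Nat.cast_one]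
  · have h1 := h χ
    rw [hj] at h1
    exact absurd h1 (not_lt.2 (Nat.le_self_pow e.ne' p))

theorem comm_of_two (h : DegLT 2 G) (a b : G) : a * b = b * a := by
  haveI := Fintype.ofFinite G
  refine comm_of_linear (fun χ => ?_) a b
  have h1 := h χ
  have h2 := (CfsgLib.BrauerCharacters.charDegree_spec χ).2.1
  rw [charDegree_one, show charDegree (χ : G → ℂ) = 1 by omega, Nat.cast_one]

theorem DegLT.not_dvd {p : ℕ} (h : DegLT p G) (χ : IrrCharacter G) :
    ¬ p ∣ charDegree (χ : G → ℂ) := by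
  haveI := Fintype.ofFinite G
  intro hd
  have := Nat.le_of_dvd (CfsgLib.BrauerCharacters.charDegree_spec χ).2.1 hd
  have := h χ
  omega

/-- A `p'`-subgroup with supplement `P` is centralised by `P`. -/
theorem centralizes {p : ℕ} [hp : Fact p.Prime] (h : ∀ χ : IrrCharacter G, ¬ p ∣ charDegree (χ : G → ℂ))
    (N : Subgroup G) [N.Normal]
    (hN : ¬ p ∣ Nat.card N) (P : Sylow p G) (hPN : (P : Subgroup G) ⊔ N = ⊤) :
    ∀ n ∈ N, ∀ g ∈ (P : Subgroup G), g * n = n * g := by
  classical
  haveI := Fintype.ofFinite G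
  haveI := Fintype.ofFinite N
  obtain ⟨k, hk⟩ := IsPGroup.iff_card.1 P.2
  have hidx : N.index ∣ p ^ k := by
    rw [← hk, ← Subgroup.relIndex_top_right, ← hPN, Subgroup.relIndex_sup_right]
    exact Subgroup.index_dvd_card _
  have hinv : ∀ (θ : IrrCharacter N) (g : G), conjChar N (θ : N → ℂ) g = θ := by
    intro θ g
    obtain ⟨χ, hχ⟩ := exists_over N θ
    set T := CfsgLib.CharTheory.inertia N (θ : N → ℂ)
    have hT : ∀ g : G, g ∈ T ↔ conjChar N (θ : N → ℂ) g = θ := fun g => by
      rw [CfsgLib.CharTheory.mem_inertia, conjChar_eq_self_iff]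
    have hcard := card_conjOrbit N (θ : N → ℂ) T hT
    have hdvd : (conjOrbit N (θ : N → ℂ)).card ∣ p ^ k := by
      rw [hcard]
      exact dvd_trans (Subgroup.index_dvd_of_le
        (CfsgLib.CharTheory.le_inertia N (IsIrrCharacter.isClassFunction θ.2))) hidx
    obtain ⟨e, he⟩ := IsCharacter.exists_classInner_eq_nat (G := N)
      (CfsgLib.Coherence.isCharacter_comp (IsIrrCharacter.isCharacter χ.2) N.subtype) θ
    have h1 := apply_one_eq N χ.2 θ.2 hχ
    erw [he] at h1
    rw [charDegree_one, charDegree_one] at h1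
    have h2 : charDegree (χ : G → ℂ) =
        e * (conjOrbit N (θ : N → ℂ)).card * charDegree (θ : N → ℂ) := by exact_mod_cast h1
    obtain ⟨j, -, hj⟩ := (Nat.dvd_prime_pow hp.out).1 hdvd
    have hT1 : T = ⊤ := by
      rw [← Subgroup.index_eq_one, ← hcard, hj]
      rcases Nat.eq_zero_or_pos j with e' | e'
      · rw [e', pow_zero]
      · refine absurd ?_ (h χ)
        rw [h2, hj]
        exact ((dvd_pow_self p e'.ne').trans (dvd_mul_left _ _)).trans (dvd_mul_right _ _)
    exact (hT g).1 (hT1 ▸ Subgroup.mem_top g)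
  have hconj : ∀ (n : N) (g : G), IsConj n (MulAut.conjNormal g n) := by
    intro n g
    refine CfsgLib.CharTheory.isConj_of_forall_irr fun θ => ?_
    have e := congrFun (hinv θ g) n
    rw [conjChar_eq_comp] at e
    exact e.symm
  set C : Subgroup N := (Subgroup.centralizer ((P : Subgroup G) : Set G)).subgroupOf N
  have hC : C = ⊤ := by
    refine CfsgLib.Subnormal.eq_top_of_forall_exists_conj_mem fun z => ?_
    let S := {x : N // IsConj z x}
    letI act : MulAction (P : Subgroup G) S :=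
      { smul := fun g x => ⟨MulAut.conjNormal (g : G) x.1, x.2.trans (hconj x.1 g)⟩
        one_smul := fun x => Subtype.ext (by
          show MulAut.conjNormal ((1 : (P : Subgroup G)) : G) x.1 = x.1
          rw [OneMemClass.coe_one, map_one, MulAut.one_apply])
        mul_smul := fun a b x => Subtype.ext (by
          show MulAut.conjNormal ((a * b : (P : Subgroup G)) : G) x.1 =
            MulAut.conjNormal (a : G) (MulAut.conjNormal (b : G) x.1)
          rw [Subgroup.coe_mul, map_mul, MulAut.mul_apply]) }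
    have hS : ¬ p ∣ Nat.card S := by
      intro hd
      refine hN (hd.trans ?_)
      rw [show Nat.card S = (Subgroup.centralizer ({z} : Set N)).index from
        CfsgLib.CharTheory.card_isConj z]
      exact Subgroup.index_dvd_card _
    obtain ⟨x, hx⟩ := P.2.nonempty_fixed_point_of_prime_not_dvd_card S hS
    obtain ⟨c, hc⟩ := isConj_iff.1 x.2
    refine ⟨c, ?_⟩
    rw [hc]
    show (x.1 : G) ∈ Subgroup.centralizer ((P : Subgroup G) : Set G)
    rw [Subgroup.mem_centralizer_iff]
    intro g hg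
    have e := congrArg (fun s : S => ((s.1 : N) : G)) (hx ⟨g, hg⟩)
    change ((MulAut.conjNormal g x.1 : N) : G) = x.1 at e
    rw [MulAut.conjNormal_apply] at e
    exact mul_inv_eq_iff_eq_mul.1 e
  intro n hn g hg
  have : (⟨n, hn⟩ : N) ∈ C := hC ▸ Subgroup.mem_top _
  exact Subgroup.mem_centralizer_iff.1 this g hg

/-- All nontrivial degrees equal to `p - 1` is impossible. -/
theorem false_of_all_degrees {p : ℕ} [hp : Fact p.Prime] (hp2 : p ≠ 2) {x : G} (hx : x ≠ 1)
    (h : ∀ χ : IrrCharacter G, χ ≠ trivIrr G → charDegree (χ : G → ℂ) + 1 = p) : False := by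
  classical
  haveI := Fintype.ofFinite G
  haveI := Fintype.ofFinite (IrrCharacter G)
  have h0 := sum_degree_mul (G := G) x
  rw [if_neg hx, ← add_sum_erase _ _ (mem_univ (trivIrr G)), trivIrr_apply, trivIrr_apply, one_mul,
    sum_congr rfl (g := fun χ : IrrCharacter G => ((p - 1 : ℕ) : ℂ) * (χ : G → ℂ) x) (fun χ hχ => by
      rw [charDegree_one, show charDegree (χ : G → ℂ) = p - 1 by
        have := h χ (mem_erase.1 hχ).1; omega]), ← mul_sum] at h0
  set S₁ := ∑ χ ∈ univ.erase (trivIrr G), (χ : G → ℂ) x with hS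
  have hint : IsIntegral ℤ S₁ := IsIntegral.sum _ fun χ _ =>
    IsCharacter.isIntegral (IsIrrCharacter.isCharacter χ.2) x
  have hd : p - 1 ∣ 1 := by
    refine dvd_of_isIntegral_natCast_div (a := 1) (b := p - 1) (by have := hp.out.two_le; omega) ?_
    have hne : ((p - 1 : ℕ) : ℂ) ≠ 0 := Nat.cast_ne_zero.2 (by have := hp.out.two_le; omega)
    have : ((1 : ℕ) : ℂ) / ((p - 1 : ℕ) : ℂ) = -S₁ := by
      rw [Nat.cast_one, div_eq_iff hne]
      linear_combination h0
    rw [this]
    exact hint.neg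
  have := Nat.dvd_one.1 hd
  omega

/-- The irreducible characters of a simple nonabelian group are faithful. -/
theorem faithful [IsSimpleGroup G] {χ : IrrCharacter G} (hχ : χ ≠ trivIrr G) {g : G}
    (hg : (χ : G → ℂ) g = (χ : G → ℂ) 1) : g = 1 := by
  obtain ⟨K, hK, hmem, -⟩ := exists_kernel (IsIrrCharacter.isCharacter χ.2)
  rcases hK.eq_bot_or_eq_top with e | e
  · have := (hmem g).2 hg
    rwa [e, Subgroup.mem_bot] at this
  · exact absurd (eq_trivIrr_of_const fun g => (hmem g).1 (e ▸ Subgroup.mem_top g)) hχ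

theorem eq_trivIrr_of_linear [IsSimpleGroup G] (hG : ∃ a b : G, a * b ≠ b * a) (χ : IrrCharacter G)
    (h : (χ : G → ℂ) 1 = 1) : χ = trivIrr G := by
  by_contra hne
  obtain ⟨a, b, hab⟩ := hG
  have := faithful hne (CfsgLib.RealChar.commutator_kernel_of_degree_one χ.2 h a b)
  rw [mul_inv_eq_one, mul_inv_eq_iff_eq_mul] at this
  exact hab this

/-- A nontrivial character constant on `P#` has degree `p - 1` and vanishing `P`-sum. -/
theorem const_of_degLT [IsSimpleGroup G] {p : ℕ} [hp : Fact p.Prime] (h : DegLT p G)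
    (P : Subgroup G) (hP : Nat.card P = p) (χ : IrrCharacter G) (hχ : χ ≠ trivIrr G) {c : ℂ}
    (hc : ∀ y ∈ P, y ≠ 1 → (χ : G → ℂ) y = c) :
    charDegree (χ : G → ℂ) + 1 = p ∧ c = -1 ∧
      ∀ v : G, ∑ᶠ y ∈ (P : Set G), (χ : G → ℂ) (y * v) = 0 := by
  classical
  haveI := Fintype.ofFinite G
  haveI := Fintype.ofFinite P
  haveI : IsCyclic P := isCyclic_of_prime_card hP
  letI : CommGroup P := IsCyclic.commGroup
  haveI : Nontrivial P := Finite.one_lt_card_iff_nontrivial.1 (hP ▸ hp.out.one_lt)
  set n := charDegree (χ : G → ℂ) with hn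
  have hnp : n < p := h χ
  have hres : IsCharacter P (fun y : P => (χ : G → ℂ) y) :=
    CfsgLib.Coherence.isCharacter_comp (IsIrrCharacter.isCharacter χ.2) P.subtype
  obtain ⟨y₀, hy₀⟩ := exists_ne (1 : P)
  obtain ⟨l, hl⟩ := CommGroup.exists_apply_ne_one_of_hasEnoughRootsOfUnity P ℂ hy₀
  have hl1 : l ≠ 1 := fun e => hl (by rw [e]; rfl)
  obtain ⟨k, hk⟩ := IsCharacter.exists_classInner_eq_nat hres (trivIrr P)
  obtain ⟨k', hk'⟩ := IsCharacter.exists_classInner_eq_nat hres
    (⟨_, isIrrCharacter_linear l⟩ : IrrCharacter P)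
  have hsum : ∀ μ : P →* ℂˣ, ∑ y : P, (χ : G → ℂ) y * conj (μ y : ℂ) =
      ((n : ℂ) - c) + c * ∑ y : P, (((μ⁻¹ : P →* ℂˣ) y : ℂˣ) : ℂ) := by
    intro μ
    rw [mul_sum, ← add_sum_erase _ _ (mem_univ (1 : P)),
      ← add_sum_erase (univ : Finset P) (fun y => c * (((μ⁻¹ : P →* ℂˣ) y : ℂˣ) : ℂ)) (mem_univ 1),
      sum_congr rfl (g := fun y : P => c * (((μ⁻¹ : P →* ℂˣ) y : ℂˣ) : ℂ)) (fun y hy => by
        rw [hc y y.2 (fun e => (mem_erase.1 hy).1 (Subtype.ext e)),
          CfsgLib.BlockSections.Exceptional.conj_unit])]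
    simp only [OneMemClass.coe_one, map_one, Units.val_one, map_one, charDegree_one, mul_one, ← hn]
    ring
  have hp0 : (p : ℂ) ≠ 0 := Nat.cast_ne_zero.2 hp.out.ne_zero
  have e1 : (n : ℂ) - c + c * p = p * k := by
    have h1 := hsum 1
    rw [show (1 : P →* ℂˣ)⁻¹ = 1 from MonoidHom.ext fun y => inv_one] at h1
    simp only [MonoidHom.one_apply, Units.val_one, map_one, mul_one, sum_const, card_univ,
      nsmul_eq_mul, ← Nat.card_eq_fintype_card, hP] at h1
    rw [classInner, inv_mul_eq_iff_eq_mul₀ (Nat.cast_ne_zero.2 Nat.card_pos.ne'), hP] at hk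
    simp only [trivIrr_apply, map_one, mul_one] at hk
    rw [hk] at h1
    exact h1.symm
  have e2 : (n : ℂ) - c = p * k' := by
    have h1 := hsum l
    rw [CfsgLib.BlockSections.Exceptional.sum_apply_hom, if_neg (fun e => hl1
      (MonoidHom.ext fun x => inv_eq_one.1 (DFunLike.congr_fun e x))), mul_zero, add_zero] at h1
    rw [classInner, inv_mul_eq_iff_eq_mul₀ (Nat.cast_ne_zero.2 Nat.card_pos.ne'), hP] at hk'
    rw [← h1, ← hk']
  have e3 : n + k' = k + p * k' := by
    have h3 : (p : ℂ) * ((n : ℂ) + k') = p * (k + p * k') := by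
      linear_combination e1 + (p - 1 : ℂ) * e2
    have h4 := mul_left_cancel₀ hp0 h3
    exact_mod_cast h4
  have hk'0 : k' ≠ 0 := by
    intro e0
    rw [e0, Nat.cast_zero, mul_zero, sub_eq_zero] at e2
    have := faithful hχ ((hc y₀ y₀.2 fun e => hy₀ (Subtype.ext e)).trans
      (e2.symm.trans (charDegree_one χ).symm))
    exact hy₀ (Subtype.ext this)
  have hk'1 : k' = 1 := by
    by_contra hne
    have h2 : p * 2 ≤ p * k' := Nat.mul_le_mul_left p (by omega)
    have h3 : 2 * (k' - 1) ≤ p * (k' - 1) := Nat.mul_le_mul_right _ hp.out.two_le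
    have h4 : p * k' = p * (k' - 1) + p := by
      rw [← Nat.mul_succ]; congr 1; omega
    omega
  rw [hk'1, mul_one] at e3
  have hk0 : k = 0 := by omega
  have hn1 : n + 1 = p := by omega
  rw [hk'1, Nat.cast_one, mul_one] at e2
  have hn1' : (n : ℂ) + 1 = p := by exact_mod_cast hn1
  refine ⟨hn1, by linear_combination -e2 + hn1', ?_⟩
  obtain ⟨d, ρ, hρ, hρχ⟩ := id χ.2
  set σ : Representation ℂ P (Fin d → ℂ) := MonoidHom.comp ρ P.subtype
  have hinv : σ.invariants = ⊥ := by
    haveI : Invertible (Nat.card P : ℂ) := invertibleOfNonzero (Nat.cast_ne_zero.2 Nat.card_pos.ne')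
    refine Submodule.finrank_eq_zero.1 (Nat.cast_injective (R := ℂ) ?_)
    rw [← Representation.card_inv_mul_sum_char_eq_finrank, Nat.cast_zero]
    have : ∑ y : P, (χ : G → ℂ) y = 0 := by
      rw [classInner, inv_mul_eq_iff_eq_mul₀ (Nat.cast_ne_zero.2 Nat.card_pos.ne'), hk0,
        Nat.cast_zero, mul_zero] at hk
      simpa [trivIrr_apply] using hk
    rw [show (∑ y : P, σ.character y) = ∑ y : P, (χ : G → ℂ) y from
        sum_congr rfl fun y _ => congrFun hρχ (y : G), this, mul_zero]
  intro v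
  rw [finsum_mem_eq_finite_toFinset_sum _ (Set.toFinite _)]
  have hz : ∑ y : P, ρ (y : G) = 0 := LinearMap.ext fun w => by
    have hmem : ∑ y : P, ρ (y : G) w ∈ σ.invariants := by
      rw [Representation.mem_invariants]
      intro a
      rw [map_sum]
      refine Fintype.sum_equiv (Equiv.mulLeft a) _ _ fun y => ?_
      show ρ (a : G) (ρ (y : G) w) = ρ ((a * y : P) : G) w
      rw [Subgroup.coe_mul, map_mul]
      rfl
    rw [hinv, Submodule.mem_bot] at hmem
    rw [LinearMap.sum_apply, hmem, LinearMap.zero_apply]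
  rw [sum_subtype (p := fun y => y ∈ P) _ (fun y => by simp) fun y => (χ : G → ℂ) (y * v)]
  rw [sum_congr rfl (g := fun y : P => LinearMap.trace ℂ _ (ρ (y : G) * ρ v)) (fun y _ => by
    rw [← map_mul, ← hρχ]; rfl), ← map_sum, ← Finset.sum_mul]
  erw [hz]
  rw [zero_mul, map_zero]

/-- The simple case with a Sylow subgroup of order `p`. -/
theorem false_of_prime_order [IsSimpleGroup G] (hG : ∃ a b : G, a * b ≠ b * a) {p : ℕ}
    [hp : Fact p.Prime] (hp2 : p ≠ 2) (h : DegLT p G) (P : Sylow p G)
    (hP : Nat.card (P : Subgroup G) = p) : False := by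
  classical
  haveI := Fintype.ofFinite G
  haveI := Fintype.ofFinite (IrrCharacter G)
  haveI : IsCyclic (P : Subgroup G) := isCyclic_of_prime_card hP
  have hab : IsMulCommutative (P : Subgroup G) := ⟨⟨IsCyclic.commGroup.mul_comm⟩⟩
  haveI : Nontrivial (P : Subgroup G) := Finite.one_lt_card_iff_nontrivial.1 (by rw [hP]; exact hp.out.one_lt)
  obtain ⟨x₀, hx₀⟩ := exists_ne (1 : (P : Subgroup G))
  have hx₀' : (x₀ : G) ≠ 1 := fun e => hx₀ (Subtype.ext e)
  set m := (Subgroup.centralizer ((P : Subgroup G) : Set G)).relIndex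
    (Subgroup.normalizer ((P : Subgroup G) : Set G)) with hm
  have hgen : ∀ y : G, y ∈ (P : Subgroup G) → y ≠ 1 → Subgroup.zpowers y = (P : Subgroup G) := by
    intro y hy h1
    refine Subgroup.eq_of_le_of_card_ge (Subgroup.zpowers_le.2 hy) ?_
    rw [hP, Nat.card_zpowers]
    rcases (Nat.dvd_prime hp.out).1 (hP ▸ Subgroup.orderOf_dvd_natCard _ hy) with e | e
    · exact absurd (orderOf_eq_one_iff.1 e) h1
    · rw [e]
  have hF : CfsgLib.BlockSections.Exceptional.IsFrobSylow P m := ⟨hab, rfl, fun y hy h1 => by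
    rw [← CfsgLib.BrauerCharacters.centralizer_zpowers_eq, hgen y hy h1, inf_eq_left]
    exact Subgroup.centralizer_le_normalizer _⟩
  have hm0 : 0 < m := by rw [← CfsgLib.BlockSections.Exceptional.card_autP hF]; exact Nat.card_pos
  have hmle : m ≤ p - 1 := by
    rw [← CfsgLib.BlockSections.Exceptional.card_autP hF]
    have hinj : Function.Injective (fun α : CfsgLib.BlockSections.Exceptional.autP P =>
        (⟨(α : MulAut (P : Subgroup G)) x₀, fun e => hx₀ ((α : MulAut (P : Subgroup G)).map_eq_one_iff.1 e)⟩ :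
          {y : (P : Subgroup G) // y ≠ 1})) := fun α β e => Subtype.ext
      (CfsgLib.BlockSections.Exceptional.eq_of_autP_apply hF α.2 β.2 hx₀ (congrArg Subtype.val e))
    refine (Nat.card_le_card_of_injective _ hinj).trans ?_
    haveI := Fintype.ofFinite (P : Subgroup G)
    rw [Nat.card_eq_fintype_card, Fintype.card_subtype_compl, Fintype.card_subtype_eq,
      ← Nat.card_eq_fintype_card, hP]
  by_cases hm1 : m = 1
  · -- Burnside
    have hnc : Subgroup.normalizer ((P : Subgroup G) : Set G) ≤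
        Subgroup.centralizer ((P : Subgroup G) : Set G) := Subgroup.relIndex_eq_one.1 hm1
    have hcomp := MonoidHom.ker_transferSylow_isComplement' P hnc
    have hc := hcomp.card_mul_card
    rcases (inferInstance : (MonoidHom.transferSylow P hnc).ker.Normal).eq_bot_or_eq_top with e | e
    · rw [e, Subgroup.card_bot, one_mul, hP] at hc
      haveI : IsCyclic G := isCyclic_of_prime_card hc.symm
      obtain ⟨a, b, hne⟩ := hG
      letI : CommGroup G := IsCyclic.commGroup
      exact hne (mul_comm a b)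
    · rw [e, Subgroup.card_top, hP] at hc
      have := hp.out.one_lt
      nlinarith [Nat.card_pos (α := G)]
  by_cases hmp : m + 1 = p
  · -- all elements of `P#` are conjugate
    refine false_of_all_degrees hp2 hx₀' fun χ hχ => (const_of_degLT h (P : Subgroup G) hP χ hχ
      (c := (χ : G → ℂ) x₀) fun y hy h1 => ?_).1
    haveI := Fintype.ofFinite (P : Subgroup G)
    have hinj : Function.Injective (fun α : CfsgLib.BlockSections.Exceptional.autP P =>
        (⟨(α : MulAut (P : Subgroup G)) x₀, fun e => hx₀ ((α : MulAut (P : Subgroup G)).map_eq_one_iff.1 e)⟩ :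
          {y : (P : Subgroup G) // y ≠ 1})) := fun α β e => Subtype.ext
      (CfsgLib.BlockSections.Exceptional.eq_of_autP_apply hF α.2 β.2 hx₀ (congrArg Subtype.val e))
    have hbij := hinj.bijective_of_nat_card_le (by
      rw [CfsgLib.BlockSections.Exceptional.card_autP hF, Nat.card_eq_fintype_card,
        Fintype.card_subtype_compl, Fintype.card_subtype_eq, ← Nat.card_eq_fintype_card, hP]
      omega)
    obtain ⟨α, hα⟩ := hbij.2 ⟨⟨y, hy⟩, fun e => h1 (congrArg Subtype.val e)⟩
    have hc : IsConj (x₀ : G) y := (CfsgLib.BlockSections.Exceptional.isConj_iff_autP hF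
      (y := x₀) (y' := ⟨y, hy⟩)).2 ⟨α, α.2, congrArg Subtype.val hα⟩
    obtain ⟨c, hc⟩ := isConj_iff.1 hc
    rw [← hc]
    exact IsIrrCharacter.isClassFunction χ.2 _ c
  obtain ⟨M, hM⟩ := CfsgLib.CharDegreesTheory.exists_isPModular hp.out
  haveI := CfsgLib.Blocks.isPrime_of_isPModular hM
  obtain ⟨D⟩ := CfsgLib.BlockSections.Exceptional.exists_excData hF hM (m := m) (by omega) (by omega)
  obtain ⟨η₀, hη₀⟩ : D.Y.Nonempty := Set.nonempty_coe_sort.1 (Nat.card_pos_iff.1
    (by have := D.two_le; omega)).1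
  have hone : ¬ p ∣ orderOf (1 : G) := by rw [orderOf_one]; exact hp.out.not_dvd_one
  have hη₀1 : η₀ ≠ trivIrr G := fun e => Set.disjoint_left.1 D.disj D.triv (e ▸ hη₀)
  by_cases hX : ∃ χ₁ ∈ D.X, χ₁ ≠ trivIrr G
  swap
  · push Not at hX
    have hXe : D.X = {trivIrr G} := Set.eq_singleton_iff_unique_mem.2 ⟨D.triv, hX⟩
    have hr := D.reg η₀ hη₀ 1 hone
    rw [hXe, finsum_mem_singleton, D.a_triv, trivIrr_apply, charDegree_one] at hr
    refine hη₀1 (eq_trivIrr_of_linear hG η₀ ?_)
    have hi : ((Nat.card D.Y : ℤ) * D.d - D.δ) * (charDegree (η₀ : G → ℂ) : ℤ) = -1 := by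
      apply Int.cast_injective (α := ℂ)
      push_cast at hr ⊢
      linear_combination hr
    have hu : (charDegree (η₀ : G → ℂ) : ℤ) ∣ 1 := by
      rw [← dvd_neg, ← hi]; exact dvd_mul_left _ _
    have hu1 : charDegree (η₀ : G → ℂ) = 1 := Nat.dvd_one.1 (Int.natCast_dvd_natCast.1 (by simpa using hu))
    rw [charDegree_one, hu1, Nat.cast_one]
  obtain ⟨χ₁, hχ₁X, hχ₁⟩ := hX
  have hXdeg : ∀ χ ∈ D.X, χ ≠ trivIrr G → charDegree (χ : G → ℂ) + 1 = p := fun χ hχ hne =>
    (const_of_degLT h (P : Subgroup G) hP χ hne fun y hy h1 =>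
      D.val_X χ hχ y y (CfsgLib.BlockSections.Exceptional.isPPart_self hF hM hy) hy h1).1
  -- the centralizer of `P` is `P`
  obtain ⟨O, hOn, hO, hreg, hcard, -⟩ :=
    CfsgLib.BlockSections.Exceptional.exists_complement hF x₀.2 hx₀'
  have hO1 : O = ⊥ := by
    rw [eq_bot_iff]
    intro s hs
    have hsreg : ¬ p ∣ orderOf (s : G) := by rw [Subgroup.orderOf_coe]; exact (hreg s).2 hs
    obtain ⟨hdeg1, hc1, hsum⟩ := const_of_degLT h (P : Subgroup G) hP χ₁ hχ₁ fun y hy h1 =>
      D.val_X χ₁ hχ₁X y y (CfsgLib.BlockSections.Exceptional.isPPart_self hF hM hy) hy h1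
    have hs' : ∀ y : G, y ∈ (P : Subgroup G) → Commute y (s : G) := by
      intro y hy
      have hsc : (x₀ : G) * s = s * x₀ := (Subgroup.mem_centralizer_singleton_iff.1 s.2).symm
      obtain ⟨i, rfl⟩ := Subgroup.mem_zpowers_iff.1 ((hgen (x₀ : G) x₀.2 hx₀').symm ▸ hy)
      exact Commute.zpow_left hsc i
    have hval : ∀ y : G, y ∈ (P : Subgroup G) → y ≠ 1 → (χ₁ : G → ℂ) (y * s) = -1 := by
      intro y hy h1
      rw [← hc1]
      exact D.val_X χ₁ hχ₁X _ y ⟨s, rfl, hs' y hy,
        CfsgLib.BlockSections.Exceptional.isPElem hF hM hy, hsreg⟩ hy h1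
    have h0 := hsum (s : G)
    rw [finsum_mem_eq_finite_toFinset_sum _ (Set.toFinite _), ← add_sum_erase _ _
      (show (1 : G) ∈ (Set.toFinite ((P : Subgroup G) : Set G)).toFinset by simp [one_mem]), one_mul,
      sum_congr rfl (fun y hy => hval y ((Set.Finite.mem_toFinset _).1 (mem_erase.1 hy).2) (mem_erase.1 hy).1),
      sum_const, card_erase_of_mem (by simp [one_mem]),
      ← Set.ncard_eq_toFinset_card, ← Nat.card_coe_set_eq] at h0
    rw [SetLike.coe_sort_coe, hP, nsmul_eq_mul, Nat.cast_sub hp.out.one_lt.le, Nat.cast_one] at h0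
    have hdeg1' : (charDegree (χ₁ : G → ℂ) : ℂ) + 1 = p := by exact_mod_cast hdeg1
    rw [Subgroup.mem_bot]
    exact Subtype.ext (faithful hχ₁ (by
      rw [charDegree_one]; linear_combination h0 - hdeg1'))
  haveI := Fintype.ofFinite (Subgroup.centralizer ({(x₀ : G)} : Set G))
  rw [hO1, Subgroup.card_bot, one_mul, hP] at hcard
  -- all characters lie in the principal block
  have hall : ∀ χ : IrrCharacter G, χ ∈ principalBlock M G := by
    intro χ
    by_contra hχ
    have hcol : ∑ χ : IrrCharacter G, ‖(χ : G → ℂ) x₀‖ ^ 2 = (p : ℝ) := by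
      have := CfsgLib.CharTheory.sum_mul_conj (G := G) (x₀ : G) x₀
      rw [if_pos (IsConj.refl _), ← hcard] at this
      simp only [Complex.mul_conj'] at this
      exact_mod_cast this
    have hB : ∑ χ ∈ CfsgLib.BrauerCharacters.blockFinset (principalBlock M G),
        ‖(χ : G → ℂ) x₀‖ ^ 2 = (p : ℝ) := by
      have := CfsgLib.BlockSections.Exceptional.sum_principal_sq_eq hF hM x₀.2 hx₀'
      rw [hP] at this
      simp only [Complex.mul_conj'] at this
      exact_mod_cast this
    rw [← sum_sdiff (subset_univ (CfsgLib.BrauerCharacters.blockFinset (principalBlock M G))), hB,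
      add_eq_right, sum_eq_zero_iff_of_nonneg fun _ _ => sq_nonneg _] at hcol
    have hvan : ∀ y : G, y ∈ (P : Subgroup G) → y ≠ 1 → (χ : G → ℂ) y = 0 := by
      intro y hy h1
      have hcol' : ∑ φ : IrrCharacter G, ‖(φ : G → ℂ) y‖ ^ 2 = (p : ℝ) := by
        have := CfsgLib.CharTheory.sum_mul_conj (G := G) y y
        rw [if_pos (IsConj.refl _), show Subgroup.centralizer ({y} : Set G) =
          Subgroup.centralizer ({(x₀ : G)} : Set G) by
            rw [← CfsgLib.BrauerCharacters.centralizer_zpowers_eq, hgen y hy h1,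
              ← CfsgLib.BrauerCharacters.centralizer_zpowers_eq (x₀ : G), hgen _ x₀.2 hx₀'], ← hcard] at this
        simp only [Complex.mul_conj'] at this
        exact_mod_cast this
      have hB' : ∑ φ ∈ CfsgLib.BrauerCharacters.blockFinset (principalBlock M G),
          ‖(φ : G → ℂ) y‖ ^ 2 = (p : ℝ) := by
        have := CfsgLib.BlockSections.Exceptional.sum_principal_sq_eq hF hM hy h1
        rw [hP] at this
        simp only [Complex.mul_conj'] at this
        exact_mod_cast this
      rw [← sum_sdiff (subset_univ (CfsgLib.BrauerCharacters.blockFinset (principalBlock M G))), hB',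
        add_eq_right, sum_eq_zero_iff_of_nonneg fun _ _ => sq_nonneg _] at hcol'
      have := hcol' χ (mem_sdiff.2 ⟨mem_univ _, fun e => hχ (CfsgLib.BrauerCharacters.mem_blockFinset.1 e)⟩)
      simpa using this
    obtain ⟨-, hc, -⟩ := const_of_degLT h (P : Subgroup G) hP χ
      (fun e => hχ (e ▸ CfsgLib.Blocks.sameBlock_refl _)) hvan
    norm_num at hc
  -- the order of `G`
  have hrY := D.two_le
  have hcY := D.card_Y
  rw [hP] at hcY
  set r := Nat.card D.Y with hrdef
  set E := charDegree (η₀ : G → ℂ)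
  have hsq : (Nat.card G : ℤ) = ∑ χ : IrrCharacter G, (charDegree (χ : G → ℂ) : ℤ) ^ 2 := by
    apply Int.cast_injective (α := ℂ)
    push_cast
    rw [← sum_degree_sq (G := G)]
    exact sum_congr rfl fun χ _ => by rw [← charDegree_one]
  have hr1 : (r : ℤ) ∣ 1 := by
    have hrp : (r : ℤ) ∣ (p : ℤ) - 1 := ⟨m, by rw [← hcY]; push_cast; ring⟩
    have hG' : ((p : ℤ) - 1) ∣ (Nat.card G : ℤ) := by
      have h1 := hXdeg χ₁ hχ₁X hχ₁
      have h2 := (CfsgLib.BrauerCharacters.charDegree_spec χ₁).2.2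
      rw [show ((p : ℤ) - 1) = ((charDegree (χ₁ : G → ℂ) : ℕ) : ℤ) by
        rw [← h1]; push_cast; ring]
      exact Int.natCast_dvd_natCast.2 h2
    have hsum := hrp.trans hG'
    rw [hsq, ← sum_filter_add_sum_filter_not univ (fun χ : IrrCharacter G => χ ∈ D.X)] at hsum
    have hYpart : (r : ℤ) ∣ ∑ χ ∈ univ.filter (fun χ : IrrCharacter G => χ ∉ D.X),
        (charDegree (χ : G → ℂ) : ℤ) ^ 2 := by
      rw [sum_congr rfl (g := fun _ => (E : ℤ) ^ 2) (fun χ hχ => by
        have hY : χ ∈ D.Y := (D.union ▸ hall χ : χ ∈ D.X ∪ D.Y).resolve_left (mem_filter.1 hχ).2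
        have := D.agree χ hY η₀ hη₀ 1 hone
        rw [charDegree_one, charDegree_one, Nat.cast_inj] at this
        rw [this]), sum_const, nsmul_eq_mul]
      refine dvd_mul_of_dvd_left (Int.natCast_dvd_natCast.2 (dvd_of_eq ?_)) _
      rw [hrdef, ← Nat.card_eq_finsetCard]
      refine Nat.card_congr (Equiv.subtypeEquivRight fun χ => ?_)
      simp only [mem_filter, mem_univ, true_and]
      exact ⟨fun hY hX => Set.disjoint_left.1 D.disj hX hY,
        fun hX => (D.union ▸ hall χ : χ ∈ D.X ∪ D.Y).resolve_left hX⟩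
    have hXpart := (Int.dvd_add_left hYpart).1 hsum
    have htriv : trivIrr G ∈ univ.filter (fun χ : IrrCharacter G => χ ∈ D.X) :=
      mem_filter.2 ⟨mem_univ _, D.triv⟩
    rw [← add_sum_erase _ _ htriv] at hXpart
    have hrest : (r : ℤ) ∣ ∑ χ ∈ (univ.filter (fun χ : IrrCharacter G => χ ∈ D.X)).erase (trivIrr G),
        (charDegree (χ : G → ℂ) : ℤ) ^ 2 := by
      refine dvd_sum fun χ hχ => dvd_pow ?_ two_ne_zero
      have h1 := hXdeg χ (mem_filter.1 (mem_erase.1 hχ).2).2 (mem_erase.1 hχ).1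
      refine hrp.trans (dvd_of_eq ?_)
      rw [← h1]; push_cast; ring
    have := (Int.dvd_add_left hrest).1 hXpart
    simpa [charDegree, trivIrr_apply] using this
  have := Int.le_of_dvd one_pos hr1
  omega

/-- Normality of the Sylow subgroup. -/
theorem sylow_normal {p : ℕ} [hp : Fact p.Prime] :
    ∀ (c : ℕ) (G : Type u) [Group G] [Finite G], Nat.card G = c → DegLT p G →
      ∀ P : Sylow p G, (P : Subgroup G).Normal := by
  intro c
  induction c using Nat.strong_induction_on with
  | _ c ih =>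
    intro G _ _ hc hdeg P
    classical
    haveI := Fintype.ofFinite G
    by_cases hcomm : ∀ a b : G, a * b = b * a
    · exact ⟨fun n hn g => by rwa [hcomm g n, mul_inv_cancel_right]⟩
    have hsub : ∀ K : Subgroup G, K ≠ ⊤ → ∀ Q : Sylow p K, (Q : Subgroup K).Normal := fun K hK =>
      ih (Nat.card K) (hc ▸ lt_of_le_of_ne (Subgroup.card_le_card_group K)
        fun e => hK ((Subgroup.card_eq_iff_eq_top K).mp e)) K rfl (hdeg.subgroup K)
    by_cases hsimple : ∀ N : Subgroup G, N.Normal → N = ⊥ ∨ N = ⊤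
    · haveI : Nontrivial G := by
        push Not at hcomm
        obtain ⟨a, b, h⟩ := hcomm
        exact ⟨⟨_, _, h⟩⟩
      haveI : IsSimpleGroup G := ⟨hsimple⟩
      by_cases hP1 : (P : Subgroup G) = ⊥
      · rw [hP1]; infer_instance
      have hp2 : p ≠ 2 := fun e => hcomm (comm_of_two (e ▸ hdeg))
      have hG : ∃ a b : G, a * b ≠ b * a := by push Not at hcomm; exact hcomm
      obtain ⟨k, hk⟩ := IsPGroup.iff_card.1 P.2
      have hk0 : k ≠ 0 := fun e => hP1 (Subgroup.eq_bot_of_card_eq _ (by rw [hk, e, pow_zero]))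
      by_cases hk1 : k = 1
      · exact (false_of_prime_order hG hp2 hdeg P (by rw [hk, hk1, pow_one])).elim
      have hp2G : p ^ 2 ∣ Nat.card G :=
        ((pow_dvd_pow p (by omega : 2 ≤ k)).trans (dvd_of_eq hk.symm)).trans
          (Subgroup.card_subgroup_dvd_card _)
      obtain ⟨χ, hχ, hlt⟩ : ∃ χ : IrrCharacter G, χ ≠ trivIrr G ∧ charDegree (χ : G → ℂ) + 1 < p := by
        by_contra hn
        push Not at hn
        haveI : Nontrivial (P : Subgroup G) := (Subgroup.nontrivial_iff_ne_bot _).2 hP1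
        obtain ⟨x, hx⟩ := exists_ne (1 : (P : Subgroup G))
        exact false_of_all_degrees hp2 (x := (x : G)) (fun e => hx (Subtype.ext e)) fun χ hχ =>
          le_antisymm (hdeg χ) (hn χ hχ)
      obtain ⟨n, ρ, hρ, hρχ⟩ := id χ.2
      have hn : n = charDegree (χ : G → ℂ) := by
        have := congrFun hρχ 1
        rw [Representation.char_one, Module.finrank_fin_fun, charDegree_one] at this
        exact_mod_cast this
      refine CfsgLib.RealChar.normal_sylow_step n ρ ((injective_iff_map_eq_one _).2 fun g hg => ?_)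
        (hn ▸ hlt) hsub (Or.inr hp2G) P
      refine faithful hχ ?_
      rw [← hρχ]
      show LinearMap.trace ℂ _ (ρ g) = LinearMap.trace ℂ _ (ρ 1)
      rw [hg, map_one ρ]
    push Not at hsimple
    obtain ⟨N, hN, hN1, hN2⟩ := hsimple
    haveI := hN
    obtain ⟨Q⟩ : Nonempty (Sylow p N) := inferInstance
    haveI hQn := hsub N hN2 Q
    haveI : Unique (Sylow p N) := Sylow.unique_of_normal Q hQn
    haveI : (Q : Subgroup N).Characteristic := Sylow.characteristic_of_normal Q hQn
    by_cases hQ1 : (Q : Subgroup N) = ⊥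
    · -- `N` is a `p'`-group
      have hNp : ¬ p ∣ Nat.card N := by
        have := Q.not_dvd_index
        rwa [hQ1, Subgroup.index_bot] at this
      by_cases hPN : (P : Subgroup G) ⊔ N = ⊤
      · have hcen := centralizes hdeg.not_dvd N hNp P hPN
        rw [← Subgroup.normalizer_eq_top_iff, eq_top_iff, ← hPN, sup_le_iff]
        refine ⟨Subgroup.le_normalizer, fun n hn => ?_⟩
        rw [Subgroup.mem_normalizer_iff]
        intro g
        constructor
        · intro hg
          rwa [← hcen n hn g hg, mul_inv_cancel_right]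
        · intro hg
          have h1 := hcen n hn _ hg
          rw [inv_mul_cancel_right] at h1
          have h2 : n * g * n⁻¹ = g := (mul_left_cancel h1).symm
          rwa [h2] at hg
      -- the preimage of the normal Sylow subgroup of the quotient
      have hlt : Nat.card (G ⧸ N) < c := by
        rw [← hc, Subgroup.card_eq_card_quotient_mul_card_subgroup N]
        exact lt_mul_of_one_lt_right Nat.card_pos
          (Finite.one_lt_card_iff_nontrivial.2 ((Subgroup.nontrivial_iff_ne_bot N).2 hN1))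
      have hbar := ih _ hlt (G ⧸ N) rfl (hdeg.quotient N)
        (P.mapSurjective (f := QuotientGroup.mk' N) (QuotientGroup.mk'_surjective N))
      have hnorm : ((P : Subgroup G) ⊔ N).Normal := by
        have h2 : (P : Subgroup G) ⊔ N =
            ((P : Subgroup G).map (QuotientGroup.mk' N)).comap (QuotientGroup.mk' N) := by
          rw [Subgroup.comap_map_eq, QuotientGroup.ker_mk']
        rw [h2]
        exact Subgroup.Normal.comap hbar _
      haveI := hnorm
      have hPn := hsub _ hPN (P.subtype le_sup_left)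
      haveI : ((P.subtype (le_sup_left : (P : Subgroup G) ≤ (P : Subgroup G) ⊔ N)) :
          Subgroup ((P : Subgroup G) ⊔ N : Subgroup G)).Characteristic :=
        Sylow.characteristic_of_normal _ hPn
      have h3 : ((P.subtype (le_sup_left : (P : Subgroup G) ≤ (P : Subgroup G) ⊔ N)) :
          Subgroup ((P : Subgroup G) ⊔ N : Subgroup G)).map ((P : Subgroup G) ⊔ N).subtype =
          (P : Subgroup G) := by
        rw [Sylow.coe_subtype, Subgroup.map_subgroupOf_eq_of_le le_sup_left]
      rw [← h3]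
      infer_instance
    · -- a normal `p`-subgroup
      set R := (Q : Subgroup N).map N.subtype with hR
      haveI : R.Normal := by rw [hR]; infer_instance
      have hR1 : R ≠ ⊥ := fun e => hQ1 ((Subgroup.map_eq_bot_iff_of_injective _ N.subtype_injective).1 e)
      have hRP : R ≤ (P : Subgroup G) := by
        have hRp : IsPGroup p R := by rw [hR]; exact Q.2.map N.subtype
        obtain ⟨P', hP'⟩ := hRp.exists_le_sylow
        obtain ⟨g, hg⟩ := MulAction.exists_smul_eq G P' P
        rw [← hg]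
        intro r hr
        refine ⟨g⁻¹ * r * g, hP' (by simpa using Subgroup.Normal.conj_mem inferInstance r hr g⁻¹), ?_⟩
        show g * (g⁻¹ * r * g) * g⁻¹ = r
        group
      have hlt : Nat.card (G ⧸ R) < c := by
        rw [← hc, Subgroup.card_eq_card_quotient_mul_card_subgroup R]
        exact lt_mul_of_one_lt_right Nat.card_pos
          (Finite.one_lt_card_iff_nontrivial.2 ((Subgroup.nontrivial_iff_ne_bot R).2 hR1))
      have hbar := ih _ hlt (G ⧸ R) rfl (hdeg.quotient R)
        (P.mapSurjective (f := QuotientGroup.mk' R) (QuotientGroup.mk'_surjective R))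
      have h2 : (P : Subgroup G) =
          ((P : Subgroup G).map (QuotientGroup.mk' R)).comap (QuotientGroup.mk' R) := by
        rw [Subgroup.comap_map_eq, QuotientGroup.ker_mk', sup_eq_left.2 hRP]
      rw [h2]
      exact Subgroup.Normal.comap hbar _

end CfsgLib.CharDegreesTheory.SmallDegrees
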